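import Cfsg.Agent.Lib.Bender.SolvClaim

/-!
# Solvability of a strongly embedded subgroup: statements

The induction statement and the statements of the pieces, see `notes/bender_solvable_helper9.md`.
-/

set_option autoImplicit false

namespace Cfsg.Agent.SEB

open Cfsg

universe u

/-- The induction statement: a strongly embedded subgroup with several classes of involutions is
solvable. -/
def Sol (G : Type u) [Group G] : Prop :=
  ∀ H : Subgroup G, Cfsg.IsStronglyEmbedded H → mbar ↥H ≠ 1 → Group.IsSolvable H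

/-- The standing hypotheses. -/
structure Min {G : Type u} [Group G] [Finite G] (H : Subgroup G) : Prop where
  hse : Cfsg.IsStronglyEmbedded H
  hm : mbar ↥H ≠ 1
  hN : H.normalCore = ⊥
  IH : ∀ M : Subgroup G, M ≠ ⊤ → Sol ↥M

/-- No non-trivial element of odd order inverted by an involution fixing `c` fixes another point. -/
def InvertFree {G : Type u} [Group G] (H : Subgroup G) : Prop :=
  ∀ (c a : G ⧸ H) (t y : G), orderOf t = 2 → t • c = c → t * y * t⁻¹ = y⁻¹ → Odd (orderOf y) →
    a ≠ c → y • c = c → y • a = a → y = 1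

/-- A `p`-subgroup, `p` dividing the number of involutions, with three fixed points is centralised by
two commuting involutions at each of its fixed points. -/
def FixRich {G : Type u} [Group G] (H : Subgroup G) : Prop :=
  ∀ (p : ℕ) (X : Subgroup G), p.Prime → p ∣ Bender.numInv H → IsPGroup p X → X ≠ ⊥ →
    3 ≤ (Bender.fixSet H X).ncard → ∀ c ∈ Bender.fixSet H X,
      ∃ s t : G, orderOf s = 2 ∧ orderOf t = 2 ∧ s ≠ t ∧ s • c = c ∧ t • c = c ∧ Commute s t ∧
        s ∈ Subgroup.centralizer (X : Set G) ∧ t ∈ Subgroup.centralizer (X : Set G)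

/-- Statement of the first piece. -/
def GoodStatement : Prop :=
  ∀ (G : Type u) [Group G] [Finite G] (H : Subgroup G), Min H → InvertFree H ∧ FixRich H

/-- The case of an elementary abelian group of involutions with torus of order `2 ^ r - 1`. -/
def ElementaryStatement : Prop :=
  ∀ (G : Type u) [Group G] [Finite G] (H : Subgroup G), Min H → InvertFree H →
    ∀ (c a : G ⧸ H) (Γ : Subgroup G) (x t : G) (r : ℕ),
    a ≠ c → r.Prime → Odd r → orderOf x = r → orderOf t = 2 → t • c = c →
    Bender.numInv H = 2 ^ r - 1 → Nat.card Γ = 2 ^ r - 1 → IsCyclic Γ →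
    St2 c a = Γ ⊔ Subgroup.zpowers x → St2 c a ≤ Subgroup.normalizer (Γ : Set G) →
    (∀ s s' : G, orderOf s = 2 → orderOf s' = 2 → s • c = c → s' • c = c → Commute s s') →
    (∀ s : G, orderOf s = 2 → s • c = c → (Commute x s ↔ s = t)) →
    (∀ γ ∈ Γ, γ ≠ 1 → {e : G ⧸ H | γ • e = e} = {c, a}) →
    (∀ γ ∈ Γ, γ ≠ 1 → ∀ s : G, orderOf s = 2 → s • c = c → ¬ Commute γ s) →
    ∀ h ∈ St c, ∃ d ∈ St2 c a, ∀ s : G, orderOf s = 2 → s • c = c → Commute (d⁻¹ * h) s

end Cfsg.Agent.SEB
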