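import Cfsg.Agent.Lib.Bender.Solvable.Defs
import Cfsg.Agent.S0205

/-!
# Solvability of a strongly embedded subgroup: the induction
-/

set_option autoImplicit false
set_option linter.style.haveILetI false
set_option linter.unusedSectionVars false

namespace Cfsg.Agent.SEB

open Cfsg

universe u

/-- The induction: it is enough to treat minimal configurations. -/
theorem sol_all_of
    (hmin : ∀ (G : Type u) [Group G] [Finite G] (H : Subgroup G), Min H → Group.IsSolvable H) :
    ∀ (G : Type u) [Group G] [Finite G], Sol G := by
  suffices h : ∀ n : ℕ, ∀ (G : Type u) [Group G] [Finite G], Nat.card G = n → Sol G from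
    fun G _ _ => h _ G rfl
  intro n
  induction n using Nat.strong_induction_on with
  | _ n ih =>
    intro G _ _ hn H hse hm
    subst hn
    by_cases hN : H.normalCore = ⊥
    · exact hmin G H ⟨hse, hm, hN, fun M hM => ih (Nat.card M) (lt_of_le_of_ne
        (Nat.le_of_dvd Nat.card_pos M.card_subgroup_dvd_card)
        fun e => hM (Subgroup.eq_top_of_card_eq M e)) ↥M rfl⟩
    · set N := H.normalCore
      set π := QuotientGroup.mk' N with hπ
      have hNodd : Odd (Nat.card N) := normalCore_odd hse
      have hker : π.ker = N := QuotientGroup.ker_mk' N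
      have hkodd : Odd (Nat.card (π.subgroupMap H).ker) := by
        refine hNodd.of_dvd_nat ?_
        rw [← Nat.card_congr
          ((π.subgroupMap H).ker.equivMapOfInjective H.subtype H.subtype_injective).symm.toEquiv]
        refine Subgroup.card_dvd_of_le ?_
        rintro _ ⟨x, hx, rfl⟩
        rw [← hker]
        exact congrArg Subtype.val (MonoidHom.mem_ker.1 hx)
      have hm' : mbar ↥(H.map π) ≠ 1 := fun h =>
        hm (Eq.trans (mbar_of_surjective (π.subgroupMap H) (π.subgroupMap_surjective H) hkodd) h)
      haveI : Group.IsSolvable ↥(H.map π) :=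
        ih (Nat.card (G ⧸ N)) (by
          rw [Subgroup.card_eq_card_quotient_mul_card_subgroup N]
          exact lt_mul_of_one_lt_right Nat.card_pos ((Subgroup.one_lt_card_iff_ne_bot _).2 hN))
          (G ⧸ N) rfl (H.map π) (se_map_odd hse N H.normalCore_le hNodd) hm'
      haveI : Group.IsSolvable ↥(π.subgroupMap H).ker := S0205.result hkodd
      exact Group.isSolvable_of_ker_le_range (π.subgroupMap H).ker.subtype (π.subgroupMap H)
        (by rw [Subgroup.range_subtype])

end Cfsg.Agent.SEB
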