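import Cfsg.Agent.Lib.Bender.Solvable.Defs
import Cfsg.Agent.Lib.Bender.EndgameKernel

/-!
# Solvability of a strongly embedded subgroup: the character pieces
-/

set_option autoImplicit false
set_option linter.style.haveILetI false

namespace Cfsg.Agent.SEB

open Cfsg
open Cfsg.Agent.Fusion.SEPairs

universe u

/-- A regular abelian subgroup with controlled fusion: the two possibilities for the orbits. -/
theorem dichotomy (N : Type u) [Group N] [Finite N] (I : Type u) [MulAction N I] [Finite I] (i₀ : I)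
    (D F : Subgroup N) (hFD : F ≤ D) (hDn : D ≤ Subgroup.normalizer (F : Set N))
    (hab : IsMulCommutative F) (htr : ∀ i : I, ∃ f ∈ F, f • i₀ = i)
    (hsemi : ∀ f ∈ F, f • i₀ = i₀ → f = 1)
    (hfree : ∀ d ∈ D, d • i₀ = i₀ → ∀ f ∈ F, d * f * d⁻¹ = f → d = 1 ∨ f = 1)
    (hTI : ∀ f ∈ F, f ≠ 1 → ∀ h : N, h * f * h⁻¹ ∈ D → h ∈ D) :
    (∀ g : N, g • i₀ = i₀ → ∀ i : I, ∃ d ∈ D, d • i₀ = i₀ ∧ d • i = g • i) ∨
      ∀ i j : I, i ≠ i₀ → j ≠ i₀ → ∃ g : N, g • i₀ = i₀ ∧ g • i = j := by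
  haveI := Fintype.ofFinite N
  set C := D ⊓ MulAction.stabilizer N i₀ with hC
  have hreg : ∀ i : I, ∃! f : N, f ∈ F ∧ f • i₀ = i := fun i => by
    obtain ⟨f, hf, hfi⟩ := htr i
    exact ⟨f, ⟨hf, hfi⟩, fun f' ⟨hf', hf'i⟩ => (inv_mul_eq_one.1 (hsemi (f⁻¹ * f')
      (mul_mem (inv_mem hf) hf') (by rw [mul_smul, hf'i, ← hfi, inv_smul_smul]))).symm⟩
  have hcomm : ∀ x ∈ F, ∀ y ∈ F, x * y = y * x := fun x hx y hy =>
    congrArg Subtype.val (hab.is_comm.comm (⟨x, hx⟩ : F) ⟨y, hy⟩)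
  have hres := Endgame.transitive_or_orbits (p := i₀) (F := F) (C := C) hcomm hreg inf_le_right
    (fun c hc f hf => Solv.conj_mem_of_mem_normalizer (hDn hc.1) hf)
    (fun c hc f hf e => hfree c hc.1 hc.2 f hf e) fun f hf hf1 g hg => by
      have hgD := hTI f hf hf1 g (hFD hg)
      obtain ⟨f', hf', hf'i⟩ := htr (g • i₀)
      refine ⟨f', hf', f'⁻¹ * g, ⟨D.mul_mem (D.inv_mem (hFD hf')) hgD, ?_⟩, by group⟩
      show (f'⁻¹ * g) • i₀ = i₀
      rw [mul_smul, ← hf'i, inv_smul_smul]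
  rcases hres with h | h
  · exact Or.inr fun i j hi hj => h i j hi hj
  · left
    intro g hg i
    obtain ⟨c, hc, e⟩ := h g hg i
    exact ⟨c, hc.1, hc.2, e⟩

/-- A transitive Frobenius subgroup with a central part avoiding interchanges. -/
theorem fourier (N : Type u) [Group N] [Finite N] (t x : N) (D F A B : Subgroup N)
    (ht : orderOf t = 2) (hodd : Odd (Nat.card D)) (hxp : (orderOf x).Prime) (hxD : x ∈ D)
    (hxt : Commute x t) (hex : ∀ g : N, ∃ d ∈ D, d * t * d⁻¹ = g * t * g⁻¹)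
    (hFD : F ≤ D) (hD : D = F ⊔ Subgroup.zpowers x) (hDn : D ≤ Subgroup.normalizer (F : Set N))
    (hDA : D ≤ Subgroup.normalizer (A : Set N)) (hDB : D ≤ Subgroup.normalizer (B : Set N))
    (hAB : A ⊔ B = F) (hABd : A ⊓ B = ⊥) (hA : A ≠ ⊥) (hAF : ∀ a ∈ A, ∀ f ∈ F, Commute a f)
    (hfix : ∀ f ∈ F, Commute f t → f ∈ B) (hfree : ∀ f ∈ F, Commute x f → f = 1)
    (hTI : ∀ f ∈ F, f ∉ B → ∀ h : N, h * f * h⁻¹ ∈ D → h ∈ D)
    (hN0 : ∀ a ∈ A, a ≠ 1 → ∀ g : N, (g * t * g⁻¹) * t * (g * t * g⁻¹)⁻¹ ≠ a * t * a⁻¹) :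
    ∃ K : Subgroup N, K.Normal ∧ t ∈ K ∧ ¬ A ≤ K := by
  haveI := Fintype.ofFinite N
  haveI := Fact.mk hxp
  by_contra hcon
  push Not at hcon
  have hAleF : A ≤ F := hAB ▸ le_sup_left
  have hBleF : B ≤ F := hAB ▸ le_sup_right
  have hprodD : ∀ d ∈ D, ∃ f ∈ F, ∃ c ∈ Subgroup.zpowers x, d = f * c := fun d hd => by
    rw [hD] at hd
    have h : d ∈ ((F ⊔ Subgroup.zpowers x : Subgroup N) : Set N) := hd
    rw [Subgroup.coe_mul_of_right_le_normalizer_left F (Subgroup.zpowers x)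
      ((Subgroup.zpowers_le.2 hxD).trans hDn)] at h
    obtain ⟨f, hf, c, hc, e⟩ := h
    exact ⟨f, hf, c, hc, e.symm⟩
  have hCD : Subgroup.zpowers x ≤ D := Subgroup.zpowers_le.2 hxD
  have hct : ∀ c ∈ Subgroup.zpowers x, c * t = t * c := fun c hc => by
    obtain ⟨i, rfl⟩ := Subgroup.mem_zpowers_iff.1 hc
    exact (hxt.zpow_left i).eq
  refine Endgame.false_of_factor (t := t) (F := F) (Q := B) (A := A) (C := Subgroup.zpowers x)
    (sq_one ht) (ne_one_of_invol ht) hBleF hAleF ?_ ?_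
    (fun b hb a ha => (hAF a ha b (hBleF hb)).eq.symm) (fun a ha b hb => (hAF a ha b (hAleF hb)).eq) hA
    (fun c hc b hb => Solv.conj_mem_of_mem_normalizer (hDB (hCD hc)) hb)
    (fun c hc a ha => Solv.conj_mem_of_mem_normalizer (hDA (hCD hc)) ha) ?_
    (hodd.of_dvd_nat (Subgroup.card_dvd_of_le hFD)) ?_ (fun f hf e => hfix f hf e) ?_ hN0
    fun K hK htK => hcon K hK htK
  · intro f hf
    have h : f ∈ ((B ⊔ A : Subgroup N) : Set N) := by
      rw [SetLike.mem_coe, sup_comm, hAB]; exact hf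
    rw [Subgroup.coe_mul_of_right_le_normalizer_left B A ((hAleF.trans hFD).trans hDB)] at h
    obtain ⟨b, hb, a, ha, e⟩ := h
    exact ⟨b, hb, a, ha, e.symm⟩
  · rw [inf_comm]; exact hABd
  · intro c hc f hf e
    by_cases hc1 : c = 1
    · exact Or.inl hc1
    refine Or.inr (hfree f hf ?_)
    have hgen : Subgroup.zpowers c = Subgroup.zpowers x := by
      refine Subgroup.eq_of_le_of_card_ge (Subgroup.zpowers_le.2 hc) ?_
      have hdvd : orderOf c ∣ orderOf x := by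
        obtain ⟨i, rfl⟩ := Subgroup.mem_zpowers_iff.1 hc
        exact orderOf_dvd_of_pow_eq_one (by rw [← zpow_natCast, ← zpow_mul, mul_comm, zpow_mul, zpow_natCast,
          pow_orderOf_eq_one, one_zpow])
      rw [Nat.card_zpowers, Nat.card_zpowers,
        ((Nat.dvd_prime hxp).1 hdvd).resolve_left (fun h => hc1 (orderOf_eq_one_iff.1 h))]
    obtain ⟨i, hi⟩ := Subgroup.mem_zpowers_iff.1 (hgen.symm ▸ Subgroup.mem_zpowers x)
    rw [← hi]
    have hcf : Commute c f := mul_inv_eq_iff_eq_mul.1 e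
    exact hcf.zpow_left i
  · intro g
    obtain ⟨d, hd, e⟩ := hex g
    obtain ⟨f, hf, c, hc, rfl⟩ := hprodD d hd
    refine ⟨f, hf, ?_⟩
    rw [← e, show f * c * t * (f * c)⁻¹ = f * (c * t * c⁻¹) * f⁻¹ by group, hct c hc, mul_inv_cancel_right]
  · intro f hf hfB g hg
    obtain ⟨f', hf', c, hc, e⟩ := hprodD g (hTI f hf hfB g (hFD hg))
    exact ⟨f', hf', c, hc, e⟩

end Cfsg.Agent.SEB
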