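import Cfsg.Agent.Lib.Bender.Solvable.Engine
import Cfsg.Agent.Lib.Char.ThreeIndex.Count
import Cfsg.Agent.S4037

/-!
# Solvability of a strongly embedded subgroup: criteria for commuting involutions
-/

set_option autoImplicit false
set_option linter.style.haveILetI false
set_option linter.unusedSectionVars false

open scoped Pointwise

namespace Cfsg.Agent.SEB

open Cfsg
open Cfsg.Agent.Fusion (SylIn cj)
open Cfsg.Agent.Fusion.SEPairs

universe u

/-- The join of two normal solvable subgroups is solvable. -/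
theorem isSolvable_sup_normal {X : Type u} [Group X] (A B : Subgroup X) [A.Normal]
    (hA : Group.IsSolvable A) (hB : Group.IsSolvable B) : Group.IsSolvable ↥(A ⊔ B) := by
  set π := QuotientGroup.mk' A
  haveI := hA
  haveI := hB
  have hrange : (A ⊔ B).map π = B.map π := by
    rw [Subgroup.map_sup, QuotientGroup.map_mk'_self, bot_sup_eq]
  haveI : Group.IsSolvable ↥((A ⊔ B).map π) := by
    rw [hrange]
    exact Group.isSolvable_of_surjective (f := π.subgroupMap B) (π.subgroupMap_surjective B)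
  refine Group.isSolvable_of_ker_le_range (Subgroup.inclusion (le_sup_left : A ≤ A ⊔ B))
    (π.subgroupMap (A ⊔ B)) fun x hx => ?_
  have h : (x : X) ∈ A := (QuotientGroup.eq_one_iff (x : X)).1 (congrArg Subtype.val (MonoidHom.mem_ker.1 hx))
  exact ⟨⟨x, h⟩, rfl⟩

variable {G : Type u} [Group G] [Finite G] {H : Subgroup G}

/-- A greatest solvable subgroup of `X` normalised by `X`. -/
theorem exists_greatest_solvable (X : Subgroup G) :
    ∃ K ≤ X, Group.IsSolvable K ∧ X ≤ Subgroup.normalizer (K : Set G) ∧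
      ∀ L ≤ X, Group.IsSolvable L → X ≤ Subgroup.normalizer (L : Set G) → L ≤ K := by
  obtain ⟨K, ⟨hKs, hKn⟩, hmax⟩ := Set.Finite.exists_maximal (Set.toFinite
    {K : Subgroup ↥X | Group.IsSolvable K ∧ K.Normal}) ⟨⊥, inferInstance, inferInstance⟩
  haveI := hKn
  refine ⟨K.map X.subtype, Subgroup.map_subtype_le K, ?_, fun g hg => ?_, fun L hLX hL hLn => ?_⟩
  · haveI := hKs
    exact Group.isSolvable_of_surjective (f := X.subtype.subgroupMap K) (X.subtype.subgroupMap_surjective K)
  · refine Fusion.mem_normalizer_of_cj_le ?_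
    rintro _ ⟨_, ⟨k, hk, rfl⟩, rfl⟩
    exact ⟨⟨g, hg⟩ * k * ⟨g, hg⟩⁻¹, hKn.conj_mem k hk _, rfl⟩
  · haveI hn : (L.subgroupOf X).Normal := Subgroup.normal_subgroupOf_of_le_normalizer hLn
    haveI : Group.IsSolvable ↥(L.subgroupOf X) :=
      Group.isSolvable_of_isSolvable_injective (f := (Subgroup.subgroupOfEquivOfLe hLX).toMonoidHom)
        (Subgroup.subgroupOfEquivOfLe hLX).injective
    have h : K ⊔ L.subgroupOf X ≤ K :=
      hmax ⟨isSolvable_sup_normal K _ hKs inferInstance, inferInstance⟩ le_sup_left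
    intro x hx
    exact ⟨⟨x, hLX hx⟩, h (Subgroup.mem_sup_right (Subgroup.mem_subgroupOf.2 hx)), rfl⟩

namespace Min

variable (hM : Min H) {c a : G ⧸ H} (hca : a ≠ c) {t : G} (ht : orderOf t = 2) (htc : t • c = c)
include hM hca ht htc

/-- An involution in the solvable radical of `T0` makes the involutions at the point commute. -/
theorem commAt_of_radical {L : Subgroup G} (hLs : Group.IsSolvable L) (hLT : L ≤ T0 c)
    (hLn : T0 c ≤ Subgroup.normalizer (L : Set G)) (htL : t ∈ L) : CommAt H c := by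
  obtain ⟨K, hKT, hKs, hKn, hmax⟩ := exists_greatest_solvable (T0 c)
  have hSK : ∀ g ∈ St c, cj K g ≤ K := fun g hg => by
    have hgT := Fusion.cj_eq_self (St_le_normalizer_T0 c hg)
    refine hmax _ ((Fusion.cj_mono hKT g).trans hgT.le) ?_ fun x hx => ?_
    · haveI := hKs
      exact Group.isSolvable_of_surjective (f := (MulAut.conj g).toMonoidHom.subgroupMap K)
        ((MulAut.conj g).toMonoidHom.subgroupMap_surjective K)
    · rw [← hgT] at hx
      obtain ⟨y, hy, rfl⟩ := hx
      refine Fusion.mem_normalizer_of_cj_le ?_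
      rintro _ ⟨_, ⟨k, hk, rfl⟩, rfl⟩
      exact ⟨y * k * y⁻¹, Solv.conj_mem_of_mem_normalizer (hKn hy) hk, by simp [mul_assoc]⟩
  refine hM.commAt_of_solvable hKs hSK (hKT.trans (T0_le c)) fun s hs hsc => ?_
  obtain ⟨d, hdc, -, rfl⟩ := pair_transitive hM.hse hca ht htc hs hsc
  exact hSK d hdc ⟨t, hmax L hLT hLs hLn htL, rfl⟩

/-- A class of commuting conjugates in `T0` makes the involutions at the point commute. -/
theorem commAt_of_class (h : ∀ g ∈ T0 c, Commute t (g * t * g⁻¹)) : CommAt H c := by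
  set L := Subgroup.closure {s : G | ∃ g ∈ T0 c, g * t * g⁻¹ = s} with hL
  have htT : t ∈ T0 c := invol_mem_T0 htc ht
  have hcomm : IsMulCommutative ↥L := Subgroup.isMulCommutative_closure (by
    rintro _ ⟨g, hg, rfl⟩ _ ⟨k, hk, rfl⟩
    have h1 := (Commute.conj_iff g).2 (h (g⁻¹ * k) (mul_mem (inv_mem hg) hk))
    rwa [show g * (g⁻¹ * k * t * (g⁻¹ * k)⁻¹) * g⁻¹ = k * t * k⁻¹ by group] at h1)
  have hLs : Group.IsSolvable ↥L := by
    haveI := hcomm
    letI : CommGroup ↥L := { (inferInstance : Group ↥L) with mul_comm := fun x y => mul_comm' x y }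
    infer_instance
  refine hM.commAt_of_radical hca ht htc hLs ?_ (fun x hx => ?_)
    (Subgroup.subset_closure ⟨1, one_mem _, by group⟩)
  · refine (Subgroup.closure_le _).2 ?_
    rintro _ ⟨g, hg, rfl⟩
    exact mul_mem (mul_mem hg htT) (inv_mem hg)
  · refine Fusion.mem_normalizer_of_cj_le ?_
    rw [hL, Fusion.cj, MonoidHom.map_closure, Subgroup.closure_le]
    rintro _ ⟨_, ⟨g, hg, rfl⟩, rfl⟩
    exact Subgroup.subset_closure ⟨x * g, mul_mem hx hg, by simp [mul_assoc]⟩

/-- A class of prime power size in `T0` makes the involutions at the point commute. -/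
theorem commAt_of_prime_power {q k : ℕ} (hq : q.Prime)
    (h : (D1 c a ⊓ Subgroup.centralizer {t}).relIndex (D1 c a) = q ^ k) : CommAt H c := by
  have htT : t ∈ T0 c := invol_mem_T0 htc ht
  set t' : ↥(T0 c) := ⟨t, htT⟩
  have hcard : (ConjClasses.mk t').carrier.ncard = q ^ k := by
    rw [← Set.ncard_image_of_injective _ Subtype.val_injective, ← h]
    have hor := card_eq_orbit_mul (D1 c a) t
      ((Subtype.val : ↥(T0 c) → G) '' (ConjClasses.mk t').carrier) fun s => by
      constructor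
      · rintro ⟨x, hx, rfl⟩
        rw [ConjClasses.mem_carrier_iff_mk_eq, ConjClasses.mk_eq_mk_iff_isConj] at hx
        obtain ⟨g, hg⟩ := isConj_iff.1 hx.symm
        obtain ⟨d, hd, hdg⟩ := hM.conj_D1 hca ht htc g.2
        exact ⟨d, hd, hdg.trans (congrArg Subtype.val hg)⟩
      · rintro ⟨d, hd, rfl⟩
        refine ⟨⟨d, hd.1⟩ * t' * ⟨d, hd.1⟩⁻¹, ?_, rfl⟩
        rw [ConjClasses.mem_carrier_iff_mk_eq, ConjClasses.mk_eq_mk_iff_isConj]
        exact (isConj_iff.2 ⟨_, rfl⟩).symm
    have h1 := ((D1 c a ⊓ Subgroup.centralizer {t}).subgroupOf (D1 c a)).card_mul_index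
    rw [Solv.card_subgroupOf inf_le_left, hor, mul_comm] at h1
    exact (Nat.eq_of_mul_eq_mul_right Nat.card_pos h1).symm
  have hsol := S4037.result t' hq k hcard
  set L' := Subgroup.normalClosure ({t'} : Set ↥(T0 c))
  haveI := hsol
  refine hM.commAt_of_radical hca ht htc (L := L'.map (T0 c).subtype)
    (Group.isSolvable_of_surjective (f := (T0 c).subtype.subgroupMap L')
      ((T0 c).subtype.subgroupMap_surjective L')) (Subgroup.map_subtype_le L') (fun g hg => ?_)
    ⟨t', Subgroup.subset_normalClosure rfl, rfl⟩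
  refine Fusion.mem_normalizer_of_cj_le ?_
  rintro _ ⟨_, ⟨x, hx, rfl⟩, rfl⟩
  exact ⟨⟨g, hg⟩ * x * ⟨g, hg⟩⁻¹, Subgroup.normalClosure_normal.conj_mem x hx _, rfl⟩

/-- An isolated involution of `T0` is central in it. -/
theorem central_of_isolated (h : ∀ g ∈ T0 c, Commute t (g * t * g⁻¹) → g * t * g⁻¹ = t) :
    ∀ g ∈ T0 c, g * t * g⁻¹ = t := by
  intro g hg
  have htT : t ∈ T0 c := invol_mem_T0 htc ht
  have hiso : Cfsg.IsIsolatedInvolution (⟨t, htT⟩ : ↥(T0 c)) :=
    ⟨(Subgroup.orderOf_coe _).symm.trans ht,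
      fun x hx => Subtype.ext (h x x.2 (congrArg Subtype.val hx.eq))⟩
  have hz := Char.zStar_isolated hiso ⟨g, hg⟩
  have hWc : OO (T0 c) ≤ Wc c := by
    intro x hx
    have hxc : x ∈ St c := T0_le c (OO_le _ hx)
    rw [← show ((⟨x, hxc⟩ : ↥(St c)) : G) = x from rfl, mem_Wc_of_mem]
    haveI : ((OO (T0 c)).subgroupOf (St c)).Normal :=
      Subgroup.normal_subgroupOf_of_le_normalizer fun y hy => OO_normalizer (St_le_normalizer_T0 c hy)
    refine le_oddCore ?_ (Subgroup.mem_subgroupOf.2 (show x ∈ OO (T0 c) from hx))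
    rw [Solv.card_subgroupOf ((OO_le _).trans (T0_le c))]
    exact OO_odd _
  have h1 : t * g * t⁻¹ * g⁻¹ ∈ Wc c := hWc ⟨_, hz, rfl⟩
  have h2 : g * t * g⁻¹ * t ∈ Wc c := by
    have h3 := inv_mem h1
    rwa [show (t * g * t⁻¹ * g⁻¹)⁻¹ = g * t * g⁻¹ * t⁻¹ by group, inv_self ht] at h3
  exact hM.eq_of_mul_mem_Wc (conj_involution ht g) ht
    (smul_involSet (T0_le c hg : g • c = c) ⟨ht, htc⟩).2 h2

/-- A normal subgroup with a fixed point free element of prime order from the pair stabiliser. -/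
theorem commAt_of_fpf {K : Subgroup G} (hKT : K ≤ T0 c) (hKn : T0 c ≤ Subgroup.normalizer (K : Set G))
    (htK : t ∈ K) {y : G} {p : ℕ} (hp : p.Prime) (hy : y ∈ D1 c a) (hyp : orderOf y = p)
    (hfix : ∀ k ∈ K, Commute k y → k = 1) : CommAt H c := by
  haveI : (K.subgroupOf (T0 c)).Normal := Subgroup.normal_subgroupOf_of_le_normalizer hKn
  haveI : Group.IsNilpotent ↥(K.subgroupOf (T0 c)) :=
    Char.ThreeIndex.nilpotent_of_fpf (K.subgroupOf (T0 c)) (y := ⟨y, hy.1⟩) hp
      ((Subgroup.orderOf_coe _).symm.trans hyp) fun k hk hky =>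
      Subtype.ext (hfix k (Subgroup.mem_subgroupOf.1 hk) (congrArg Subtype.val hky))
  exact hM.commAt_of_radical hca ht htc (L := K)
    (Group.isSolvable_of_surjective (f := (Subgroup.subgroupOfEquivOfLe hKT).toMonoidHom)
      (Subgroup.subgroupOfEquivOfLe hKT).surjective) hKT hKn htK

end Min

end Cfsg.Agent.SEB
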