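import Cfsg.Agent.Lib.Bender.Solvable.Cyclic
import Cfsg.Agent.Lib.Bender.Solvable.Radical
import Cfsg.Agent.Lib.Bender.Solvable.CharPieces

/-!
# Solvability of a strongly embedded subgroup: a fixed point of `t` in the Fitting subgroup

Then there is one transfer prime, the pair stabiliser of `T0` is the Fitting subgroup times `⟨x⟩`, the
fixed points of `t` are in one primary part of the Fitting subgroup and the other part is cyclic; the
character piece gives a proper normal subgroup of `T0`, so the involutions at the point commute.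
-/

set_option autoImplicit false
set_option linter.style.haveILetI false
set_option linter.unusedSectionVars false

open scoped Pointwise commutatorElement

namespace Cfsg.Agent.SEB

open Cfsg
open Cfsg.Agent.Fusion (SylIn cj)
open Cfsg.Agent.Fusion.SEPairs

universe u

section Groups

variable {G : Type u} [Group G]

/-- The commutators of a product with a normal factor. -/
theorem commutator_le_of_factor {F C D : Subgroup G} (hCF : C ≤ Subgroup.normalizer (F : Set G))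
    (h : ∀ g ∈ D, ∃ f ∈ F, ∃ k ∈ C, g = f * k) : ⁅D, D⁆ ≤ F ⊔ ⁅C, C⁆ := by
  refine Subgroup.commutator_le.2 fun v hv w hw => ?_
  obtain ⟨f, hf, k, hk, rfl⟩ := h v hv
  obtain ⟨g, hg, l, hl, rfl⟩ := h w hw
  rw [commutatorElement_def, show f * k * (g * l) * (f * k)⁻¹ * (g * l)⁻¹ =
    (f * (k * g * k⁻¹)) * ((k * l * k⁻¹) * f⁻¹ * (k * l * k⁻¹)⁻¹) *
      ((k * l * k⁻¹ * l⁻¹) * g⁻¹ * (k * l * k⁻¹ * l⁻¹)⁻¹) * (k * l * k⁻¹ * l⁻¹) by group]
  refine Subgroup.mul_mem_sup (mul_mem (mul_mem (mul_mem hf (Solv.conj_mem_of_mem_normalizer (hCF hk) hg))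
    (Solv.conj_mem_of_mem_normalizer (hCF (mul_mem (mul_mem hk hl) (inv_mem hk))) (inv_mem hf)))
    (Solv.conj_mem_of_mem_normalizer
      (hCF (mul_mem (mul_mem (mul_mem hk hl) (inv_mem hk)) (inv_mem hl))) (inv_mem hg))) ?_
  exact commutatorElement_def k l ▸ Subgroup.commutator_mem_commutator hk hl

/-- A solvable group whose abelianisation is covered by a central cyclic subgroup is that subgroup. -/
theorem eq_zpowers_of_sylow [Finite G] {C : Subgroup G} (hsol : Group.IsSolvable ↥C) {x : G} (hx : x ∈ C)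
    (hxc : ∀ g ∈ C, Commute x g)
    (h : ∀ (l : ℕ) [Fact l.Prime] (S : Subgroup G), SylIn l S C → S ≤ ⁅C, C⁆ ∨ S ≤ Subgroup.zpowers x) :
    C = Subgroup.zpowers x := by
  set Z := (Subgroup.zpowers x).subgroupOf C with hZ
  have hZc : Z ≤ Subgroup.center ↥C := fun z hz => Subgroup.mem_center_iff.2 fun w => by
    obtain ⟨i, hi⟩ := Subgroup.mem_zpowers_iff.1 (Subgroup.mem_subgroupOf.1 hz)
    refine Subtype.ext ?_
    show (w : G) * z = z * w
    rw [← hi]
    exact ((hxc w w.2).zpow_left i).eq.symm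
  have hsup : Z ⊔ commutator ↥C = ⊤ := by
    rw [← Subgroup.index_eq_one]
    by_contra hne'
    obtain ⟨l, hl, hld⟩ := Nat.exists_prime_and_dvd hne'
    haveI := Fact.mk hl
    obtain ⟨P⟩ : Nonempty (Sylow l ↥C) := inferInstance
    refine P.not_dvd_index (hld.trans (Subgroup.index_dvd_of_le ?_))
    rcases h l _ (Fusion.sylIn_map C P) with h' | h'
    · rw [← Subgroup.map_subtype_commutator, Subgroup.map_le_map_iff_of_injective C.subtype_injective] at h'
      exact h'.trans le_sup_right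
    · exact le_trans (fun z hz => Subgroup.mem_subgroupOf.2 (h' (Subgroup.mem_map_of_mem C.subtype hz)))
        le_sup_left
  have hab : commutator ↥C = ⊥ := by
    by_contra hne'
    haveI : Nontrivial ↥(commutator ↥C) := (Subgroup.nontrivial_iff_ne_bot _).2 hne'
    refine (Group.IsSolvable.commutator_lt_top_of_nontrivial ↥(commutator ↥C)).ne ?_
    have hle : commutator ↥C ≤ ⁅commutator ↥C, commutator ↥C⁆ := by
      have hdec : ∀ v : ↥C, ∃ z ∈ Subgroup.center ↥C, ∃ w ∈ commutator ↥C, v = z * w := fun v => by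
        have hv : v ∈ ((Z ⊔ commutator ↥C : Subgroup ↥C) : Set ↥C) := by
          rw [hsup]; exact Subgroup.mem_top v
        rw [Subgroup.coe_mul_of_right_le_normalizer_left _ _ (fun g _ =>
          Subgroup.centralizer_le_normalizer _ (Subgroup.mem_centralizer_iff.2 fun z hz =>
            (Subgroup.mem_center_iff.1 (hZc hz) g).symm))] at hv
        obtain ⟨z, hz, w, hw, rfl⟩ := hv
        exact ⟨z, hZc hz, w, hw, rfl⟩
      conv_lhs => rw [commutator_def]
      rw [Subgroup.commutator_le]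
      intro v _ w _
      obtain ⟨z, hz, v', hv', rfl⟩ := hdec v
      obtain ⟨z', hz', w', hw', rfl⟩ := hdec w
      have hz'c := Subgroup.mem_center_iff.1 hz'
      have : ⁅z * v', z' * w'⁆ = ⁅v', w'⁆ := by
        rw [commutatorElement_def, commutatorElement_def]
        calc z * v' * (z' * w') * (z * v')⁻¹ * (z' * w')⁻¹
            = z * (v' * z') * w' * v'⁻¹ * z⁻¹ * w'⁻¹ * z'⁻¹ := by group
          _ = z * (z' * v') * w' * v'⁻¹ * z⁻¹ * w'⁻¹ * z'⁻¹ := by rw [hz'c v']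
          _ = z * ((z' * v' * w' * v'⁻¹) * z⁻¹) * w'⁻¹ * z'⁻¹ := by group
          _ = z * (z⁻¹ * (z' * v' * w' * v'⁻¹)) * w'⁻¹ * z'⁻¹ := by
              rw [Subgroup.mem_center_iff.1 (inv_mem hz) _]
          _ = z' * (v' * w' * v'⁻¹ * w'⁻¹) * z'⁻¹ := by group
          _ = v' * w' * v'⁻¹ * w'⁻¹ := by rw [← hz'c _, mul_inv_cancel_right]
      rw [this]
      exact Subgroup.commutator_mem_commutator hv' hw'
    rw [eq_top_iff]
    intro v _
    obtain ⟨w, hw, hwv⟩ := (Subgroup.map_subtype_commutator (commutator ↥C)).symm ▸ hle v.2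
    exact (Subtype.ext hwv : w = v) ▸ hw
  rw [hab, sup_bot_eq] at hsup
  exact le_antisymm (Subgroup.subgroupOf_eq_top.1 hsup) (Subgroup.zpowers_le.2 hx)

end Groups

variable {G : Type u} [Group G] [Finite G] {H : Subgroup G} {c a : G ⧸ H} {t x : G} {r : ℕ} {R : Subgroup G}
variable (hM : Min H) (hIF : InvertFree H) (hFR : FixRich H) (hca : a ≠ c) (hne : D1 c a ≠ ⊥)
  (ht : orderOf t = 2) (htc : t • c = c) {f₀ : G} (hf₀ : f₀ ∈ FD c a) (hf₀1 : f₀ ≠ 1)
  (hf₀t : Commute f₀ t)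
include hM hIF hFR hca hne ht htc hf₀ hf₀1 hf₀t

/-- A rich subgroup of a primary part of the Fitting subgroup centralised by `t`. -/
theorem fix_rich : ∃ q : ℕ, q.Prime ∧ q ∣ Bender.numInv H ∧
    FQ q c a ⊓ Subgroup.centralizer ({t} : Set G) ≠ ⊥ := by
  obtain ⟨q, hq, hqdvd⟩ := Nat.exists_prime_and_dvd (n := orderOf f₀) (fun e => hf₀1 (orderOf_eq_one_iff.1 e))
  haveI := Fact.mk hq
  have hyo : orderOf (f₀ ^ (orderOf f₀ / q)) = q := orderOf_pow_orderOf_div (orderOf_pos f₀).ne' hqdvd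
  obtain ⟨hyQ, hqm⟩ := hM.prime_of_mem_FD hIF hFR hca hne ht htc (pow_mem hf₀ _) hyo
  refine ⟨q, hq, hqm, fun h0 => hq.ne_one ?_⟩
  have h1 : f₀ ^ (orderOf f₀ / q) ∈ FQ q c a ⊓ Subgroup.centralizer ({t} : Set G) :=
    ⟨hyQ, Subgroup.mem_centralizer_singleton_iff.2 (hf₀t.pow_left _).eq⟩
  rw [h0, Subgroup.mem_bot] at h1
  rw [← hyo, h1, orderOf_one]

variable (C : Core c a t x r R)
include C

/-- Every transfer element of `t` has the same prime. -/
theorem fix_prime {l : ℕ} {x' : G} {R' : Subgroup G} (C' : Core c a t x' l R') : l = r := by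
  by_contra hlr
  obtain ⟨q, hq, hqm, hM1⟩ := fix_rich hM hIF hFR hca hne ht htc hf₀ hf₀1 hf₀t
  haveI := Fact.mk hq
  set M := FQ q c a ⊓ Subgroup.centralizer ({t} : Set G)
  have hMp : IsPGroup q M := (FQ_isPGroup q c a).to_le inf_le_left
  have hMD : M ≤ St2 c a := inf_le_left.trans (FQ_le q c a)
  have htM : t ∈ Subgroup.centralizer (M : Set G) := Subgroup.mem_centralizer_iff.2 fun g hg =>
    Subgroup.mem_centralizer_singleton_iff.1 hg.2
  have hMn : ∀ g ∈ St2 c a, Commute g t → g ∈ Subgroup.normalizer (M : Set G) := fun g hg hgt => by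
    refine Fusion.mem_normalizer_of_cj_le ?_
    rintro _ ⟨z, hz, rfl⟩
    exact ⟨Solv.conj_mem_of_mem_normalizer (FQ_normalizer q c a hg) hz.1,
      Subgroup.mem_centralizer_singleton_iff.2
        ((hgt.mul_left (Subgroup.mem_centralizer_singleton_iff.1 hz.2)).mul_left hgt.inv_left).eq⟩
  have h2 := two_of_fix hM hIF hFR hca ht htc hqm hMp hM1 hMD htM
  obtain ⟨s, hs, hsc, hsE, hst⟩ := C.exists_other hM hIF hFR hca ht htc hMp hM1 hMD htM h2
  refine hst (C'.unique hM hIF hFR hca ht htc hs hsc ?_)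
  refine C.cent_of_coprime hM hIF hFR hca ht htc hMp hM1 hMD htM h2 (hMn x C.mem_D C.comm) C'.mem_D
    (hMn x' C'.mem_D C'.comm) C'.comm ?_ hsE
  rw [C'.ord]
  exact (Nat.coprime_primes C'.prime C.prime).2 hlr

/-- `R` has order `r`. -/
theorem fix_R : R = Subgroup.zpowers x := C.R_eq_of_fix hM hIF hFR hca hne ht htc hf₀ hf₀1 hf₀t

/-- Only `⟨x⟩` centralises `x` in the pair stabiliser of `T0`. -/
theorem fix_central {k : G} (hk : k ∈ D1 c a) (hkx : Commute k x) : k ∈ Subgroup.zpowers x := by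
  classical
  haveI := Fact.mk C.prime
  set C₀ := D1 c a ⊓ Subgroup.centralizer ({x} : Set G)
  have hxC : x ∈ C₀ := ⟨C.le_D1 C.mem, Subgroup.mem_centralizer_singleton_iff.2 rfl⟩
  have hxc : ∀ g ∈ C₀, Commute x g := fun g hg => (Subgroup.mem_centralizer_singleton_iff.1 hg.2).symm
  have hC₀n : C₀ ≤ Subgroup.normalizer (FD c a : Set G) :=
    inf_le_left.trans ((D1_le_St2 c a).trans (FD_normalizer c a))
  have hcomm := commutator_le_of_factor hC₀n (D := D1 c a) fun g hg => by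
    obtain ⟨f, hf, k, hk, hkx, rfl⟩ := C.factor hM hIF hFR hca hne ht htc hg
    exact ⟨f, hf, k, ⟨hk, Subgroup.mem_centralizer_singleton_iff.2 hkx.eq⟩, rfl⟩
  have hC'n : ⁅C₀, C₀⁆ ≤ C₀ := Subgroup.commutator_le.2 fun v hv w hw =>
    mul_mem (mul_mem (mul_mem hv hw) (inv_mem hv)) (inv_mem hw)
  have heq : C₀ = Subgroup.zpowers x := by
    refine eq_zpowers_of_sylow (S0205.result ((St2_odd hM.hse hca.symm).of_dvd_nat
      (Subgroup.card_dvd_of_le (inf_le_left.trans (D1_le_St2 c a))))) hxC hxc fun l _ S hS => ?_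
    obtain ⟨T, hT, hST⟩ := Fusion.exists_sylIn_ge hS.isPGroup (hS.le.trans inf_le_left)
    by_cases hle : T ≤ ⁅D1 c a, D1 c a⁆
    · left
      intro y hy
      have hy' : y ∈ ((FD c a ⊔ ⁅C₀, C₀⁆ : Subgroup G) : Set G) := hcomm (hle (hST hy))
      rw [Subgroup.coe_mul_of_right_le_normalizer_left _ _ (hC'n.trans hC₀n)] at hy'
      obtain ⟨f, hf, v, hv, rfl⟩ := hy'
      have hf' : f ∈ C₀ := by
        have h1 := mul_mem (hS.le hy) (inv_mem (hC'n hv))
        rwa [mul_inv_cancel_right] at h1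
      show f * v ∈ _
      rw [C.fix_free hM hIF hFR hca hne ht htc hf (hxc f hf'), one_mul]
      exact hv
    · right
      obtain ⟨x', R', C'⟩ := hM.exists_core_prime hIF hFR hca hT hle ht htc
      obtain rfl := fix_prime hM hIF hFR hca hne ht htc hf₀ hf₀1 hf₀t C C'
      have hRC : SylIn l R C₀ := C.syl.mono (le_inf C.le_D1 fun g hg =>
        Subgroup.mem_centralizer_singleton_iff.2 (C.central g hg).eq.symm) inf_le_left
      obtain ⟨g, hg, hgS⟩ := hRC.conj_eq hS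
      rw [← hgS, fix_R hM hIF hFR hca hne ht htc hf₀ hf₀1 hf₀t C]
      rintro _ ⟨z, hz, rfl⟩
      obtain ⟨i, rfl⟩ := Subgroup.mem_zpowers_iff.1 hz
      show g * x ^ i * g⁻¹ ∈ _
      rw [← ((hxc g hg).zpow_left i).eq, mul_inv_cancel_right]
      exact Subgroup.zpow_mem_zpowers x i
  exact heq ▸ (⟨hk, Subgroup.mem_centralizer_singleton_iff.2 hkx.eq⟩ : k ∈ C₀)

/-- The pair stabiliser of `T0` is the Fitting subgroup times `⟨x⟩`. -/
theorem fix_factor {g : G} (hg : g ∈ D1 c a) : ∃ f ∈ FD c a, ∃ i : ℤ, g = f * x ^ i := by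
  obtain ⟨f, hf, k, hk, hkx, rfl⟩ := C.factor hM hIF hFR hca hne ht htc hg
  obtain ⟨i, rfl⟩ := Subgroup.mem_zpowers_iff.1
    (fix_central hM hIF hFR hca hne ht htc hf₀ hf₀1 hf₀t C hk hkx)
  exact ⟨f, hf, i, rfl⟩

theorem fix_D1_eq : D1 c a = FD c a ⊔ Subgroup.zpowers x := by
  refine le_antisymm (fun g hg => ?_)
    (sup_le (C.FD_le_D1 hM hIF hFR hca hne ht htc) (Subgroup.zpowers_le.2 (C.le_D1 C.mem)))
  obtain ⟨f, hf, i, rfl⟩ := fix_factor hM hIF hFR hca hne ht htc hf₀ hf₀1 hf₀t C hg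
  exact Subgroup.mul_mem_sup hf (Subgroup.zpow_mem_zpowers x i)

/-- The elements of order prime to `r` lie in the Fitting subgroup. -/
theorem fix_mem_FD {g : G} (hg : g ∈ D1 c a) (ho : (orderOf g).Coprime r) : g ∈ FD c a := by
  set D := D1 c a
  haveI : ((FD c a).subgroupOf D).Normal :=
    Subgroup.normal_subgroupOf_of_le_normalizer ((D1_le_St2 c a).trans (FD_normalizer c a))
  set π := QuotientGroup.mk' ((FD c a).subgroupOf D)
  obtain ⟨f, hf, i, rfl⟩ := fix_factor hM hIF hFR hca hne ht htc hf₀ hf₀1 hf₀t C hg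
  have hfD : f ∈ D := C.FD_le_D1 hM hIF hFR hca hne ht htc hf
  have hxD : x ∈ D := C.le_D1 C.mem
  have hπ : π ⟨f * x ^ i, hg⟩ = π ⟨x, hxD⟩ ^ i := by
    rw [show (⟨f * x ^ i, hg⟩ : D) = ⟨f, hfD⟩ * ⟨x, hxD⟩ ^ i from Subtype.ext (by simp), map_mul, map_zpow,
      show π ⟨f, hfD⟩ = 1 from (QuotientGroup.eq_one_iff _).2 hf, one_mul]
  have h1 : orderOf (π ⟨f * x ^ i, hg⟩) ∣ orderOf (f * x ^ i) := by
    refine (orderOf_map_dvd π _).trans ?_
    rw [Subgroup.orderOf_mk]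
  have h2 : orderOf (π ⟨f * x ^ i, hg⟩) ∣ r := by
    rw [hπ]
    refine orderOf_dvd_of_pow_eq_one ?_
    rw [← zpow_natCast, ← zpow_mul, mul_comm, zpow_mul, zpow_natCast, ← map_pow,
      show (⟨x, hxD⟩ : D) ^ r = 1 from Subtype.ext (by
        show x ^ r = 1
        rw [← C.ord, pow_orderOf_eq_one]), map_one, one_zpow]
  have h3 := Nat.dvd_gcd h1 h2
  rw [ho.gcd_eq_one, Nat.dvd_one] at h3
  exact Subgroup.mem_subgroupOf.1 ((QuotientGroup.eq_one_iff _).1 (orderOf_eq_one_iff.1 h3))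

omit hf₀ hf₀1 hf₀t C in
/-- The complement of a primary part of the Fitting subgroup. -/
theorem fix_split_FD (q : ℕ) [Fact q.Prime] :
    ∃ A ≤ FD c a, FQ q c a ⊔ A = FD c a ∧ (∀ f ∈ FD c a, f ∈ A ↔ (orderOf f).Coprime q) ∧
      ∀ y ∈ FQ q c a, ∀ z ∈ A, Commute y z := by
  classical
  set F := FD c a
  set B := (FQ q c a).subgroupOf F with hB
  have hBF : FQ q c a ≤ F := FQ_le_FD q c a
  haveI : B.Normal := Subgroup.normal_subgroupOf_of_le_normalizer ((FD_le c a).trans (FQ_normalizer q c a))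
  have hBp : IsPGroup q B :=
    (FQ_isPGroup q c a).comap_of_injective F.subtype F.subtype_injective
  obtain ⟨P⟩ : Nonempty (Sylow q ↥F) := inferInstance
  have hPB : (P : Subgroup ↥F) = B := by
    have hle : (P : Subgroup ↥F) ≤ B := fun z hz => by
      obtain ⟨k, hk⟩ := IsPGroup.iff_orderOf.1 P.2 ⟨z, hz⟩
      rw [Subgroup.orderOf_mk] at hk
      exact Subgroup.mem_subgroupOf.2 (mem_FQ z.2 (k := k) (by rw [← hk, Subgroup.orderOf_coe]))
    exact (P.3 hBp hle).symm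
  have hcop : (Nat.card B).Coprime B.index := hPB ▸ P.card_coprime_index
  obtain ⟨A₀, hA₀⟩ := Subgroup.exists_right_complement'_of_coprime hcop
  have hcard : Nat.card A₀ = B.index := hA₀.symm.index_eq_card.symm
  have hqA : (Nat.card A₀).Coprime q :=
    (Nat.Coprime.symm ((Nat.Prime.coprime_iff_not_dvd Fact.out).2 (hcard ▸ hPB ▸ P.not_dvd_index)))
  have hAB : A₀ ≤ Subgroup.centralizer (B : Set ↥F) := by
    rw [← Subgroup.subgroupOf_eq_top, ← Subgroup.index_eq_one]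
    by_contra hne'
    obtain ⟨p, hp, hpd⟩ := Nat.exists_prime_and_dvd hne'
    haveI := Fact.mk hp
    obtain ⟨S⟩ : Nonempty (Sylow p ↥A₀) := inferInstance
    refine S.not_dvd_index (hpd.trans (Subgroup.index_dvd_of_le fun z hz => ?_))
    have hpq : p ≠ q := by
      rintro rfl
      exact (Nat.Prime.coprime_iff_not_dvd hp).1 hqA.symm (hpd.trans (Subgroup.index_dvd_card _))
    refine Subgroup.mem_subgroupOf.2 (Subgroup.mem_centralizer_iff.2 fun y hy => Subtype.ext ?_)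
    obtain ⟨k, hk⟩ := IsPGroup.iff_orderOf.1 S.2 ⟨z, hz⟩
    rw [Subgroup.orderOf_mk] at hk
    exact (FQ_commute (Ne.symm hpq) (Subgroup.mem_subgroupOf.1 hy)
      (mem_FQ (z : ↥F).2 (k := k) (by rw [← hk, Subgroup.orderOf_coe, Subgroup.orderOf_coe]))).eq
  have hprod : ∀ f : ↥F, ∃ b ∈ B, ∃ z ∈ A₀, f = b * z := fun f => by
    obtain ⟨⟨b, z⟩, hbz⟩ := hA₀.2 f
    exact ⟨b, b.2, z, z.2, hbz.symm⟩
  refine ⟨A₀.map F.subtype, Subgroup.map_subtype_le _, le_antisymm (sup_le hBF (Subgroup.map_subtype_le _))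
    (fun f hf => ?_), fun f hf => ⟨?_, fun ho => ?_⟩, ?_⟩
  · obtain ⟨b, hb, z, hz, hfbz⟩ := hprod ⟨f, hf⟩
    rw [show f = (b : G) * z from congrArg Subtype.val hfbz]
    exact Subgroup.mul_mem_sup (Subgroup.mem_subgroupOf.1 hb) (Subgroup.mem_map_of_mem F.subtype hz)
  · rintro ⟨z, hz, rfl⟩
    refine hqA.coprime_dvd_left ?_
    show orderOf (z : G) ∣ _
    rw [Subgroup.orderOf_coe]
    exact Subgroup.orderOf_dvd_natCard A₀ hz
  · obtain ⟨b, hb, z, hz, hfbz⟩ := hprod ⟨f, hf⟩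
    have hcm : Commute b z := Subgroup.mem_centralizer_iff.1 (hAB hz) b hb
    have hzn : z ^ Nat.card A₀ = 1 :=
      orderOf_dvd_iff_pow_eq_one.1 (Subgroup.orderOf_dvd_natCard A₀ hz)
    have hfo : (⟨f, hf⟩ : F) ^ orderOf f = 1 := Subtype.ext (pow_orderOf_eq_one f)
    have hb1 : b ^ (orderOf f * Nat.card A₀) = 1 := by
      have h : (⟨f, hf⟩ : F) ^ (orderOf f * Nat.card A₀) = 1 := by rw [pow_mul, hfo, one_pow]
      rwa [hfbz, hcm.mul_pow, mul_comm _ (Nat.card A₀), pow_mul z, hzn, one_pow, mul_one,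
        mul_comm (Nat.card A₀)] at h
    obtain ⟨k, hk⟩ := IsPGroup.iff_orderOf.1 hBp ⟨b, hb⟩
    rw [Subgroup.orderOf_mk] at hk
    have hd := orderOf_dvd_of_pow_eq_one hb1
    rw [hk] at hd
    have h0 := Nat.eq_one_of_dvd_coprimes ((ho.mul_left hqA).symm.pow_left k) dvd_rfl hd
    rw [← hk, orderOf_eq_one_iff] at h0
    rw [h0, one_mul] at hfbz
    exact ⟨z, hz, congrArg Subtype.val hfbz.symm⟩
  · rintro y hy _ ⟨z, hz, rfl⟩
    exact congrArg Subtype.val (Subgroup.mem_centralizer_iff.1 (hAB hz) ⟨y, hBF hy⟩ hy)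

/-- A subgroup of the primary part centralised by `t` makes the other parts fixed point free. -/
theorem fix_only {q : ℕ} [Fact q.Prime] (hqm : q ∣ Bender.numInv H)
    (hq1 : FQ q c a ⊓ Subgroup.centralizer ({t} : Set G) ≠ ⊥) {f : G} (hf : f ∈ FD c a)
    (hft : Commute f t) : ∃ k, orderOf f = q ^ k := by
  classical
  by_contra hcon
  push Not at hcon
  obtain ⟨p, hp, hpd, hpq⟩ : ∃ p, p.Prime ∧ p ∣ orderOf f ∧ p ≠ q := by
    by_contra hall
    push Not at hall
    exact hcon _ (Nat.eq_prime_pow_of_unique_prime_dvd (orderOf_pos f).ne' fun hd hdd => hall _ hd hdd)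
  haveI := Fact.mk hp
  set y := f ^ (orderOf f / p)
  have hyo : orderOf y = p := orderOf_pow_orderOf_div (orderOf_pos f).ne' hpd
  obtain ⟨hyP, hpm⟩ := hM.prime_of_mem_FD hIF hFR hca hne ht htc (pow_mem hf _ : y ∈ FD c a) hyo
  obtain ⟨A, hAF, hsup, hAiff, hAcomm⟩ := fix_split_FD hM hIF hFR hca hne ht htc (c := c) (a := a) q
  set M := FQ q c a ⊓ Subgroup.centralizer ({t} : Set G)
  have hMp : IsPGroup q M := (FQ_isPGroup q c a).to_le inf_le_left
  have hMD : M ≤ St2 c a := inf_le_left.trans (FQ_le q c a)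
  have htM : t ∈ Subgroup.centralizer (M : Set G) := Subgroup.mem_centralizer_iff.2 fun g hg =>
    Subgroup.mem_centralizer_singleton_iff.1 hg.2
  have h2 := two_of_fix hM hIF hFR hca ht htc hqm hMp hq1 hMD htM
  have hxM : x ∈ Subgroup.normalizer (M : Set G) := by
    refine Fusion.mem_normalizer_of_cj_le ?_
    rintro _ ⟨z, hz, rfl⟩
    exact ⟨Solv.conj_mem_of_mem_normalizer (FQ_normalizer q c a C.mem_D) hz.1,
      Subgroup.mem_centralizer_singleton_iff.2
        ((C.comm.mul_left (Subgroup.mem_centralizer_singleton_iff.1 hz.2)).mul_left C.comm.inv_left).eq⟩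
  have hAM : A ≤ Subgroup.centralizer (M : Set G) := fun z hz =>
    Subgroup.mem_centralizer_iff.2 fun w hw => (hAcomm w hw.1 z hz).eq
  set N := FQ p c a ⊓ Subgroup.centralizer ({t} : Set G)
  have hyN : y ∈ N := ⟨hyP, Subgroup.mem_centralizer_singleton_iff.2 (hft.pow_left _).eq⟩
  have hPA : FQ p c a ≤ A := fun z hz => by
    obtain ⟨k, hk⟩ := IsPGroup.iff_orderOf.1 (FQ_isPGroup p c a) ⟨z, hz⟩
    rw [Subgroup.orderOf_mk] at hk
    exact (hAiff z (FQ_le_FD p c a hz)).2 (hk ▸ Nat.Coprime.pow_left k ((Nat.coprime_primes hp Fact.out).2 hpq))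
  have htE : t ∈ EX M c := invol_mem_EX ht htc htM
  have hNE : N = FQ p c a ⊓ Subgroup.centralizer ((EX M c : Subgroup G) : Set G) := by
    refine le_antisymm (fun z hz => ⟨hz.1, Subgroup.mem_centralizer_iff.2 fun s hs => ?_⟩) fun z hz =>
      ⟨hz.1, Subgroup.mem_centralizer_singleton_iff.2 (Subgroup.mem_centralizer_iff.1 hz.2 t htE).symm⟩
    obtain ⟨k, hk⟩ := IsPGroup.iff_orderOf.1 (FQ_isPGroup p c a) ⟨z, hz.1⟩
    rw [Subgroup.orderOf_mk] at hk
    exact (C.cent_of_coprime hM hIF hFR hca ht htc hMp hq1 hMD htM h2 hxM (FQ_le p c a hz.1)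
      (Subgroup.centralizer_le_normalizer _ (hAM (hPA hz.1))) (Subgroup.mem_centralizer_singleton_iff.1 hz.2)
      (hk ▸ Nat.Coprime.pow_left k ((Nat.coprime_primes hp C.prime).2
        fun e => C.not_dvd hM hIF hFR hca ht htc (e ▸ hpm))) hs).eq.symm
  have hAN : A ≤ Subgroup.normalizer (N : Set G) := fun g hg => by
    have hgD : g ∈ St2 c a := FD_le c a (hAF hg)
    have hgE := Fusion.cj_eq_self (EX_normalizer (show g • c = c from hgD.1)
      (Subgroup.centralizer_le_normalizer _ (hAM hg)))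
    refine Fusion.mem_normalizer_of_cj_le (le_of_eq ?_)
    rw [hNE, Fusion.cj_inf, Fusion.cj_centralizer, hgE, Fusion.cj_eq_self (FQ_normalizer p c a hgD)]
  have hNn : D1 c a ≤ Subgroup.normalizer (N : Set G) := by
    rw [fix_D1_eq hM hIF hFR hca hne ht htc hf₀ hf₀1 hf₀t C]
    refine sup_le (hsup ▸ sup_le (fun g hg => Subgroup.centralizer_le_normalizer _
      (Subgroup.mem_centralizer_iff.2 fun w hw => (FQ_commute hpq hw.1 hg).eq)) hAN) ?_
    refine Subgroup.zpowers_le.2 (Fusion.mem_normalizer_of_cj_le ?_)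
    rintro _ ⟨z, hz, rfl⟩
    exact ⟨Solv.conj_mem_of_mem_normalizer (FQ_normalizer p c a C.mem_D) hz.1,
      Subgroup.mem_centralizer_singleton_iff.2
        ((C.comm.mul_left (Subgroup.mem_centralizer_singleton_iff.1 hz.2)).mul_left C.comm.inv_left).eq⟩
  refine hM.no_normal_D1 hIF hFR hca hne ht htc ((FQ_isPGroup p c a).to_le inf_le_left) (fun h0 => ?_)
    (inf_le_left.trans ((FQ_le_FD p c a).trans (C.FD_le_D1 hM hIF hFR hca hne ht htc))) hNn
    (Subgroup.mem_centralizer_iff.2 fun g hg => Subgroup.mem_centralizer_singleton_iff.1 hg.2)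
  rw [show N = ⊥ from h0, Subgroup.mem_bot] at hyN
  rw [hyN, orderOf_one] at hyo
  exact hp.ne_one hyo.symm

variable {q : ℕ} [hqF : Fact q.Prime] (hqm : q ∣ Bender.numInv H)
  (hq1 : FQ q c a ⊓ Subgroup.centralizer ({t} : Set G) ≠ ⊥)
include hqm hq1

/-- An element with a part of order prime to `q` fixes only the pair. -/
theorem fixed_pair {f : G} (hf : f ∈ FD c a) (hfB : f ∉ FQ q c a) {e : G ⧸ H} (he : f • e = e) :
    e = c ∨ e = a := by
  classical
  by_contra hne'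
  push Not at hne'
  obtain ⟨p, hp, hpd, hpq⟩ : ∃ p, p.Prime ∧ p ∣ orderOf f ∧ p ≠ q := by
    by_contra hall
    push Not at hall
    exact hfB (mem_FQ hf (Nat.eq_prime_pow_of_unique_prime_dvd (orderOf_pos f).ne' fun hd hdd => hall _ hd hdd))
  haveI := Fact.mk hp
  set y := f ^ (orderOf f / p)
  have hyo : orderOf y = p := orderOf_pow_orderOf_div (orderOf_pos f).ne' hpd
  have hy1 : y ≠ 1 := fun h => hp.ne_one (by rw [← hyo, h, orderOf_one])
  have hyF : y ∈ FD c a := pow_mem hf _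
  obtain ⟨-, hpm⟩ := hM.prime_of_mem_FD hIF hFR hca hne ht htc hyF hyo
  have hfix : ∀ w : G ⧸ H, f • w = w → w ∈ Bender.fixSet H (Subgroup.zpowers y) := fun w hw =>
    Subgroup.zpowers_le.2 (Subgroup.pow_mem _ (show f ∈ St w from hw) _)
  obtain ⟨s, -, hs, -, -, hsc, -, -, hsX, -⟩ := hFR p _ hp hpm
    (IsPGroup.of_card (n := 1) (by rw [Nat.card_zpowers, hyo, pow_one])) (Subgroup.zpowers_ne_bot.2 hy1)
    (Set.two_lt_ncard_iff (Set.toFinite _) |>.2 ⟨c, a, e, hfix c (FD_le c a hf).1, hfix a (FD_le c a hf).2,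
      hfix e he, hca.symm, hne'.1.symm, hne'.2.symm⟩) c (hfix c (FD_le c a hf).1)
  obtain ⟨d, hdc, hda, rfl⟩ := pair_transitive hM.hse hca hs hsc ht htc
  obtain ⟨k, hk⟩ := fix_only hM hIF hFR hca hne ht htc hf₀ hf₀1 hf₀t C hqm hq1
    (Solv.conj_mem_of_mem_normalizer (FD_normalizer c a ⟨hdc, hda⟩) hyF)
    ((show Commute y s from Subgroup.mem_centralizer_iff.1 hsX y (Subgroup.mem_zpowers y)).map
      (MulAut.conj d).toMonoidHom)
  rw [show orderOf (d * y * d⁻¹) = p from (MulEquiv.orderOf_eq (MulAut.conj d) y).trans hyo] at hk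
  exact hpq ((Nat.prime_dvd_prime_iff_eq hp Fact.out).1 (hp.dvd_of_dvd_pow (hk ▸ dvd_rfl : p ∣ q ^ k)))

/-- A `q`-element of the pair stabiliser of `T0` centralising `t` lies in the primary part. -/
theorem fix_q_elt {g : G} (hg : g ∈ D1 c a) (hgt : Commute g t) {k : ℕ} (hgo : orderOf g = q ^ k) :
    g ∈ FQ q c a ⊓ Subgroup.centralizer ({t} : Set G) := by
  refine ⟨mem_FQ (fix_mem_FD hM hIF hFR hca hne ht htc hf₀ hf₀1 hf₀t C hg ?_) hgo,
    Subgroup.mem_centralizer_singleton_iff.2 hgt.eq⟩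
  rw [hgo]
  exact Nat.Coprime.pow_left k ((Nat.coprime_primes hqF.out C.prime).2
    fun e => C.not_dvd hM hIF hFR hca ht htc (e ▸ hqm))

/-- No conjugate of `t` in `T0` interchanges `t` and its conjugate by an element prime to `q`. -/
theorem fix_no_swap {A : Subgroup G} (hAF : A ≤ FD c a)
    (hAiff : ∀ f ∈ FD c a, f ∈ A ↔ (orderOf f).Coprime q) (hAcomm : ∀ y ∈ FQ q c a, ∀ z ∈ A, Commute y z)
    {z : G} (hz : z ∈ A) (hz1 : z ≠ 1) {g : G} (hg : g ∈ T0 c)
    (hsw : (g * t * g⁻¹) * t * (g * t * g⁻¹)⁻¹ = z * t * z⁻¹) : False := by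
  classical
  set w := g * t * g⁻¹ with hw_def
  set t' := z * t * z⁻¹ with ht'_def
  have hw : orderOf w = 2 := (MulEquiv.orderOf_eq (MulAut.conj g) t).trans ht
  have hwT : w ∈ T0 c := mul_mem (mul_mem hg (invol_mem_T0 htc ht)) (inv_mem hg)
  have hzD : z ∈ St2 c a := FD_le c a (hAF hz)
  have hzc : z • c = c := hzD.1
  have ht' : orderOf t' = 2 := (MulEquiv.orderOf_eq (MulAut.conj z) t).trans ht
  have ht'c : t' • c = c := by
    rw [ht'_def, mul_smul, mul_smul, inv_smul_eq_iff.2 hzc.symm, htc, hzc]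
  set M := FQ q c a ⊓ Subgroup.centralizer ({t} : Set G)
  have hMp : IsPGroup q M := (FQ_isPGroup q c a).to_le inf_le_left
  have hMD : M ≤ St2 c a := inf_le_left.trans (FQ_le q c a)
  have htM : t ∈ Subgroup.centralizer (M : Set G) := Subgroup.mem_centralizer_iff.2 fun v hv =>
    Subgroup.mem_centralizer_singleton_iff.1 hv.2
  have hMt' : ∀ v ∈ M, Commute v t' := fun v hv =>
    ((hAcomm v hv.1 z hz).mul_right (Subgroup.mem_centralizer_singleton_iff.1 hv.2)).mul_right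
      (hAcomm v hv.1 z hz).inv_right
  have ht'M : t' ∈ Subgroup.centralizer (M : Set G) :=
    Subgroup.mem_centralizer_iff.2 fun v hv => (hMt' v hv).eq
  have h2 := two_of_fix hM hIF hFR hca ht htc hqm hMp hq1 hMD htM
  have hs : Split M c := split_of_two hM hFR hIF hMp hq1 hca hMD h2
  set C₂ := T0 c ⊓ (Subgroup.centralizer ({t} : Set G) ⊓ Subgroup.centralizer ({t'} : Set G))
  have hMC : M ≤ C₂ ⊓ St2 c a := fun v hv =>
    ⟨⟨(C.FD_le_D1 hM hIF hFR hca hne ht htc (FQ_le_FD q c a hv.1)).1, hv.2,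
      Subgroup.mem_centralizer_singleton_iff.2 (hMt' v hv).eq⟩, hMD hv⟩
  have hQ : SylIn q M (C₂ ⊓ St2 c a) := by
    obtain ⟨Q, hQ, hMQ⟩ := Fusion.exists_sylIn_ge hMp hMC
    have hle : Q ≤ M := fun v hv => by
      obtain ⟨k, hk⟩ := IsPGroup.iff_orderOf.1 hQ.isPGroup ⟨v, hv⟩
      rw [Subgroup.orderOf_mk] at hk
      exact fix_q_elt hM hIF hFR hca hne ht htc hf₀ hf₀1 hf₀t C hqm hq1
        ⟨(hQ.le hv).1.1, (hQ.le hv).2⟩ (Subgroup.mem_centralizer_singleton_iff.1 (hQ.le hv).1.2.1) hk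
    exact le_antisymm hMQ hle ▸ hQ
  have hCn : TwoGen (Subgroup.centralizer (M : Set G)) c ≤ Subgroup.normalizer (C₂ : Set G) := fun v hv =>
    Subgroup.le_normalizer ⟨TwoGen_le_T0 _ c hv,
      Subgroup.mem_centralizer_singleton_iff.2 (hs.central t htM ht htc v hv).eq.symm,
      Subgroup.mem_centralizer_singleton_iff.2 (hs.central t' ht'M ht' ht'c v hv).eq.symm⟩
  have hS := hs.sylow_up hM.hse hca (hM.p_ne_two hqm) (inf_le_left.trans (T0_le c)) hCn hQ
  have hwt' : w * t' * w⁻¹ = t := by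
    rw [← hsw, show w * (w * t * w⁻¹) * w⁻¹ = (w * w) * t * (w * w)⁻¹ by group, sq_one hw]
    group
  have hwn : w ∈ Subgroup.normalizer (C₂ : Set G) := by
    refine Fusion.mem_normalizer_of_cj_le ?_
    rintro _ ⟨v, hv, rfl⟩
    have h1 : Commute v t := Subgroup.mem_centralizer_singleton_iff.1 hv.2.1
    have h2' : Commute v t' := Subgroup.mem_centralizer_singleton_iff.1 hv.2.2
    show w * v * w⁻¹ ∈ C₂
    refine ⟨(T0 c).mul_mem ((T0 c).mul_mem hwT hv.1) ((T0 c).inv_mem hwT), ?_, ?_⟩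
    · exact Subgroup.mem_centralizer_singleton_iff.2 (hwt' ▸ h2'.map (MulAut.conj w).toMonoidHom : Commute _ t).eq
    · exact Subgroup.mem_centralizer_singleton_iff.2 (hsw ▸ h1.map (MulAut.conj w).toMonoidHom : Commute _ t').eq
  obtain ⟨k, hk, hkM⟩ := hS.conj_eq (hS.cj' hwn)
  have hnM : k⁻¹ * w ∈ Subgroup.normalizer (M : Set G) := by
    refine Fusion.mem_normalizer_iff_cj.2 ?_
    rw [← Fusion.cj_cj, ← hkM, Fusion.cj_cj_inv]
  have hkt : Commute k t := Subgroup.mem_centralizer_singleton_iff.1 hk.2.1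
  have hkt' : Commute k t' := Subgroup.mem_centralizer_singleton_iff.1 hk.2.2
  set n := k⁻¹ * w with hn
  have hn1 : n * t * n⁻¹ = t' := by
    rw [hn, show k⁻¹ * w * t * (k⁻¹ * w)⁻¹ = k⁻¹ * (w * t * w⁻¹) * k by group, hsw, mul_assoc,
      ← hkt'.eq, inv_mul_cancel_left]
  have hn2 : n * t' * n⁻¹ = t := by
    rw [hn, show k⁻¹ * w * t' * (k⁻¹ * w)⁻¹ = k⁻¹ * (w * t' * w⁻¹) * k by group, hwt', mul_assoc,
      ← hkt.eq, inv_mul_cancel_left]
  have hnc : n • c = c := T0_le c (mul_mem (inv_mem hk.1) hwT)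
  have haM : a ∈ Bender.fixSet H M := fun v hv => (hMD hv).2
  obtain ⟨v, hv, d, hd, hnvd⟩ := hs.decomp hca haM hnc (Bender.smul_mem_fixSet hnM haM)
  have hvt : Commute t v := hs.central t htM ht htc v hv
  have hvt' : Commute t' v := hs.central t' ht'M ht' ht'c v hv
  have hd1 : d * t * d⁻¹ = t' := by
    have h := hn1
    rw [hnvd, show v * d * t * (v * d)⁻¹ = v * (d * t * d⁻¹) * v⁻¹ by group] at h
    calc d * t * d⁻¹ = v⁻¹ * t' * v := by rw [← h]; group
      _ = t' := by rw [mul_assoc, hvt'.eq, inv_mul_cancel_left]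
  have hd2 : d * t' * d⁻¹ = t := by
    have h := hn2
    rw [hnvd, show v * d * t' * (v * d)⁻¹ = v * (d * t' * d⁻¹) * v⁻¹ by group] at h
    calc d * t' * d⁻¹ = v⁻¹ * t * v := by rw [← h]; group
      _ = t := by rw [mul_assoc, hvt.eq, inv_mul_cancel_left]
  have hdd : Commute (d ^ 2) t := by
    refine mul_inv_eq_iff_eq_mul.1 ?_
    rw [pow_two, show d * d * t * (d * d)⁻¹ = d * (d * t * d⁻¹) * d⁻¹ by group, hd1, hd2]
  obtain ⟨i, hi⟩ : Odd (orderOf d) :=
    (St2_odd hM.hse hca.symm).of_dvd_nat (Subgroup.orderOf_dvd_natCard _ hd)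
  have hdt : Commute d t := by
    have h : d = (d ^ 2) ^ (i + 1) := by
      rw [← pow_mul, show 2 * (i + 1) = orderOf d + 1 by omega, pow_succ, pow_orderOf_eq_one, one_mul]
    rw [h]
    exact hdd.pow_left _
  have htt' : t' = t := by rw [← hd1, hdt.eq, mul_inv_cancel_right]
  have hzt : Commute z t := mul_inv_eq_iff_eq_mul.1 htt'
  obtain ⟨j, hj⟩ := fix_only hM hIF hFR hca hne ht htc hf₀ hf₀1 hf₀t C hqm hq1 (hAF hz) hzt
  have hcop := (hAiff z (hAF hz)).1 hz
  rw [hj] at hcop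
  rcases Nat.eq_zero_or_pos j with rfl | hj0
  · exact hz1 (orderOf_eq_one_iff.1 (by rw [hj, pow_zero]))
  · exact hqF.out.ne_one (Nat.Coprime.eq_one_of_dvd ((Nat.coprime_pow_left_iff hj0 _ _).1 hcop) dvd_rfl)

/-- The involutions at the point commute when the Fitting subgroup is a `q`-group. -/
theorem fix_qgroup (hFB : FD c a ≤ FQ q c a) : CommAt H c := by
  classical
  haveI := Fact.mk C.prime
  obtain ⟨k, hk⟩ := IsPGroup.iff_card.1 (FQ_isPGroup q c a)
  have hFk : Nat.card ↥(FD c a) = q ^ k := by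
    rw [le_antisymm hFB (FQ_le_FD q c a), hk]
  set C₁ := D1 c a ⊓ Subgroup.centralizer ({t} : Set G)
  have hdec := fix_D1_eq hM hIF hFR hca hne ht htc hf₀ hf₀1 hf₀t C
  have hcard : Nat.card ↥(D1 c a) ∣ q ^ k * r := by
    have h := Solv.card_sup_mul_card_inf' (FD c a) (Subgroup.zpowers x)
      ((Subgroup.zpowers_le.2 C.mem_D).trans (FD_normalizer c a))
    rw [← hdec, hFk, Nat.card_zpowers, C.ord] at h
    exact Dvd.intro _ h
  have hr : r ∣ Nat.card ↥C₁ := by
    have hxC : x ∈ C₁ := ⟨C.le_D1 C.mem, Subgroup.mem_centralizer_singleton_iff.2 C.comm.eq⟩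
    have h := Subgroup.orderOf_dvd_natCard _ hxC
    rwa [C.ord] at h
  have hrel : C₁.relIndex (D1 c a) * Nat.card ↥C₁ = Nat.card ↥(D1 c a) := by
    have h := (C₁.subgroupOf (D1 c a)).index_mul_card
    rwa [Solv.card_subgroupOf inf_le_left] at h
  obtain ⟨m, hm⟩ := hr
  have hd : C₁.relIndex (D1 c a) ∣ q ^ k := by
    refine (Nat.mul_dvd_mul_iff_right C.prime.pos).1 ?_
    refine dvd_trans ⟨m, ?_⟩ hcard
    rw [← hrel, hm]; ring
  obtain ⟨j, -, hj⟩ := (Nat.dvd_prime_pow hqF.out).1 hd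
  exact hM.commAt_of_prime_power hca ht htc hqF.out hj

/-- The complementary part is abelian. -/
theorem fix_A_comm {A : Subgroup G} (hAF : A ≤ FD c a)
    (hAiff : ∀ f ∈ FD c a, f ∈ A ↔ (orderOf f).Coprime q) (hAcomm : ∀ y ∈ FQ q c a, ∀ z ∈ A, Commute y z)
    {y z : G} (hy : y ∈ A) (hz : z ∈ A) : Commute y z := by
  set M := FQ q c a ⊓ Subgroup.centralizer ({t} : Set G)
  have hMp : IsPGroup q M := (FQ_isPGroup q c a).to_le inf_le_left
  have hMD : M ≤ St2 c a := inf_le_left.trans (FQ_le q c a)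
  have htM : t ∈ Subgroup.centralizer (M : Set G) := Subgroup.mem_centralizer_iff.2 fun v hv =>
    Subgroup.mem_centralizer_singleton_iff.1 hv.2
  have h2 := two_of_fix hM hIF hFR hca ht htc hqm hMp hq1 hMD htM
  have hxM : x ∈ Subgroup.normalizer (M : Set G) := by
    refine Fusion.mem_normalizer_of_cj_le ?_
    rintro _ ⟨v, hv, rfl⟩
    exact ⟨Solv.conj_mem_of_mem_normalizer (FQ_normalizer q c a C.mem_D) hv.1,
      Subgroup.mem_centralizer_singleton_iff.2
        ((C.comm.mul_left (Subgroup.mem_centralizer_singleton_iff.1 hv.2)).mul_left C.comm.inv_left).eq⟩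
  obtain ⟨Γ, -, -, -, hco, -, -, -, hcyc⟩ := (C.gal hM hIF hFR hca ht htc hMp hq1 hMD htM h2 hxM).scal
  haveI := Fact.mk C.prime
  have hAΓ : A ≤ Γ := fun v hv => hco v ⟨FD_le c a (hAF hv), Subgroup.centralizer_le_normalizer _
    (Subgroup.mem_centralizer_iff.2 fun w hw => (hAcomm w hw.1 v hv).eq)⟩
    (Nat.Coprime.symm ((Nat.Prime.coprime_iff_not_dvd C.prime).2 fun h =>
      hM.not_dvd_FD hIF hFR hca hne ht htc C (h.trans (Subgroup.orderOf_dvd_natCard _ (hAF hv)))))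
  haveI := hcyc A hAΓ fun v hv hvE => by
    obtain ⟨j, hj⟩ := fix_only hM hIF hFR hca hne ht htc hf₀ hf₀1 hf₀t C hqm hq1 (hAF hv)
      (hvE t (invol_mem_EX ht htc htM))
    have hcop := (hAiff v (hAF hv)).1 hv
    rw [hj] at hcop
    rcases Nat.eq_zero_or_pos j with rfl | hj0
    · exact orderOf_eq_one_iff.1 (by rw [hj, pow_zero])
    · exact absurd (Nat.Coprime.eq_one_of_dvd ((Nat.coprime_pow_left_iff hj0 _ _).1 hcop) dvd_rfl) hqF.out.ne_one
  letI := IsCyclic.commGroup (α := ↥A)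
  exact congrArg Subtype.val (mul_comm (⟨y, hy⟩ : A) ⟨z, hz⟩)

/-- The involutions at the point commute. -/
theorem fix_commAt : CommAt H c := by
  classical
  obtain ⟨A, hAF, hsup, hAiff, hAcomm⟩ := fix_split_FD hM hIF hFR hca hne ht htc (c := c) (a := a) q
  by_cases hA : A = ⊥
  · rw [hA, sup_bot_eq] at hsup
    exact fix_qgroup hM hIF hFR hca hne ht htc hf₀ hf₀1 hf₀t C hqm hq1 hsup.ge
  set B := FQ q c a
  have hBF : B ≤ FD c a := FQ_le_FD q c a
  have hFD := C.FD_le_D1 hM hIF hFR hca hne ht htc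
  have hFT : FD c a ≤ T0 c := hFD.trans inf_le_left
  have hxD1 : x ∈ D1 c a := C.le_D1 C.mem
  have hfix : ∀ f ∈ FD c a, Commute f t → f ∈ B := fun f hf hft => by
    obtain ⟨k, hk⟩ := fix_only hM hIF hFR hca hne ht htc hf₀ hf₀1 hf₀t C hqm hq1 hf hft
    exact mem_FQ hf hk
  have hAB : A ⊓ B = ⊥ := (Subgroup.eq_bot_iff_forall _).2 fun z hz => by
    obtain ⟨k, hk⟩ := IsPGroup.iff_orderOf.1 (FQ_isPGroup q c a) ⟨z, hz.2⟩
    rw [Subgroup.orderOf_mk] at hk
    have hcop := (hAiff z (hAF hz.1)).1 hz.1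
    rw [hk] at hcop
    rcases Nat.eq_zero_or_pos k with rfl | hk0
    · exact orderOf_eq_one_iff.1 (by rw [hk, pow_zero])
    · exact absurd (Nat.Coprime.eq_one_of_dvd ((Nat.coprime_pow_left_iff hk0 _ _).1 hcop) dvd_rfl)
        hqF.out.ne_one
  have hAn : St2 c a ≤ Subgroup.normalizer (A : Set G) := fun g hg => by
    refine Fusion.mem_normalizer_of_cj_le ?_
    rintro _ ⟨z, hz, rfl⟩
    refine (hAiff _ (Solv.conj_mem_of_mem_normalizer (FD_normalizer c a hg) (hAF hz))).2 ?_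
    rw [show orderOf (g * z * g⁻¹) = orderOf z from MulEquiv.orderOf_eq (MulAut.conj g) z]
    exact (hAiff z (hAF hz)).1 hz
  have hBn := FQ_normalizer q c a
  have hAc : ∀ y ∈ A, ∀ z ∈ A, Commute y z := fun y hy z hz =>
    fix_A_comm hM hIF hFR hca hne ht htc hf₀ hf₀1 hf₀t C hqm hq1 hAF hAiff hAcomm hy hz
  have hAFc : ∀ y ∈ A, ∀ f ∈ FD c a, Commute y f := fun y hy f hf => by
    have hle : FD c a ≤ Subgroup.centralizer ({y} : Set G) := hsup ▸ sup_le
      (fun w hw => Subgroup.mem_centralizer_singleton_iff.2 (hAcomm w hw y hy).eq)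
      (fun w hw => Subgroup.mem_centralizer_singleton_iff.2 (hAc w hw y hy).eq)
    exact (Subgroup.mem_centralizer_singleton_iff.1 (hle hf)).symm
  have hTI : ∀ f ∈ FD c a, f ∉ B → ∀ h ∈ T0 c, h * f * h⁻¹ ∈ St2 c a → h • a = a := fun f hf hfB h hh hD => by
    have hhc : h • c = c := T0_le c hh
    have e1 : f • (h⁻¹ • a) = h⁻¹ • a := by
      have e : (h * f * h⁻¹) • a = a := hD.2
      rw [mul_smul, mul_smul] at e
      exact eq_inv_smul_iff.2 e
    rcases fixed_pair hM hIF hFR hca hne ht htc hf₀ hf₀1 hf₀t C hqm hq1 hf hfB e1 with e | e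
    · exact absurd ((inv_smul_eq_iff.1 e).trans hhc) hca
    · exact (inv_smul_eq_iff.1 e).symm
  set T := T0 c with hT
  have htT : t ∈ T := invol_mem_T0 htc ht
  set D' := (D1 c a).subgroupOf T with hD'
  set F' := (FD c a).subgroupOf T
  set A' := A.subgroupOf T
  set B' := B.subgroupOf T
  have hmemA : A ≤ T := hAF.trans hFT
  have hmemB : B ≤ T := hBF.trans hFT
  have hnorm : ∀ {X : Subgroup G}, X ≤ T → D1 c a ≤ Subgroup.normalizer (X : Set G) →
      D' ≤ Subgroup.normalizer ((X.subgroupOf T : Subgroup T) : Set T) := by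
    intro X hX hn g hg
    refine Fusion.mem_normalizer_of_cj_le ?_
    rintro _ ⟨y, hy, rfl⟩
    exact show (g : G) * y * (g : G)⁻¹ ∈ X from Solv.conj_mem_of_mem_normalizer (hn hg) hy
  have hinj : ∀ {X Y : Subgroup G}, X ≤ T → Y ≤ T → X.subgroupOf T = Y.subgroupOf T → X = Y :=
    fun hX hY e => by
      rw [← Subgroup.map_subgroupOf_eq_of_le hX, e, Subgroup.map_subgroupOf_eq_of_le hY]
  have hDodd : Odd (Nat.card ↥D') := by
    rw [show Nat.card ↥D' = Nat.card ↥(D1 c a) from Solv.card_subgroupOf inf_le_left]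
    exact (St2_odd hM.hse hca.symm).of_dvd_nat (Subgroup.card_dvd_of_le (D1_le_St2 c a))
  obtain ⟨K, hK, htK, hAK⟩ := fourier ↥T ⟨t, htT⟩ ⟨x, hxD1.1⟩ D' F' A' B'
    (by rw [Subgroup.orderOf_mk]; exact ht) hDodd
    (by rw [Subgroup.orderOf_mk, C.ord]; exact C.prime) hxD1 (Subtype.ext C.comm.eq)
    (fun g => by
      obtain ⟨d, hd, hdg⟩ := hM.conj_D1 hca ht htc g.2
      exact ⟨⟨d, hd.1⟩, hd, Subtype.ext hdg⟩)
    (fun g hg => hFD hg)
    (by
      rw [hD', fix_D1_eq hM hIF hFR hca hne ht htc hf₀ hf₀1 hf₀t C,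
        Subgroup.subgroupOf_sup hFT (Subgroup.zpowers_le.2 hxD1.1)]
      congr 1
      refine Subgroup.map_injective T.subtype_injective ?_
      rw [Subgroup.map_subgroupOf_eq_of_le (Subgroup.zpowers_le.2 hxD1.1), MonoidHom.map_zpowers]
      rfl)
    (hnorm hFT ((D1_le_St2 c a).trans (FD_normalizer c a))) (hnorm hmemA ((D1_le_St2 c a).trans hAn))
    (hnorm hmemB ((D1_le_St2 c a).trans hBn))
    (by rw [← Subgroup.subgroupOf_sup hmemA hmemB, sup_comm, hsup])
    (by rw [← Subgroup.bot_subgroupOf T, ← hAB]; rfl)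
    (fun h => hA (hinj hmemA bot_le (h.trans (Subgroup.bot_subgroupOf T).symm)))
    (fun y hy f hf => Subtype.ext (hAFc y hy f hf).eq)
    (fun f hf hft => hfix f hf (congrArg Subtype.val hft))
    (fun f hf hfx => Subtype.ext (C.fix_free hM hIF hFR hca hne ht htc hf (congrArg Subtype.val hfx)))
    (fun f hf hfB h hh => ⟨h.2, T0_le c h.2, hTI f hf hfB h h.2 hh.2⟩)
    (fun z hz hz1 g e => fix_no_swap hM hIF hFR hca hne ht htc hf₀ hf₀1 hf₀t C hqm hq1 hAF hAiff hAcomm hz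
      (fun e1 => hz1 (Subtype.ext e1)) g.2 (congrArg Subtype.val e))
  -- `K` meets the pair stabiliser in the Fitting subgroup
  set K' := K.map T.subtype with hK'
  have hK'T : K' ≤ T := Subgroup.map_subtype_le _
  have hK'n : T ≤ Subgroup.normalizer (K' : Set G) := fun g hg => by
    refine Fusion.mem_normalizer_of_cj_le ?_
    rintro _ ⟨_, ⟨y, hy, rfl⟩, rfl⟩
    exact ⟨⟨g, hg⟩ * y * ⟨g, hg⟩⁻¹, hK.conj_mem y hy _, rfl⟩
  have hAK' : ¬ A ≤ K' := fun h => hAK fun y hy => by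
    obtain ⟨v, hv, hvy⟩ := h hy
    exact (Subtype.ext hvy : v = y) ▸ hv
  have hKD : ∀ g ∈ K', g ∈ D1 c a → g ∈ FD c a := by
    intro g hgK hg
    by_contra hgF
    obtain ⟨f, hf, i, rfl⟩ := fix_factor hM hIF hFR hca hne ht htc hf₀ hf₀1 hf₀t C hg
    have hxi : x ^ i ≠ 1 := fun h => hgF (by rw [h, mul_one]; exact hf)
    refine hAK' fun y hy => ?_
    have hxn : x ^ i ∈ Subgroup.normalizer (A : Set G) := hAn (Subgroup.zpow_mem _ C.mem_D i)
    let φ : A → A := fun v => ⟨x ^ i * v * (x ^ i)⁻¹ * (v : G)⁻¹,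
      mul_mem (Solv.conj_mem_of_mem_normalizer hxn v.2) (inv_mem v.2)⟩
    have hφ : Function.Injective φ := fun v v' h => by
      have h' : x ^ i * (v : G) * (x ^ i)⁻¹ * (v : G)⁻¹ = x ^ i * (v' : G) * (x ^ i)⁻¹ * (v' : G)⁻¹ :=
        congrArg Subtype.val h
      refine Subtype.ext (inv_mul_eq_one.1 (C.fix_free hM hIF hFR hca hne ht htc
        (mul_mem (inv_mem (hAF v'.2)) (hAF v.2)) ?_)).symm
      have hc : Commute (x ^ i) ((v' : G)⁻¹ * v) := by
        show x ^ i * ((v' : G)⁻¹ * v) = (v' : G)⁻¹ * v * x ^ i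
        have h1 : x ^ i * (v : G) * (x ^ i)⁻¹ = x ^ i * (v' : G) * (x ^ i)⁻¹ * (v' : G)⁻¹ * v := by
          rw [← h']; group
        calc x ^ i * ((v' : G)⁻¹ * v)
            = (x ^ i * (v' : G) * (x ^ i)⁻¹)⁻¹ * (x ^ i * (v : G) * (x ^ i)⁻¹) * x ^ i := by group
          _ = _ := by rw [h1]; group
      haveI := Fact.mk C.prime
      have hgen : Subgroup.zpowers (x ^ i) = Subgroup.zpowers x := by
        refine Subgroup.eq_of_le_of_card_ge (Subgroup.zpowers_le.2 (Subgroup.zpow_mem_zpowers x i)) ?_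
        have hdvd : orderOf (x ^ i) ∣ r := orderOf_dvd_of_pow_eq_one (by
          rw [← zpow_natCast, ← zpow_mul, mul_comm, zpow_mul, zpow_natCast, ← C.ord, pow_orderOf_eq_one,
            one_zpow])
        rw [Nat.card_zpowers, Nat.card_zpowers, C.ord,
          ((Nat.dvd_prime C.prime).1 hdvd).resolve_left (fun e => hxi (orderOf_eq_one_iff.1 e))]
      obtain ⟨j, hj⟩ := Subgroup.mem_zpowers_iff.1 (hgen.symm ▸ Subgroup.mem_zpowers x)
      rw [← hj]
      exact hc.zpow_left j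
    obtain ⟨v, hv⟩ := Finite.injective_iff_surjective.1 hφ ⟨y, hy⟩
    rw [show y = x ^ i * (v : G) * (x ^ i)⁻¹ * (v : G)⁻¹ from (congrArg Subtype.val hv).symm]
    have hcom : (f * x ^ i) * (v : G) * (f * x ^ i)⁻¹ * (v : G)⁻¹ =
        x ^ i * (v : G) * (x ^ i)⁻¹ * (v : G)⁻¹ := by
      have h1 : Commute (x ^ i * (v : G) * (x ^ i)⁻¹) f :=
        hAFc _ (Solv.conj_mem_of_mem_normalizer hxn v.2) f hf
      rw [show (f * x ^ i) * (v : G) * (f * x ^ i)⁻¹ = f * (x ^ i * v * (x ^ i)⁻¹) * f⁻¹ by group, ← h1.eq,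
        mul_inv_cancel_right]
    rw [← hcom, show f * x ^ i * (v : G) * (f * x ^ i)⁻¹ * (v : G)⁻¹ =
      (f * x ^ i) * ((v : G) * (f * x ^ i)⁻¹ * (v : G)⁻¹) by group]
    exact mul_mem hgK (Solv.conj_mem_of_mem_normalizer (hK'n (hmemA v.2)) (inv_mem hgK))
  by_cases hKF : K' ⊓ FD c a = ⊥
  · -- an element of `A` acts without fixed points on `K`
    obtain ⟨⟨z, hz⟩, hz1⟩ := Subgroup.ne_bot_iff_exists_ne_one.1 hA
    have hz1' : z ≠ 1 := fun e => hz1 (Subtype.ext e)
    obtain ⟨p, hp, hpd⟩ := Nat.exists_prime_and_dvd (n := orderOf z) (fun e => hz1' (orderOf_eq_one_iff.1 e))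
    have hyo : orderOf (z ^ (orderOf z / p)) = p := orderOf_pow_orderOf_div (orderOf_pos z).ne' hpd
    have hyA : z ^ (orderOf z / p) ∈ A := pow_mem hz _
    have hyB : z ^ (orderOf z / p) ∉ B := fun h => by
      have h1 : z ^ (orderOf z / p) ∈ A ⊓ B := ⟨hyA, h⟩
      rw [hAB, Subgroup.mem_bot] at h1
      rw [h1, orderOf_one] at hyo
      exact hp.ne_one hyo.symm
    refine hM.commAt_of_fpf hca ht htc hK'T hK'n ⟨⟨t, htT⟩, htK, rfl⟩ hp (hFD (hAF hyA)) hyo
      fun k hk hky => ?_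
    have hkc : k • c = c := T0_le c (hK'T hk)
    have hka : k • a = a := by
      rcases fixed_pair hM hIF hFR hca hne ht htc hf₀ hf₀1 hf₀t C hqm hq1 (hAF hyA) hyB
        (e := k • a) (by rw [smul_smul, ← hky.eq, ← smul_smul,
          show (z ^ (orderOf z / p)) • a = a from (FD_le c a (hAF hyA)).2]) with h | h
      · exact absurd (smul_left_cancel k (h.trans hkc.symm)) hca
      · exact h
    have h1 : k ∈ K' ⊓ FD c a := ⟨hk, hKD k hk ⟨hK'T hk, hkc, hka⟩⟩
    rwa [hKF, Subgroup.mem_bot] at h1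
  · -- a Sylow subgroup of `K` fixing only the pair
    exfalso
    obtain ⟨⟨z, hzK, hzF⟩, hz1⟩ := Subgroup.ne_bot_iff_exists_ne_one.1 hKF
    have hz1' : z ≠ 1 := fun e => hz1 (Subtype.ext e)
    obtain ⟨p, hp, hpd⟩ := Nat.exists_prime_and_dvd (n := orderOf z) (fun e => hz1' (orderOf_eq_one_iff.1 e))
    haveI := Fact.mk hp
    have hyo : orderOf (z ^ (orderOf z / p)) = p := orderOf_pow_orderOf_div (orderOf_pos z).ne' hpd
    obtain ⟨hyP, hpm⟩ := hM.prime_of_mem_FD hIF hFR hca hne ht htc (pow_mem hzF _) hyo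
    set S := K' ⊓ FQ p c a
    have hS1 : S ≠ ⊥ := fun h0 => by
      have h1 : z ^ (orderOf z / p) ∈ S := ⟨pow_mem hzK _, hyP⟩
      rw [h0, Subgroup.mem_bot] at h1
      rw [h1, orderOf_one] at hyo
      exact hp.ne_one hyo.symm
    have hSp : IsPGroup p S := (FQ_isPGroup p c a).to_le inf_le_right
    have hSD : S ≤ D1 c a := inf_le_right.trans ((FQ_le_FD p c a).trans hFD)
    have hSn : D1 c a ≤ Subgroup.normalizer (S : Set G) := fun g hg => by
      refine Fusion.mem_normalizer_of_cj_le (le_of_eq ?_)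
      rw [Fusion.cj_inf, Fusion.cj_eq_self (hK'n hg.1), Fusion.cj_eq_self (FQ_normalizer p c a hg.2)]
    have hSfix : ∀ e : G ⧸ H, e ∈ Bender.fixSet H S → e = c ∨ e = a := by
      by_contra hcon
      push Not at hcon
      obtain ⟨e, he, hec, hea⟩ := hcon
      have hcS : c ∈ Bender.fixSet H S := fun v hv => (hSD hv).2.1
      have haS : a ∈ Bender.fixSet H S := fun v hv => (hSD hv).2.2
      obtain ⟨s, -, hs, -, -, hsc, -, -, hsX, -⟩ := hFR p S hp hpm hSp hS1
        (Set.two_lt_ncard_iff (Set.toFinite _) |>.2 ⟨c, a, e, hcS, haS, he, hca.symm, hec.symm, hea.symm⟩)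
        c hcS
      exact hM.no_normal_D1 hIF hFR hca hne hs hsc hSp hS1 hSD hSn hsX
    -- `S` is a Sylow subgroup of `K`
    obtain ⟨P, hP, hSP⟩ := Fusion.exists_sylIn_ge hSp (inf_le_left : S ≤ K')
    have hnorm' : ∀ g ∈ T, g ∈ Subgroup.normalizer (S : Set G) → g ∈ D1 c a := fun g hg hgS => by
      have hgc : g • c = c := T0_le c hg
      refine ⟨hg, hgc, ?_⟩
      rcases hSfix _ (Bender.smul_mem_fixSet hgS (fun v hv => (hSD hv).2.2)) with e | e
      · exact absurd (smul_left_cancel g (e.trans hgc.symm)) hca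
      · exact e
    have hPS : P = S := by
      by_contra hne'
      have hlt := Fusion.SylIn.normalizer_growth hSP (Ne.symm hne') hP.isPGroup
      refine hlt.2 fun g hg => ?_
      have hgD := hnorm' g (hK'T (hP.le hg.1)) hg.2
      obtain ⟨k, hk⟩ := IsPGroup.iff_orderOf.1 hP.isPGroup ⟨g, hg.1⟩
      rw [Subgroup.orderOf_mk] at hk
      exact ⟨hP.le hg.1, mem_FQ (hKD g (hP.le hg.1) hgD) hk⟩
    subst hPS
    -- Frattini
    refine hAK' (hmemA.trans (T0_le_of_odd_index hK'n ?_))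
    have hfr : T ≤ K' ⊔ D1 c a := fun g hg => by
      obtain ⟨n, hn, hng⟩ := Fusion.frattini_conj hP hK'n hg
      have hD := hnorm' _ (mul_mem (hK'T hn) hg) hng
      rw [show g = n⁻¹ * (n * g) by group]
      exact Subgroup.mul_mem_sup (inv_mem hn) hD
    have h1 := Solv.card_sup_mul_card_inf' K' (D1 c a) (inf_le_left.trans hK'n)
    rw [show K' ⊔ D1 c a = T from le_antisymm (sup_le hK'T inf_le_left) hfr] at h1
    have h2 : K'.relIndex T * Nat.card ↥K' = Nat.card ↥T := by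
      have h := (K'.subgroupOf T).index_mul_card
      rwa [Solv.card_subgroupOf hK'T] at h
    have h3 : K'.relIndex T * Nat.card ↥(K' ⊓ D1 c a : Subgroup G) = Nat.card ↥(D1 c a) := by
      refine Nat.eq_of_mul_eq_mul_left (Nat.card_pos (α := ↥K')) ?_
      rw [← h1, ← h2]; ring
    exact ((St2_odd hM.hse hca.symm).of_dvd_nat (Subgroup.card_dvd_of_le (D1_le_St2 c a))).of_dvd_nat
      (Dvd.intro _ h3)

omit hf₀ hf₀1 hf₀t C hqm hq1 in
/-- The involutions at the point commute when `t` has a fixed point in the Fitting subgroup. -/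
theorem commAt_of_fixed {f : G} (hf : f ∈ FD c a) (hf1 : f ≠ 1) (hft : Commute f t) : CommAt H c := by
  obtain ⟨x, r, R, C⟩ := hM.exists_core hIF hFR hca hne ht htc
  obtain ⟨p, hp, hpm, hp1⟩ := fix_rich hM hIF hFR hca hne ht htc hf hf1 hft
  haveI := Fact.mk hp
  exact fix_commAt hM hIF hFR hca hne ht htc hf hf1 hft C hpm hp1

end Cfsg.Agent.SEB
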