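import Cfsg.Agent.Lib.Bender.Solvable.Cyclic
import Cfsg.Agent.Lib.Bender.Solvable.Radical
import Cfsg.Agent.Lib.Bender.Endgame

/-!
# Solvability of a strongly embedded subgroup: no fixed points of `t` in the Fitting subgroup

Then the Fitting subgroup is abelian and regular on the conjugates of `t` in `T0`, and the centraliser of
`t` in the pair stabiliser of `T0` acts semiregularly on it; so the involutions at the point commute.
-/

set_option autoImplicit false
set_option linter.style.haveILetI false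
set_option linter.unusedSectionVars false

open scoped Pointwise commutatorElement

namespace Cfsg.Agent.SEB

open Cfsg
open Cfsg.Agent.Fusion (SylIn cj)
open Cfsg.Agent.Fusion.SEPairs

universe u

variable {G : Type u} [Group G] [Finite G] {H : Subgroup G} {c a : G ⧸ H} {t : G}

/-- An element normalising the pair stabiliser normalises its Fitting subgroup. -/
theorem FD_normalizer' {g : G} (hg : g ∈ Subgroup.normalizer (St2 c a : Set G)) :
    g ∈ Subgroup.normalizer (FD c a : Set G) := by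
  refine Fusion.mem_normalizer_of_cj_le ?_
  have hgn := Fusion.cj_eq_self hg
  have hle : cj (FD c a) g ≤ St2 c a := hgn ▸ Fusion.cj_mono (FD_le c a) g
  haveI : ((cj (FD c a) g).subgroupOf (St2 c a)).Normal := Subgroup.normal_subgroupOf_of_le_normalizer (by
    rw [← Fusion.cj_normalizer]
    exact hgn ▸ Fusion.cj_mono (FD_normalizer c a) g)
  haveI := FD_nilpotent c a
  haveI : Group.IsNilpotent ↥(cj (FD c a) g) := Group.nilpotent_of_mulEquiv
    ((FD c a).equivMapOfInjective (MulAut.conj g).toMonoidHom (MulAut.conj g).injective)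
  have hn : Group.IsNilpotent ↥((cj (FD c a) g).subgroupOf (St2 c a)) :=
    Group.nilpotent_of_mulEquiv (Subgroup.subgroupOfEquivOfLe hle).symm
  intro y hy
  exact ⟨⟨y, hle hy⟩, Solv.normal_le_fitting hn (Subgroup.mem_subgroupOf.2 hy), rfl⟩

variable (hM : Min H) (hIF : InvertFree H) (hFR : FixRich H) (hca : a ≠ c) (hne : D1 c a ≠ ⊥)
  (ht : orderOf t = 2) (htc : t • c = c) (hU : ∀ f ∈ FD c a, Commute f t → f = 1)
include hM hIF hFR hca hne ht htc hU

/-- A non-trivial element of the Fitting subgroup fixes only the pair. -/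
theorem free_fix {f : G} (hf : f ∈ FD c a) (hf1 : f ≠ 1) {e : G ⧸ H} (he : f • e = e) :
    e = c ∨ e = a := by
  classical
  by_contra hne'
  push Not at hne'
  obtain ⟨q, hq, hqdvd⟩ := Nat.exists_prime_and_dvd (n := orderOf f) (fun h => hf1 (orderOf_eq_one_iff.1 h))
  haveI := Fact.mk hq
  set y := f ^ (orderOf f / q)
  have hyo : orderOf y = q := orderOf_pow_orderOf_div (orderOf_pos f).ne' hqdvd
  have hy1 : y ≠ 1 := fun h => hq.ne_one (by rw [← hyo, h, orderOf_one])
  have hyF : y ∈ FD c a := pow_mem hf _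
  obtain ⟨-, hqm⟩ := hM.prime_of_mem_FD hIF hFR hca hne ht htc hyF hyo
  have hfix : ∀ w : G ⧸ H, f • w = w → w ∈ Bender.fixSet H (Subgroup.zpowers y) := fun w hw =>
    Subgroup.zpowers_le.2 (Subgroup.pow_mem _ (show f ∈ St w from hw) _)
  obtain ⟨s, -, hs, -, -, hsc, -, -, hsX, -⟩ := hFR q _ hq hqm
    (IsPGroup.of_card (n := 1) (by rw [Nat.card_zpowers, hyo, pow_one])) (Subgroup.zpowers_ne_bot.2 hy1)
    (Set.two_lt_ncard_iff (Set.toFinite _) |>.2 ⟨c, a, e, hfix c (FD_le c a hf).1, hfix a (FD_le c a hf).2,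
      hfix e he, hca.symm, hne'.1.symm, hne'.2.symm⟩) c (hfix c (FD_le c a hf).1)
  obtain ⟨d, hdc, hda, rfl⟩ := pair_transitive hM.hse hca hs hsc ht htc
  have hys : Commute y s := Subgroup.mem_centralizer_iff.1 hsX y (Subgroup.mem_zpowers y)
  exact hy1 (conj_eq_one_iff.1 (hU _ (Solv.conj_mem_of_mem_normalizer (FD_normalizer c a ⟨hdc, hda⟩) hyF)
    (hys.map (MulAut.conj d).toMonoidHom)))

/-- The Fitting subgroup is abelian. -/
theorem free_comm {f g : G} (hf : f ∈ FD c a) (hg : g ∈ FD c a) : f * g = g * f := by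
  obtain ⟨u, hu, huc⟩ := exists_swapper hM.hse hca.symm
  have hua : u • a = c := by rw [← huc, smul_smul, sq_one hu, one_smul]
  obtain ⟨e, hue⟩ := exists_fixed hM.hse hu
  have hFn : u ∈ Subgroup.normalizer (FD c a : Set G) := FD_normalizer' (normalizes_pair huc hua)
  have hfix : ∀ w ∈ FD c a, u * w * u⁻¹ = w → w = 1 := fun w hw h => by
    by_contra hw1
    have hcm : w * u = u * w := (mul_inv_eq_iff_eq_mul.1 h).symm
    have he : w • e = e := fixed_unique hM.hse hu (by rw [smul_smul, ← hcm, ← smul_smul, hue]) hue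
    rcases free_fix hM hIF hFR hca hne ht htc hU hw hw1 he with rfl | rfl
    · exact hca (huc.symm.trans hue)
    · exact hca (hue.symm.trans hua)
  let φ : FD c a → FD c a := fun w => ⟨(w : G)⁻¹ * (u * w * u⁻¹),
    mul_mem (inv_mem w.2) (Solv.conj_mem_of_mem_normalizer hFn w.2)⟩
  have hinj : Function.Injective φ := fun v w h => by
    have h' : (v : G)⁻¹ * (u * v * u⁻¹) = (w : G)⁻¹ * (u * w * u⁻¹) := congrArg Subtype.val h
    refine Subtype.ext (mul_inv_eq_one.1 (hfix _ (mul_mem v.2 (inv_mem w.2)) ?_))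
    have h1 : u * (v : G) * u⁻¹ = v * ((w : G)⁻¹ * (u * w * u⁻¹)) := by rw [← h']; group
    calc u * ((v : G) * (w : G)⁻¹) * u⁻¹ = (u * v * u⁻¹) * (u * w * u⁻¹)⁻¹ := by group
      _ = _ := by rw [h1]; group
  have hinv : ∀ w ∈ FD c a, u * w * u⁻¹ = w⁻¹ := fun w hw => by
    obtain ⟨v, hv⟩ := Finite.injective_iff_surjective.1 hinj ⟨w, hw⟩
    rw [show w = (v : G)⁻¹ * (u * v * u⁻¹) from (congrArg Subtype.val hv).symm]
    calc u * ((v : G)⁻¹ * (u * v * u⁻¹)) * u⁻¹ = (u * v * u⁻¹)⁻¹ * (u * u * v * (u * u)⁻¹) := by group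
      _ = _ := by rw [sq_one hu]; group
  have h := hinv _ (mul_mem hf hg)
  rw [show u * (f * g) * u⁻¹ = (u * f * u⁻¹) * (u * g * u⁻¹) by group, hinv f hf, hinv g hg,
    ← mul_inv_rev, inv_inj] at h
  exact h.symm

/-- The centraliser of `t` in the pair stabiliser of `T0` commutes with the element of a transfer prime. -/
theorem free_centralizer {x : G} {r : ℕ} {R : Subgroup G} (C : Core c a t x r R) {k : G}
    (hk : k ∈ D1 c a) (hkt : Commute k t) : Commute k x := by
  obtain ⟨f, hf, k', hk', hk'x, rfl⟩ := C.factor hM hIF hFR hca hne ht htc hk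
  have hk't : Commute k' t := C.comm_t hM hIF hFR hca ht htc (D1_le_St2 c a hk').1 hk'x.symm
  have hft : Commute f t := by
    have h := hkt.mul_left hk't.inv_left
    rwa [mul_inv_cancel_right] at h
  rw [hU f hf hft, one_mul]
  exact hk'x

/-- Every element is a Fitting element times one centralising `t`. -/
theorem free_factor {g : G} (hg : g ∈ D1 c a) :
    ∃ f ∈ FD c a, ∃ k ∈ D1 c a, Commute k t ∧ g = f * k := by
  obtain ⟨x, r, R, C⟩ := hM.exists_core hIF hFR hca hne ht htc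
  obtain ⟨f, hf, k, hk, hkx, rfl⟩ := C.factor hM hIF hFR hca hne ht htc hg
  exact ⟨f, hf, k, hk, C.comm_t hM hIF hFR hca ht htc (D1_le_St2 c a hk).1 hkx.symm, rfl⟩

/-- A transfer element for a prime of the abelianisation of the centraliser of `t`. -/
theorem free_core {r : ℕ} [Fact r.Prime] {S : Subgroup G}
    (hS : SylIn r S (D1 c a ⊓ Subgroup.centralizer {t}))
    (hSn : ¬ S ≤ ⁅D1 c a ⊓ Subgroup.centralizer {t}, D1 c a ⊓ Subgroup.centralizer {t}⁆) :
    ∃ x R, Core c a t x r R ∧ SylIn r R (D1 c a ⊓ Subgroup.centralizer {t}) := by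
  set C₁ := D1 c a ⊓ Subgroup.centralizer {t}
  obtain ⟨R₀, hR₀, hSR₀⟩ := Fusion.exists_sylIn_ge hS.isPGroup (hS.le.trans inf_le_left)
  -- the derived subgroup is inside the product
  have hFC : C₁ ≤ Subgroup.normalizer (FD c a : Set G) :=
    inf_le_left.trans ((D1_le_St2 c a).trans (FD_normalizer c a))
  have hprod : D1 c a ≤ FD c a ⊔ C₁ := fun g hg => by
    obtain ⟨f, hf, k, hk, hkt, rfl⟩ := free_factor hM hIF hFR hca hne ht htc hU hg
    exact Subgroup.mul_mem_sup hf ⟨hk, Subgroup.mem_centralizer_singleton_iff.2 hkt.eq⟩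
  have hC'n : ⁅C₁, C₁⁆ ≤ Subgroup.normalizer (FD c a : Set G) := (Subgroup.commutator_le.2 fun v hv w hw =>
    mul_mem (mul_mem (mul_mem hv hw) (inv_mem hv)) (inv_mem hw)).trans hFC
  have hcomm : ⁅D1 c a, D1 c a⁆ ≤ FD c a ⊔ ⁅C₁, C₁⁆ := by
    refine Subgroup.commutator_le.2 fun v hv w hw => ?_
    have hv' : v ∈ ((FD c a ⊔ C₁ : Subgroup G) : Set G) := hprod hv
    have hw' : w ∈ ((FD c a ⊔ C₁ : Subgroup G) : Set G) := hprod hw
    rw [Subgroup.coe_mul_of_right_le_normalizer_left _ _ hFC] at hv' hw'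
    obtain ⟨f, hf, k, hk, rfl⟩ := hv'
    obtain ⟨g, hg, l, hl, rfl⟩ := hw'
    rw [commutatorElement_def, show f * k * (g * l) * (f * k)⁻¹ * (g * l)⁻¹ =
      (f * (k * g * k⁻¹)) * ((k * l * k⁻¹) * f⁻¹ * (k * l * k⁻¹)⁻¹) *
        ((k * l * k⁻¹ * l⁻¹) * g⁻¹ * (k * l * k⁻¹ * l⁻¹)⁻¹) * (k * l * k⁻¹ * l⁻¹) by group]
    refine Subgroup.mul_mem_sup (mul_mem (mul_mem (mul_mem hf (Solv.conj_mem_of_mem_normalizer (hFC hk) hg))
      (Solv.conj_mem_of_mem_normalizer (hFC (mul_mem (mul_mem hk hl) (inv_mem hk))) (inv_mem hf)))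
      (Solv.conj_mem_of_mem_normalizer
        (hFC (mul_mem (mul_mem (mul_mem hk hl) (inv_mem hk)) (inv_mem hl))) (inv_mem hg))) ?_
    exact commutatorElement_def k l ▸ Subgroup.commutator_mem_commutator hk hl
  obtain ⟨x, R, C⟩ := hM.exists_core_prime hIF hFR hca hR₀ (fun hle => hSn fun y hy => by
    have hy' : y ∈ ((FD c a ⊔ ⁅C₁, C₁⁆ : Subgroup G) : Set G) := hcomm (hle (hSR₀ hy))
    rw [Subgroup.coe_mul_of_right_le_normalizer_left _ _ hC'n] at hy'
    obtain ⟨f, hf, k, hk, rfl⟩ := hy'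
    have hkC : k ∈ C₁ := (Subgroup.commutator_le.2 fun v hv w hw =>
      mul_mem (mul_mem (mul_mem hv hw) (inv_mem hv)) (inv_mem hw)) hk
    have hf' : f ∈ C₁ := by
      have := mul_mem (hS.le hy) (inv_mem hkC)
      rwa [mul_inv_cancel_right] at this
    show f * k ∈ _
    rw [hU f hf (Subgroup.mem_centralizer_singleton_iff.1 hf'.2), one_mul]
    exact hk) ht htc
  exact ⟨x, R, C, C.syl.mono (le_inf C.le_D1 fun g hg => Subgroup.mem_centralizer_singleton_iff.2
    (C.comm_t hM hIF hFR hca ht htc (C.le_D1 hg).2.1 (C.central g hg)).eq) inf_le_left⟩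

/-- No rich normal subgroup of the centraliser of `t` in the pair stabiliser of `T0`. -/
theorem free_no_rich {p : ℕ} [Fact p.Prime] {X : Subgroup G} (hXp : IsPGroup p X) (hX : X ≠ ⊥)
    (hXC : X ≤ D1 c a ⊓ Subgroup.centralizer {t})
    (hXn : D1 c a ⊓ Subgroup.centralizer {t} ≤ Subgroup.normalizer (X : Set G))
    (h2 : Two (Subgroup.centralizer (X : Set G)) c) : False := by
  classical
  set C₁ := D1 c a ⊓ Subgroup.centralizer {t} with hC₁
  have hXD : X ≤ St2 c a := hXC.trans (inf_le_left.trans (D1_le_St2 c a))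
  have htX : t ∈ Subgroup.centralizer (X : Set G) := Subgroup.mem_centralizer_iff.2 fun g hg =>
    Subgroup.mem_centralizer_singleton_iff.1 (hXC hg).2
  -- Sylow subgroups of the abelianisation are central of prime order
  have hkey : ∀ {r : ℕ} [Fact r.Prime] {S : Subgroup G}, SylIn r S C₁ → ¬ S ≤ ⁅C₁, C₁⁆ →
      ∃ x R, Core c a t x r R ∧ R = Subgroup.zpowers x ∧ SylIn r R C₁ := by
    intro r _ S hS hSn
    obtain ⟨x, R, C, hR⟩ := free_core hM hIF hFR hca hne ht htc hU hS hSn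
    exact ⟨x, R, C, C.R_eq hM hIF hFR hca ht htc hXp hX hXD htX h2 (hXn (hR.le C.mem)) fun g hg =>
      hXn (hR.le hg), hR⟩
  haveI : Group.IsSolvable ↥C₁ := S0205.result
    ((St2_odd hM.hse hca.symm).of_dvd_nat (Subgroup.card_dvd_of_le (inf_le_left.trans (D1_le_St2 c a))))
  -- `C₁` is abelian
  have hcen : Subgroup.center ↥C₁ ⊔ commutator ↥C₁ = ⊤ := by
    rw [← Subgroup.index_eq_one]
    by_contra hne'
    obtain ⟨r, hr, hrd⟩ := Nat.exists_prime_and_dvd hne'
    haveI := Fact.mk hr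
    obtain ⟨P⟩ : Nonempty (Sylow r ↥C₁) := inferInstance
    have hPn : ¬ (P : Subgroup ↥C₁).map C₁.subtype ≤ ⁅C₁, C₁⁆ := fun h => by
      rw [← Subgroup.map_subtype_commutator, Subgroup.map_le_map_iff_of_injective C₁.subtype_injective] at h
      exact P.not_dvd_index (hrd.trans (Subgroup.index_dvd_of_le (h.trans le_sup_right)))
    obtain ⟨x, R, C, hReq, hR⟩ := hkey (Fusion.sylIn_map C₁ P) hPn
    obtain ⟨Q, hQ⟩ := hR.exists_sylow_subgroupOf
    refine Q.not_dvd_index (hrd.trans (Subgroup.index_dvd_of_le ?_))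
    rw [hQ]
    intro z hz
    refine Subgroup.mem_sup_left (Subgroup.mem_center_iff.2 fun w => Subtype.ext ?_)
    have hz' : (z : G) ∈ Subgroup.zpowers x := hReq ▸ Subgroup.mem_subgroupOf.1 hz
    obtain ⟨i, hi⟩ := Subgroup.mem_zpowers_iff.1 hz'
    show (w : G) * z = z * w
    rw [← hi]
    exact ((free_centralizer hM hIF hFR hca hne ht htc hU C w.2.1
      (Subgroup.mem_centralizer_singleton_iff.1 w.2.2)).zpow_right i).eq
  have hab : commutator ↥C₁ = ⊥ := by
    by_contra hne'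
    haveI : Nontrivial ↥(commutator ↥C₁) := (Subgroup.nontrivial_iff_ne_bot _).2 hne'
    have hlt := Group.IsSolvable.commutator_lt_top_of_nontrivial ↥(commutator ↥C₁)
    refine hlt.ne ?_
    have hle : commutator ↥C₁ ≤ ⁅commutator ↥C₁, commutator ↥C₁⁆ := by
      have hdec : ∀ v : ↥C₁, ∃ z ∈ Subgroup.center ↥C₁, ∃ w ∈ commutator ↥C₁, v = z * w := fun v => by
        have hv : v ∈ ((Subgroup.center ↥C₁ ⊔ commutator ↥C₁ : Subgroup ↥C₁) : Set ↥C₁) := by
          rw [hcen]; exact Subgroup.mem_top v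
        rw [Subgroup.coe_mul_of_right_le_normalizer_left _ _ (by
          rw [Subgroup.normalizer_eq_top]; exact le_top)] at hv
        obtain ⟨z, hz, w, hw, rfl⟩ := hv
        exact ⟨z, hz, w, hw, rfl⟩
      rw [show commutator ↥C₁ = ⁅(⊤ : Subgroup ↥C₁), ⊤⁆ from commutator_def _, Subgroup.commutator_le]
      intro v _ w _
      obtain ⟨z, hz, v', hv', rfl⟩ := hdec v
      obtain ⟨z', hz', w', hw', rfl⟩ := hdec w
      have hzc := Subgroup.mem_center_iff.1 hz
      have hz'c := Subgroup.mem_center_iff.1 hz'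
      have : ⁅z * v', z' * w'⁆ = ⁅v', w'⁆ := by
        rw [commutatorElement_def, commutatorElement_def]
        calc z * v' * (z' * w') * (z * v')⁻¹ * (z' * w')⁻¹
            = z * (v' * z') * w' * v'⁻¹ * z⁻¹ * w'⁻¹ * z'⁻¹ := by group
          _ = z * (z' * v') * w' * v'⁻¹ * z⁻¹ * w'⁻¹ * z'⁻¹ := by rw [hz'c v']
          _ = z * ((z' * v' * w' * v'⁻¹) * z⁻¹) * w'⁻¹ * z'⁻¹ := by group
          _ = z * (z⁻¹ * (z' * v' * w' * v'⁻¹)) * w'⁻¹ * z'⁻¹ := by
              rw [Subgroup.mem_center_iff.1 (inv_mem hz) _]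
          _ = z' * (v' * w' * v'⁻¹ * w'⁻¹) * z'⁻¹ := by group
          _ = v' * w' * v'⁻¹ * w'⁻¹ := by rw [← hz'c _, mul_inv_cancel_right]
      rw [this]
      exact Subgroup.commutator_mem_commutator hv' hw'
    rw [eq_top_iff]
    intro v _
    obtain ⟨w, hw, hwv⟩ := (Subgroup.map_subtype_commutator (commutator ↥C₁)).symm ▸ hle v.2
    exact (Subtype.ext hwv : w = v) ▸ hw
  -- the prime of `X`
  obtain ⟨S, hS, hXS⟩ := Fusion.exists_sylIn_ge hXp hXC
  have hSn : ¬ S ≤ ⁅C₁, C₁⁆ := fun h => by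
    have h0 : ⁅C₁, C₁⁆ = ⊥ := by rw [← Subgroup.map_subtype_commutator, hab, Subgroup.map_bot]
    exact hX (le_bot_iff.1 (hXS.trans (h0 ▸ h)))
  obtain ⟨x, R, C, hReq, hR⟩ := hkey hS hSn
  obtain ⟨g, hg, hgS⟩ := hS.conj_eq hR
  have hXx : X = Subgroup.zpowers x := by
    have hle : X ≤ Subgroup.zpowers x := by
      rw [← hReq, ← hgS, ← Fusion.cj_eq_self (hXn hg)]
      exact Fusion.cj_mono hXS g
    refine Subgroup.eq_of_le_of_card_ge hle ?_
    rw [Nat.card_zpowers, C.ord]
    obtain ⟨k, hk⟩ := IsPGroup.iff_card.1 hXp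
    rw [hk]
    refine Nat.le_self_pow (fun h0 => hX ?_) p
    exact Subgroup.card_eq_one.1 (by rw [hk, h0, pow_zero])
  exact C.lone hM hIF hFR hca ht htc C.mem C.ne_one C.central (hXx ▸ h2)

/-- The centraliser of `t` in the pair stabiliser of `T0` is semiregular on the Fitting subgroup. -/
theorem free_semiregular {k : G} (hk : k ∈ D1 c a) (hkt : Commute k t) {f : G} (hf : f ∈ FD c a)
    (hkf : Commute k f) : k = 1 ∨ f = 1 := by
  classical
  by_contra hcon
  push Not at hcon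
  obtain ⟨hk1, hf1⟩ := hcon
  set C₁ := D1 c a ⊓ Subgroup.centralizer {t} with hC₁
  obtain ⟨p, hp, hpdvd⟩ := Nat.exists_prime_and_dvd (n := orderOf k) (fun h => hk1 (orderOf_eq_one_iff.1 h))
  haveI := Fact.mk hp
  set d := k ^ (orderOf k / p)
  have hdo : orderOf d = p := orderOf_pow_orderOf_div (orderOf_pos k).ne' hpdvd
  have hd1 : d ≠ 1 := fun h => hp.ne_one (by rw [← hdo, h, orderOf_one])
  have hdC : d ∈ C₁ := ⟨pow_mem hk _, Subgroup.mem_centralizer_singleton_iff.2 (hkt.pow_left _).eq⟩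
  have hC₁D : C₁ ≤ St2 c a := inf_le_left.trans (D1_le_St2 c a)
  have hrich : ∀ {ℓ : ℕ} [Fact ℓ.Prime] {b g : G}, b ∈ C₁ → orderOf b = ℓ → g ∈ FD c a → g ≠ 1 →
      Commute b g → Two (Subgroup.centralizer ((Subgroup.zpowers b : Subgroup G) : Set G)) c := by
    intro ℓ _ b g hb hbo hg hg1 hbg
    by_contra h2
    have hb1 : b ≠ 1 := fun h => (Fact.out : ℓ.Prime).ne_one (by rw [← hbo, h, orderOf_one])
    exact hg1 (hU g hg (commute_centre hM hFR (IsPGroup.of_card (n := 1) (by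
      rw [Nat.card_zpowers, hbo, pow_one])) (Subgroup.zpowers_ne_bot.2 hb1) hca
      (Subgroup.zpowers_le.2 (hC₁D hb)) ht htc
      (mem_centralizer_zpowers (Subgroup.mem_centralizer_singleton_iff.1 hb.2)) hIF h2
      (mem_centralizer_zpowers hbg) (FD_le c a hg).1))
  have hd2 := hrich hdC hdo hf hf1 (hkf.pow_left _)
  by_cases hdC' : d ∈ ⁅C₁, C₁⁆
  swap
  · -- `d` is the central element of its prime
    obtain ⟨S, hS, hdS⟩ := Fusion.exists_sylIn_ge (p := p) (Q := Subgroup.zpowers d)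
      (IsPGroup.of_card (n := 1) (by rw [Nat.card_zpowers, hdo, pow_one])) (Subgroup.zpowers_le.2 hdC)
    obtain ⟨x, R, C, hR⟩ := free_core hM hIF hFR hca hne ht htc hU hS
      (fun h => hdC' (h (hdS (Subgroup.mem_zpowers d))))
    obtain ⟨g, hg, hgS⟩ := hS.conj_eq hR
    have hdR : g * d * g⁻¹ ∈ R := hgS ▸ Fusion.conj_mem_cj (hdS (Subgroup.mem_zpowers d))
    haveI := C.cyclic hM hIF hFR hca hne ht htc
    have hcard : Nat.card {w : R // w ^ p = 1} ≤ p := by
      letI := Fintype.ofFinite R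
      rw [Nat.card_eq_fintype_card, Fintype.card_subtype]
      exact IsCyclic.card_pow_eq_one_le hp.pos
    have hxp : x ^ p = 1 := by rw [← C.ord, pow_orderOf_eq_one]
    let φ : Subgroup.zpowers x → {w : R // w ^ p = 1} := fun v =>
      ⟨⟨v, Subgroup.zpowers_le.2 C.mem v.2⟩, Subtype.ext (by
        obtain ⟨i, hi⟩ := Subgroup.mem_zpowers_iff.1 v.2
        show (v : G) ^ p = 1
        rw [← hi, ← zpow_natCast, ← zpow_mul, mul_comm, zpow_mul, zpow_natCast, hxp, one_zpow])⟩
    have hφ : Function.Injective φ := fun v v' h =>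
      Subtype.ext (congrArg (fun w : {w : R // w ^ p = 1} => ((w.1 : R) : G)) h)
    have hb := hφ.bijective_of_nat_card_le (hcard.trans (by rw [Nat.card_zpowers, C.ord]))
    obtain ⟨v, hv⟩ := hb.2 ⟨⟨_, hdR⟩, Subtype.ext (by
      show (g * d * g⁻¹) ^ p = 1
      rw [conj_pow, ← hdo, pow_orderOf_eq_one, mul_one, mul_inv_cancel])⟩
    have hdx : g * d * g⁻¹ ∈ Subgroup.zpowers x := by
      have hv' : (v : G) = g * d * g⁻¹ := congrArg (fun w : {w : R // w ^ p = 1} => ((w.1 : R) : G)) hv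
      exact hv' ▸ v.2
    have hgx : Commute g x :=
      free_centralizer hM hIF hFR hca hne ht htc hU C hg.1 (Subgroup.mem_centralizer_singleton_iff.1 hg.2)
    obtain ⟨i, hi⟩ := Subgroup.mem_zpowers_iff.1 hdx
    have hdi : d = x ^ i := by
      rw [show d = g⁻¹ * x ^ i * g by rw [hi]; group]
      rw [mul_assoc, ← (hgx.zpow_right i).eq, inv_mul_cancel_left]
    refine C.lone hM hIF hFR hca ht htc C.mem C.ne_one C.central ?_
    have heq : Subgroup.zpowers d = Subgroup.zpowers x := Subgroup.eq_of_le_of_card_ge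
      (Subgroup.zpowers_le.2 (hdi ▸ Subgroup.zpow_mem_zpowers x i))
      (by rw [Nat.card_zpowers, Nat.card_zpowers, hdo, C.ord])
    exact heq ▸ hd2
  -- the cores of `C₁` are cyclic
  haveI : Group.IsSolvable ↥C₁ := S0205.result
    ((St2_odd hM.hse hca.symm).of_dvd_nat (Subgroup.card_dvd_of_le hC₁D))
  obtain ⟨x₀, r₀, R₀, C₀⟩ := hM.exists_core hIF hFR hca hne ht htc
  haveI := Fact.mk C₀.prime
  have hx₀C : ∀ g ∈ C₁, Commute g x₀ := fun g hg =>
    free_centralizer hM hIF hFR hca hne ht htc hU C₀ hg.1 (Subgroup.mem_centralizer_singleton_iff.1 hg.2)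
  have hcyc : ∀ (l : ℕ) [Fact l.Prime], IsCyclic ↥(Cfsg.pCore l ↥C₁) := by
    intro l _
    set O := (Cfsg.pCore l ↥C₁).map C₁.subtype with hO
    have hOC : O ≤ C₁ := Subgroup.map_subtype_le _
    have hOp : IsPGroup l O := (Solv.pCore_isPGroup l).map _
    have hOn : C₁ ≤ Subgroup.normalizer (O : Set G) := fun e he => by
      refine Fusion.mem_normalizer_of_cj_le ?_
      rintro _ ⟨_, ⟨y, hy, rfl⟩, rfl⟩
      exact ⟨⟨e, he⟩ * y * ⟨e, he⟩⁻¹, (Solv.pCore_normal l).conj_mem y hy _, rfl⟩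
    suffices hcycO : IsCyclic ↥O by
      haveI := hcycO
      exact isCyclic_of_injective
        ((Cfsg.pCore l ↥C₁).equivMapOfInjective C₁.subtype C₁.subtype_injective).toMonoidHom
        (MulEquiv.injective _)
    by_cases hlr : l = r₀
    · -- inside a cyclic Sylow subgroup
      subst hlr
      haveI := C₀.cyclic hM hIF hFR hca hne ht htc
      obtain ⟨g, -, hle⟩ := C₀.syl.conj_le hOp (hOC.trans inf_le_left)
      exact isCyclic_of_injective
        ((Subgroup.inclusion hle).comp (O.equivMapOfInjective (MulAut.conj g).toMonoidHom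
          (MulAut.conj g).injective).toMonoidHom)
        ((Subgroup.inclusion_injective hle).comp (MulEquiv.injective _))
    by_contra hOnc
    have hl2 : l ≠ 2 := by
      rintro rfl
      obtain ⟨i, hi⟩ := IsPGroup.iff_card.1 hOp
      rcases Nat.eq_zero_or_pos i with rfl | hi0
      · exact hOnc (by
          haveI : Subsingleton ↥O := (Nat.card_eq_one_iff_unique.1 (by rw [hi, pow_zero])).1
          infer_instance)
      · exact absurd ((St2_odd hM.hse hca.symm).of_dvd_nat (hi ▸ Subgroup.card_dvd_of_le (hOC.trans hC₁D)))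
          (Nat.not_odd_iff_even.2 ((Nat.even_pow' hi0.ne').2 even_two))
    obtain ⟨E, -, hE, hEc⟩ := Solv.exists_normal_elementary_sq (G := ↥O) hl2 hOp hOnc
    set A := E.map O.subtype with hA
    have hAO : A ≤ O := Subgroup.map_subtype_le _
    have hAcard : Nat.card A = l ^ 2 := by
      rw [hA, ← hEc]
      exact (Nat.card_congr (E.equivMapOfInjective O.subtype O.subtype_injective).toEquiv).symm
    have hAc : ∀ g ∈ A, ∀ h ∈ A, Commute g h := by
      rintro _ ⟨g, hg, rfl⟩ _ ⟨h, hh, rfl⟩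
      exact Commute.map (congrArg Subtype.val (hE.1.is_comm.comm (⟨g, hg⟩ : E) ⟨h, hh⟩)) O.subtype
    have hAe : ∀ g ∈ A, g ^ l = 1 := by
      rintro _ ⟨g, hg, rfl⟩
      have := congrArg Subtype.val (hE.2 g hg)
      simpa using this
    -- an element of `A` with a fixed point in the Fitting subgroup
    obtain ⟨b, hb, hb1, g, hg, hg1, hbg⟩ : ∃ b ∈ A, b ≠ 1 ∧ ∃ g ∈ FD c a, g ≠ 1 ∧ Commute b g := by
      obtain ⟨q, hq, hqdvd⟩ := Nat.exists_prime_and_dvd (n := orderOf f)
        (fun h => hf1 (orderOf_eq_one_iff.1 h))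
      haveI := Fact.mk hq
      set y := f ^ (orderOf f / q)
      have hyo : orderOf y = q := orderOf_pow_orderOf_div (orderOf_pos f).ne' hqdvd
      obtain ⟨hyQ, hqm⟩ := hM.prime_of_mem_FD hIF hFR hca hne ht htc (pow_mem hf _ : y ∈ FD c a) hyo
      by_cases hql : q = l
      · subst hql
        -- a `q`-group normalising a `q`-group fixes a point of it
        have hFn : A ≤ Subgroup.normalizer (FQ q c a : Set G) :=
          hAO.trans (hOC.trans (hC₁D.trans (FQ_normalizer q c a)))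
        have hsup : IsPGroup q ↥(FQ q c a ⊔ A) :=
          (FQ_isPGroup q c a).to_sup_of_normal_left' (hOp.to_le hAO) hFn
        have hFQ1 : FQ q c a ≠ ⊥ := fun h0 => by
          rw [h0, Subgroup.mem_bot] at hyQ
          exact hq.ne_one (hyo.symm.trans (orderOf_eq_one_iff.2 hyQ))
        obtain ⟨z, hz, hz1, hzc⟩ := exists_central_mem hsup le_sup_left
          (sup_le Subgroup.le_normalizer hFn) hFQ1
        obtain ⟨b, hb, hb1⟩ : ∃ b ∈ A, b ≠ 1 := by
          by_contra hall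
          push Not at hall
          rw [(Subgroup.eq_bot_iff_forall A).2 hall, Subgroup.card_bot] at hAcard
          exact absurd hAcard (Nat.one_lt_pow two_ne_zero hq.one_lt).ne
        exact ⟨b, hb, hb1, z, FQ_le_FD q c a hz, hz1, (hzc b (Subgroup.mem_sup_right hb)).symm⟩
      have hgen := Solv.gen_pgroup A ⟨⟨fun g h => Subtype.ext (hAc g g.2 h h.2)⟩⟩ _ (FQ q c a) rfl
        (FQ_isPGroup q c a) (hAO.trans (hOC.trans (hC₁D.trans (FQ_normalizer q c a))))
        (by
          obtain ⟨j, hj⟩ := IsPGroup.iff_card.1 (FQ_isPGroup q c a)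
          rw [hAcard, hj]
          exact Nat.Coprime.pow _ _ ((Nat.coprime_primes (Fact.out : l.Prime) hq).2 (Ne.symm hql)))
      obtain ⟨B, hB, hBne⟩ : ∃ B ∈ Solv.CycQuot A, FQ q c a ⊓ Subgroup.centralizer (B : Set G) ≠ ⊥ := by
        by_contra hall
        push Not at hall
        have h0 : FQ q c a ≤ ⊥ := hgen.trans (iSup₂_le fun B hB => (hall B hB).le)
        exact hq.ne_one (hyo.symm.trans (orderOf_eq_one_iff.2 (Subgroup.mem_bot.1 (h0 hyQ))))
      obtain ⟨hBA, b₀, hb₀, hBb⟩ := hB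
      obtain ⟨b, hbB, hb1⟩ : ∃ b ∈ B, b ≠ 1 := by
        by_contra hall
        push Not at hall
        rw [show B = ⊥ from (Subgroup.eq_bot_iff_forall _).2 hall, bot_sup_eq] at hBb
        have hle : Nat.card A ≤ l := by
          rw [← hBb, Nat.card_zpowers]
          exact Nat.le_of_dvd (Fact.out : l.Prime).pos (orderOf_dvd_of_pow_eq_one (hAe b₀ hb₀))
        rw [hAcard] at hle
        nlinarith [(Fact.out : l.Prime).two_le]
      obtain ⟨⟨g, hg⟩, hg1⟩ := Subgroup.ne_bot_iff_exists_ne_one.1 hBne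
      exact ⟨b, hBA hbB, hb1, g, FQ_le_FD q c a hg.1, fun e => hg1 (Subtype.ext e),
        Subgroup.mem_centralizer_iff.1 hg.2 b hbB⟩
    have hbC : b ∈ C₁ := hOC (hAO hb)
    have hbo : orderOf b = l := orderOf_eq_prime (hAe b hb) hb1
    have hbp : IsPGroup l (Subgroup.zpowers b) :=
      IsPGroup.of_card (n := 1) (by rw [Nat.card_zpowers, hbo, pow_one])
    have hb2 := hrich hbC hbo hg hg1 hbg
    have htb : t ∈ Subgroup.centralizer ((Subgroup.zpowers b : Subgroup G) : Set G) :=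
      mem_centralizer_zpowers (Subgroup.mem_centralizer_singleton_iff.1 hbC.2)
    have hxb : x₀ ∈ Subgroup.normalizer ((Subgroup.zpowers b : Subgroup G) : Set G) :=
      Subgroup.centralizer_le_normalizer _ (mem_centralizer_zpowers (hx₀C b hbC))
    -- a rich normal subgroup in the centre of the core
    set X := Subgroup.closure {z : G | z ∈ O ∧ z ^ l = 1 ∧ ∀ w ∈ O, Commute z w}
    have hXO : X ≤ O := (Subgroup.closure_le _).2 fun z hz => hz.1
    have hXn : C₁ ≤ Subgroup.normalizer (X : Set G) := fun e he => by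
      refine Fusion.mem_normalizer_of_cj_le ?_
      rw [Fusion.cj, MonoidHom.map_closure, Subgroup.closure_le]
      rintro _ ⟨z, ⟨hz, hzl, hzc⟩, rfl⟩
      refine Subgroup.subset_closure ⟨Solv.conj_mem_of_mem_normalizer (hOn he) hz, ?_, fun w hw => ?_⟩
      · show (e * z * e⁻¹) ^ l = 1
        rw [conj_pow, hzl, mul_one, mul_inv_cancel]
      · have h1 := (hzc _ (Solv.conj_mem_of_mem_normalizer (inv_mem (hOn he)) hw)).map
          (MulAut.conj e).toMonoidHom
        simpa [mul_assoc] using h1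
    have hX1 : X ≠ ⊥ := by
      have hO1 : O ≠ ⊥ := fun h0 => hb1 (Subgroup.mem_bot.1 (h0 ▸ hAO hb))
      obtain ⟨z, hz, hz1, hzc⟩ := exists_central_mem hOp le_rfl Subgroup.le_normalizer hO1
      obtain ⟨i, hi⟩ := IsPGroup.iff_orderOf.1 hOp ⟨z, hz⟩
      rw [Subgroup.orderOf_mk] at hi
      have hdvd : l ∣ orderOf z := by
        rcases i with _ | i
        · exact absurd (orderOf_eq_one_iff.1 (by simpa using hi)) hz1
        · exact hi ▸ dvd_pow_self l (Nat.succ_ne_zero i)
      intro h0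
      have ho := orderOf_pow_orderOf_div (orderOf_pos z).ne' hdvd
      have hzX : z ^ (orderOf z / l) ∈ X := Subgroup.subset_closure ⟨pow_mem hz _, by
        have hp1 := pow_orderOf_eq_one (z ^ (orderOf z / l))
        rwa [ho] at hp1, fun w hw => (hzc w hw).pow_left _⟩
      rw [h0, Subgroup.mem_bot] at hzX
      rw [hzX, orderOf_one] at ho
      exact (Fact.out : l.Prime).ne_one ho.symm
    have hE' : ∀ z ∈ X, ∀ s ∈ EX (Subgroup.zpowers b) c, Commute z s := fun z hz s hs => by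
      have h1 : z ∈ Subgroup.centralizer ({b} : Set G) := (Subgroup.closure_le _).2
        (fun w hw => Subgroup.mem_centralizer_singleton_iff.2 (hw.2.2 b (hAO hb)).eq) hz
      have hzb : Commute z b := Subgroup.mem_centralizer_singleton_iff.1 h1
      obtain ⟨i, hi⟩ := IsPGroup.iff_orderOf.1 hOp ⟨z, hXO hz⟩
      rw [Subgroup.orderOf_mk] at hi
      exact C₀.cent_of_coprime hM hIF hFR hca ht htc hbp (Subgroup.zpowers_ne_bot.2 hb1)
        (Subgroup.zpowers_le.2 (hC₁D hbC)) htb hb2 hxb (hC₁D (hOC (hXO hz)))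
        (Subgroup.centralizer_le_normalizer _ (mem_centralizer_zpowers hzb.symm))
        (Subgroup.mem_centralizer_singleton_iff.1 (hOC (hXO hz)).2)
        (hi ▸ Nat.Coprime.pow_left _ ((Nat.coprime_primes (Fact.out : l.Prime) C₀.prime).2 hlr)) hs
    obtain ⟨s, hs, hsc, hsE, hst⟩ := C₀.exists_other hM hIF hFR hca ht htc hbp
      (Subgroup.zpowers_ne_bot.2 hb1) (Subgroup.zpowers_le.2 (hC₁D hbC)) htb hb2
    have htE := invol_mem_EX ht htc htb
    refine free_no_rich hM hIF hFR hca hne ht htc hU (hOp.to_le hXO) hX1 (hXO.trans hOC) hXn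
      ⟨s, t, hs, ht, hst, hsc, htc, C₀.EX_comm hM hIF hFR hca ht htc hbp (Subgroup.zpowers_ne_bot.2 hb1)
        (Subgroup.zpowers_le.2 (hC₁D hbC)) htb hb2 hsE htE,
        Subgroup.mem_centralizer_iff.2 fun z hz => (hE' z hz s hsE).eq,
        Subgroup.mem_centralizer_iff.2 fun z hz => (hE' z hz t htE).eq⟩
  -- so the derived subgroup centralises the Fitting subgroup
  set d' : ↥C₁ := ⟨d, hdC⟩
  have hd'c : d' ∈ commutator ↥C₁ := by
    rw [← Subgroup.map_subtype_commutator] at hdC'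
    obtain ⟨w, hw, hwd⟩ := hdC'
    exact (Subtype.ext hwd : w = d') ▸ hw
  have hd'F : d' ∈ Cfsg.fittingSubgroup ↥C₁ := by
    refine Solv.centralizer_fitting_le ‹_› (Subgroup.mem_centralizer_iff.2 fun y hy => ?_)
    rw [Solv.fitting_eq_iSup_pCore] at hy
    have hle : (⨆ q : Nat.Primes, Cfsg.pCore (q : ℕ) ↥C₁) ≤ Subgroup.centralizer ({d'} : Set ↥C₁) := by
      refine iSup_le fun q => ?_
      haveI := Fact.mk q.2
      haveI := hcyc (q : ℕ)
      haveI := Solv.pCore_normal (G := ↥C₁) (q : ℕ)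
      intro w hw
      refine Subgroup.mem_centralizer_singleton_iff.2 ?_
      have hd'' : d' ∈ ⁅(⊤ : Subgroup ↥C₁), (⊤ : Subgroup ↥C₁)⁆ := by rwa [← commutator_def]
      have hcomm : ⁅(⊤ : Subgroup ↥C₁), (⊤ : Subgroup ↥C₁)⁆ ≤
          Subgroup.centralizer ((Cfsg.pCore (q : ℕ) ↥C₁ : Subgroup ↥C₁) : Set ↥C₁) := by
        rw [Subgroup.commutator_le]
        intro v _ v' _
        refine Subgroup.mem_centralizer_iff.2 fun w hw => ?_
        let α : ↥C₁ →* MulAut (Cfsg.pCore (q : ℕ) ↥C₁) := MulAut.conjNormal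
        have hab : α ⁅v, v'⁆ = 1 := by
          rw [map_commutatorElement, commutatorElement_eq_one_iff_mul_comm]
          obtain ⟨g, hg⟩ := IsCyclic.exists_generator (α := Cfsg.pCore (q : ℕ) ↥C₁)
          obtain ⟨i, hi⟩ := Subgroup.mem_zpowers_iff.1 (hg (α v g))
          obtain ⟨j, hj⟩ := Subgroup.mem_zpowers_iff.1 (hg (α v' g))
          refine MulEquiv.ext fun y => ?_
          obtain ⟨m, rfl⟩ := Subgroup.mem_zpowers_iff.1 (hg y)
          show α v (α v' (g ^ m)) = α v' (α v (g ^ m))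
          simp only [map_zpow, ← hi, ← hj, ← zpow_mul, mul_left_comm i j]
        have h1 := congrArg Subtype.val (DFunLike.congr_fun hab ⟨w, hw⟩)
        rw [MulAut.conjNormal_apply, MulAut.one_apply] at h1
        exact (mul_inv_eq_iff_eq_mul.1 h1).symm
      exact Subgroup.mem_centralizer_iff.1 (hcomm hd'') w hw
    exact (Subgroup.mem_centralizer_singleton_iff.1 (hle hy))
  haveI := Solv.fittingSubgroup_normal (G := ↥C₁)
  have hd'o : orderOf d' = p ^ 1 := by rw [pow_one, Subgroup.orderOf_mk]; exact hdo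
  have hdP : d' ∈ Cfsg.pCore p ↥C₁ :=
    Solv.TwoRankAbelian.mem_pCore_of_nilpotent _ Solv.fittingSubgroup_nilpotent hd'F hd'o
  have hnorm : C₁ ≤ Subgroup.normalizer ((Subgroup.zpowers d : Subgroup G) : Set G) := fun e he => by
    refine zpowers_conj_mem ?_
    haveI := hcyc p
    haveI := Solv.pCore_normal (G := ↥C₁) p
    obtain ⟨g, hg⟩ := IsCyclic.exists_generator (α := Cfsg.pCore p ↥C₁)
    obtain ⟨i, hi⟩ := Subgroup.mem_zpowers_iff.1 (hg (MulAut.conjNormal (⟨e, he⟩ : ↥C₁) g))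
    obtain ⟨m, hm⟩ := Subgroup.mem_zpowers_iff.1 (hg ⟨d', hdP⟩)
    refine Subgroup.mem_zpowers_iff.2 ⟨i, ?_⟩
    have h1 : MulAut.conjNormal (⟨e, he⟩ : ↥C₁) (⟨d', hdP⟩ : Cfsg.pCore p ↥C₁) =
        (⟨d', hdP⟩ : Cfsg.pCore p ↥C₁) ^ i := by
      rw [← hm, map_zpow, ← hi, ← zpow_mul, ← zpow_mul, mul_comm]
    have h2 := congrArg (fun w : Cfsg.pCore p ↥C₁ => ((w : ↥C₁) : G)) h1
    simpa using h2.symm
  exact free_no_rich hM hIF hFR hca hne ht htc hU
    (IsPGroup.of_card (n := 1) (by rw [Nat.card_zpowers, hdo, pow_one])) (Subgroup.zpowers_ne_bot.2 hd1)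
    (Subgroup.zpowers_le.2 hdC) hnorm hd2

/-- The involutions at the point commute when `t` fixes nothing in the Fitting subgroup. -/
theorem commAt_of_free : CommAt H c := by
  classical
  have htT : t ∈ T0 c := invol_mem_T0 htc ht
  set T := T0 c
  obtain ⟨x₀, r₀, R₀, C₀⟩ := hM.exists_core hIF hFR hca hne ht htc
  have hFT : FD c a ≤ D1 c a := C₀.FD_le_D1 hM hIF hFR hca hne ht htc
  set C₁ := D1 c a ⊓ Subgroup.centralizer {t}
  rcases Endgame.commute_or_isolated (G := ↥T) (t := ⟨t, htT⟩) (Subtype.ext (sq_one ht))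
    (F := (FD c a).subgroupOf T) (C := C₁.subgroupOf T)
    (fun v hv w hw => Subtype.ext (free_comm hM hIF hFR hca hne ht htc hU hv hw))
    (fun g => by
      obtain ⟨d, hd, hdg⟩ := hM.conj_D1 hca ht htc g.2
      obtain ⟨f, hf, k, hk, hkt, rfl⟩ := free_factor hM hIF hFR hca hne ht htc hU hd
      refine ⟨⟨f, (hFT hf).1⟩, hf, Subtype.ext ?_⟩
      show f * t * f⁻¹ = (g : G) * t * (g : G)⁻¹
      rw [← hdg, show f * k * t * (f * k)⁻¹ = f * (k * t * k⁻¹) * f⁻¹ by group, hkt.eq, mul_inv_cancel_right])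
    (fun k hk => Subtype.ext (Subgroup.mem_centralizer_singleton_iff.1 hk.2))
    (fun f hf hft => Subtype.ext (hU f hf (congrArg Subtype.val hft)))
    (by
      rw [show Nat.card ↥(C₁.subgroupOf T) = Nat.card ↥C₁ from
        Solv.card_subgroupOf (inf_le_left.trans inf_le_left)]
      exact (St2_odd hM.hse hca.symm).of_dvd_nat (Subgroup.card_dvd_of_le (inf_le_left.trans (D1_le_St2 c a))))
    (fun k hk f hf => show (k : G) * f * (k : G)⁻¹ ∈ FD c a from
      Solv.conj_mem_of_mem_normalizer (FD_normalizer c a (D1_le_St2 c a hk.1)) hf)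
    (fun k hk f hf hkf => by
      rcases free_semiregular hM hIF hFR hca hne ht htc hU hk.1
        (Subgroup.mem_centralizer_singleton_iff.1 hk.2) hf
        (mul_inv_eq_iff_eq_mul.1 (congrArg Subtype.val hkf)) with h | h
      · exact Or.inl (Subtype.ext h)
      · exact Or.inr (Subtype.ext h))
    (fun f hf hf1 g hg => by
      have hf' : (f : G) ≠ 1 := fun h => hf1 (Subtype.ext h)
      have hgc : (g : G) • c = c := T0_le c g.2
      have hgf1 : (g : G) * f * (g : G)⁻¹ ≠ 1 := fun h => hf' (conj_eq_one_iff.1 h)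
      have hga : (g : G) • a = a := by
        rcases free_fix hM hIF hFR hca hne ht htc hU hg hgf1 (e := (g : G) • a) (by
          show ((g : G) * f * (g : G)⁻¹) • ((g : G) • a) = (g : G) • a
          rw [mul_smul, mul_smul, inv_smul_smul, show (f : G) • a = a from (FD_le c a hf).2]) with h | h
        · exact absurd (smul_left_cancel (g : G) (h.trans hgc.symm)) hca
        · exact h
      obtain ⟨f', hf'F, k, hk, hkt, hgk⟩ := free_factor hM hIF hFR hca hne ht htc hU
        (g := (g : G)) ⟨g.2, hgc, hga⟩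
      exact ⟨⟨f', (hFT hf'F).1⟩, hf'F, ⟨k, hk.1⟩,
        ⟨hk, Subgroup.mem_centralizer_singleton_iff.2 hkt.eq⟩, Subtype.ext hgk⟩) with h | h
  · exact hM.commAt_of_class hca ht htc fun g hg => congrArg Subtype.val (h ⟨g, hg⟩).eq
  · exfalso
    exact hM.not_central hIF hFR hca hne ht htc (hM.central_of_isolated hca ht htc fun g hg hcm =>
      congrArg Subtype.val (h ⟨g, hg⟩ (Subtype.ext hcm.eq)))

end Cfsg.Agent.SEB
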