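import Cfsg.Agent.Lib.Bender.Solvable.Sub

/-!
# Solvability of a strongly embedded subgroup: centralisers of `p`-subgroups with an involution

When one involution at a fixed point centralises such a subgroup, every fixed point has one; then
either there is exactly one at each point, or the centraliser has a normal regular `2`-group at the
point.
-/

set_option autoImplicit false
set_option linter.style.haveILetI false
set_option linter.unusedSectionVars false

open scoped Pointwise

namespace Cfsg.Agent.SEB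

open Cfsg
open Cfsg.Agent.Fusion (SylIn cj)
open Cfsg.Agent.Fusion.SEPairs

universe u

variable {G : Type u} [Group G] [Finite G] {H : Subgroup G}

section unique

variable (hse : Cfsg.IsStronglyEmbedded H) (hIF : InvertFree H) {M : Subgroup G} {c : G ⧸ H} {u : G}
  (hu : orderOf u = 2) (huc : u • c = c) (huM : u ∈ M) (hmove : ∃ g ∈ M, g • c ≠ c) (h1 : ¬ Two M c)
include hse hIF hu huc huM hmove h1

/-- Without commuting involutions there is one involution at the centre. -/
theorem unique_at_centre {s : G} (hs : orderOf s = 2) (hsc : s • c = c) (hsM : s ∈ M) : s = u := by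
  classical
  set O := OO M with hO
  haveI hOs : Group.IsSolvable ↥O := odd_solvable (OO_odd M)
  obtain ⟨g, hg, hgc⟩ := hmove
  -- `y = s u` lies in the odd core
  obtain ⟨k, hk, hku⟩ := conj_in hse hu huc huM ⟨g, hg, hgc⟩ hs hsM
  have hy : s * u ∈ O := by
    have h := conj_mem_OO hse hu huc huM ⟨g, hg, hgc⟩ h1 hu huM hk
    have e : s * u = (u * k * u⁻¹ * k⁻¹)⁻¹ := by
      rw [← hku, inv_self hu]
      simp only [mul_inv_rev, inv_inv, inv_self hu, mul_assoc]
    rw [e]
    exact inv_mem h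
  -- a layer of the derived series moving the centre
  set L : ℕ → Subgroup G := fun j => (derivedSeries ↥O j).map O.subtype with hL
  obtain ⟨n, hn⟩ := Group.IsSolvable.solvable (G := ↥O)
  obtain ⟨k₁, hk₁, hk₂⟩ : ∃ j, ¬ L j ≤ St c ∧ L (j + 1) ≤ St c := by
    have hex : ∃ j, L j ≤ St c := ⟨n, by simp [hL, hn]⟩
    rcases h0 : Nat.find hex with _ | j
    · exfalso
      have h := Nat.find_spec hex
      rw [h0] at h
      obtain ⟨k', hk', hkg⟩ := exists_OO_smul hse hu huc huM ⟨g, hg, hgc⟩ h1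
        (e := g • c) ⟨⟨g, hg⟩, rfl⟩
      refine hgc (hkg.symm.trans (h ⟨⟨k', hk'⟩, ?_, rfl⟩))
      rw [derivedSeries_zero]; exact Subgroup.mem_top _
    · exact ⟨j, Nat.find_min hex (by omega), h0 ▸ Nat.find_spec hex⟩
  have hLn : ∀ j, ∀ m ∈ M, ∀ x ∈ L j, m * x * m⁻¹ ∈ L j := by
    intro j m hm
    rintro _ ⟨z, hz, rfl⟩
    let σ : MulAut ↥O := Subgroup.normalizerMonoidHom O ⟨m, OO_normalizer (Subgroup.le_normalizer hm)⟩
    refine ⟨σ z, ?_, rfl⟩
    rw [← (derivedSeries_characteristic ↥O j).fixed σ] at hz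
    exact hz
  have hfixO : ∀ x ∈ L (k₁ + 1), ∀ m ∈ M, x • m • c = m • c := fun x hx m hm => by
    have h2 : (m⁻¹ * x * m⁻¹⁻¹) • c = c := hk₂ (hLn _ _ (M.inv_mem hm) x hx)
    rw [inv_inv, mul_smul, mul_smul, inv_smul_eq_iff] at h2
    exact h2
  obtain ⟨b, hb, hbc⟩ := SetLike.not_le_iff_exists.1 hk₁
  have hLM : ∀ j, L j ≤ M := fun j => (Subgroup.map_subtype_le _).trans (OO_le M)
  -- an involution at the centre sends `b • c` to `b⁻¹ • c`
  have key : ∀ w : G, orderOf w = 2 → w • c = c → w ∈ M → w • b • c = b⁻¹ • c := by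
    intro w hw hwc hwM
    set b' := w * b * w⁻¹ with hb'
    have hb'L : b' ∈ L k₁ := hLn _ _ hwM b hb
    have hcomm : b'⁻¹ * b⁻¹ * b' * b ∈ L (k₁ + 1) := by
      obtain ⟨z, hz, hze⟩ := hb
      obtain ⟨z', hz', hze'⟩ := hb'L
      refine ⟨z'⁻¹ * z⁻¹ * z' * z, ?_, ?_⟩
      · rw [derivedSeries_succ]
        have := Subgroup.commutator_mem_commutator (inv_mem hz') (inv_mem hz)
        rwa [commutatorElement_def, inv_inv, inv_inv] at this
      · simp only [map_mul, map_inv, hze, hze']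
    have hfix : w • (b * b') • c = (b * b') • c := by
      have h2 : w * (b * b') = (b' * b) * w := by
        rw [hb', inv_self hw]
        simp only [mul_assoc, ← mul_assoc w w, sq_one hw, one_mul, mul_one]
      rw [smul_smul, h2, mul_smul, hwc]
      have h3 : (b' * b) • c = (b * b') • (b'⁻¹ * b⁻¹ * b' * b) • c := by
        rw [smul_smul]; congr 1; group
      rw [h3]
      congr 1
      have h4 := hfixO _ hcomm 1 M.one_mem
      rwa [one_smul] at h4
    have hc := fixed_unique hse hw hfix hwc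
    have h5 : b' • c = b⁻¹ • c := by
      rw [eq_inv_smul_iff, smul_smul, hc]
    rw [← h5, hb', mul_smul, mul_smul, inv_smul_eq_iff.2 hwc.symm]
  have hne : b • c ≠ c := hbc
  have hyb : (s * u) • b • c = b • c := by
    rw [mul_smul, key u hu huc huM, ← key s hs hsc hsM, smul_smul_self hs]
  have hyc : (s * u) • c = c := by rw [mul_smul, huc, hsc]
  have hy1 : s * u = 1 := hIF c (b • c) s (s * u) hs hsc
    (by simp only [mul_inv_rev, inv_self hu, inv_self hs, mul_assoc, ← mul_assoc s s, sq_one hs, one_mul])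
    ((OO_odd M).of_dvd_nat (Subgroup.orderOf_dvd_natCard _ hy)) hne hyc hyb
  exact (eq_inv_of_mul_eq_one_left hy1).trans (inv_self hu)

/-- Without commuting involutions there is one involution at each point of the orbit. -/
theorem unique_at_point {e : G ⧸ H} {s s' : G} (hs : orderOf s = 2) (hsM : s ∈ M) (hse' : s • e = e)
    (hs' : orderOf s' = 2) (hs'M : s' ∈ M) (hs'e : s' • e = e) : s = s' := by
  obtain ⟨g, hg, hgc, -⟩ := centre_in_orbit hse hu huc huM hmove hs hse' hsM
  have hat : ∀ w, orderOf w = 2 → w ∈ M → w • e = e → w = g * u * g⁻¹ := by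
    intro w hw hwM hwe
    have h := unique_at_centre hse hIF hu huc huM hmove h1 (s := g⁻¹ * w * g)
      (by simpa using conj_involution hw g⁻¹)
      (by rw [mul_smul, mul_smul, hgc, hwe, ← hgc, inv_smul_smul])
      (mul_mem (mul_mem (inv_mem hg) hwM) hg)
    rw [← h]; group
  rw [hat s hs hsM hse', hat s' hs' hs'M hs'e]

/-- Without commuting involutions a pair is swapped by one involution only. -/
theorem unique_swapper {s s' : G} (hs : orderOf s = 2) (hsM : s ∈ M) (hs' : orderOf s' = 2)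
    (hs'M : s' ∈ M) (h : s • c = s' • c) : s = s' := by
  classical
  let O := MulAction.orbit M c
  have hinvol : ∀ e : O, ∃ w : G, orderOf w = 2 ∧ w ∈ M ∧ w • (e : G ⧸ H) = e := by
    rintro ⟨_, g, rfl⟩
    refine ⟨g * u * (g : G)⁻¹, conj_involution hu _, mul_mem (mul_mem g.2 huM) (inv_mem g.2), ?_⟩
    show ((g : G) * u * (g : G)⁻¹) • (g : G) • c = (g : G) • c
    rw [mul_smul, mul_smul, inv_smul_smul, huc]
  choose w hw hwM hwe using hinvol
  have hcen : ∀ v : G, orderOf v = 2 → v ∈ M → ∃ e : O, v = w e := fun v hv hvM => by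
    obtain ⟨e, hve⟩ := exists_fixed hse hv
    obtain ⟨g, hg, hgc, -⟩ := centre_in_orbit hse hu huc huM hmove hv hve hvM
    exact ⟨⟨e, ⟨g, hg⟩, hgc⟩,
      unique_at_point hse hIF hu huc huM hmove h1 hv hvM hve (hw _) (hwM _) (hwe _)⟩
  let f : O → O := fun e => ⟨w e • c, ⟨w e, hwM e⟩, rfl⟩
  have hsurj : Function.Surjective f := by
    rintro ⟨e, he⟩
    obtain ⟨j, hj, -, hje⟩ := exists_OO_swapper hse hu huc huM hmove h1 he
    obtain ⟨e', he'⟩ := hcen (j * u * j⁻¹) (conj_involution hu j)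
      (mul_mem (mul_mem (OO_le M hj) huM) (inv_mem (OO_le M hj)))
    exact ⟨e', Subtype.ext (by show w e' • c = e; rw [← he', hje])⟩
  haveI := Fintype.ofFinite O
  have hinj : Function.Injective f := (Finite.injective_iff_surjective (f := f)).2 hsurj
  obtain ⟨e, rfl⟩ := hcen s hs hsM
  obtain ⟨e', rfl⟩ := hcen s' hs' hs'M
  rw [hinj (Subtype.ext h : f e = f e')]

end unique

variable (hM : Min H) (hFR : FixRich H) {p : ℕ} [Fact p.Prime] {X : Subgroup G} (hXp : IsPGroup p X)
  (hX : X ≠ ⊥) {c a : G ⧸ H} (hca : a ≠ c) (hXD : X ≤ St2 c a) {s₀ : G} (hs₀ : orderOf s₀ = 2)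
  (hs₀c : s₀ • c = c) (hs₀X : s₀ ∈ Subgroup.centralizer (X : Set G))
include hM hFR hXp hX hca hXD hs₀ hs₀c hs₀X

omit hFR hXp hca hs₀ hs₀c hs₀X in
theorem centralizer_ne_top : Subgroup.centralizer (X : Set G) ≠ ⊤ := fun h => by
  obtain ⟨⟨x, hx⟩, hx1'⟩ := Subgroup.ne_bot_iff_exists_ne_one.1 hX
  have hx1 : x ≠ 1 := fun e => hx1' (Subtype.ext e)
  refine hx1 (eq_one_of_fix hM.hse hM.hN fun w => ?_)
  obtain ⟨g, rfl⟩ := exists_smul_eq' c w
  have hg : g ∈ Subgroup.centralizer (X : Set G) := h ▸ Subgroup.mem_top g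
  rw [smul_smul, Subgroup.mem_centralizer_iff.1 hg x hx, ← smul_smul, (hXD hx).1]

/-- Every fixed point has a centralising involution. -/
theorem exists_invol_fix {e : G ⧸ H} (he : e ∈ Bender.fixSet H X) :
    ∃ s : G, orderOf s = 2 ∧ s • e = e ∧ s ∈ Subgroup.centralizer (X : Set G) := by
  by_cases hpm : p ∣ Bender.numInv H
  · have h3 : 3 ≤ (Bender.fixSet H X).ncard := by
      refine Set.two_lt_ncard_iff (Set.toFinite _) |>.2 ⟨c, a, s₀ • a, fun x hx => (hXD hx).1,
        fun x hx => (hXD hx).2, fun x hx => ?_, hca.symm, ?_, ?_⟩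
      · show x • s₀ • a = s₀ • a
        have hxa : x • a = a := (hXD hx).2
        rw [smul_smul, Subgroup.mem_centralizer_iff.1 hs₀X x hx, ← smul_smul, hxa]
      · exact (smul_ne_centre hM.hse hs₀ hs₀c hca).symm
      · exact (ne_of_move hM.hse hs₀ hs₀c hca).symm
    obtain ⟨s, -, hs, -, -, hsc, -, -, hsX, -⟩ :=
      hFR p X (Fact.out) hpm hXp hX h3 e he
    exact ⟨s, hs, hsc, hsX⟩
  · set S := {s : G // orderOf s = 2 ∧ s • e = e}
    letI : MulAction X S :=
      { smul := fun z s => ⟨(z : G) * s.1 * (z : G)⁻¹, smul_involSet (he z.2) s.2⟩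
        one_smul := fun s => Subtype.ext (by show (1 : G) * s.1 * (1 : G)⁻¹ = s.1; group)
        mul_smul := fun a b s => Subtype.ext (by
          show (a : G) * b * s.1 * ((a : G) * b)⁻¹ = a * (b * s.1 * (b : G)⁻¹) * (a : G)⁻¹; group) }
    have hcard : ¬ p ∣ Nat.card S := by rwa [Bender.card_fixing e]
    obtain ⟨s, hs⟩ := hXp.nonempty_fixed_point_of_prime_not_dvd_card S hcard
    exact ⟨s.1, s.2.1, s.2.2, Subgroup.mem_centralizer_iff.2 fun z hz =>
      mul_inv_eq_iff_eq_mul.1 (congrArg Subtype.val (hs ⟨z, hz⟩))⟩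

theorem centralizer_move : ∃ g ∈ Subgroup.centralizer (X : Set G), g • c ≠ c := by
  obtain ⟨s, hs, hsa, hsX⟩ := exists_invol_fix hM hFR hXp hX hca hXD hs₀ hs₀c hs₀X
    (e := a) (fun x hx => (hXD hx).2)
  exact ⟨s, hsX, fun h => hca (fixed_unique hM.hse hs hsa h)⟩

/-- The fixed points form the orbit of the centraliser. -/
theorem fixSet_eq_orbit :
    Bender.fixSet H X = MulAction.orbit (Subgroup.centralizer (X : Set G)) c := by
  refine Set.ext fun e => ⟨fun he => ?_, ?_⟩
  · obtain ⟨s, hs, hse', hsX⟩ := exists_invol_fix hM hFR hXp hX hca hXD hs₀ hs₀c hs₀X he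
    obtain ⟨g, hg, hgc, -⟩ := centre_in_orbit hM.hse hs₀ hs₀c hs₀X
      (centralizer_move hM hFR hXp hX hca hXD hs₀ hs₀c hs₀X) hs hse' hsX
    exact ⟨⟨g, hg⟩, hgc⟩
  · rintro ⟨⟨g, hg⟩, rfl⟩ x hx
    show x • g • c = g • c
    have hxc : x • c = c := (hXD hx).1
    rw [smul_smul, Subgroup.mem_centralizer_iff.1 hg x hx, ← smul_smul, hxc]

/-- With one involution at the centre, a centralising element of the pair commutes with it. -/
theorem commute_centre (hIF : InvertFree H) (h1 : ¬ Two (Subgroup.centralizer (X : Set G)) c) {d : G}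
    (hd : d ∈ Subgroup.centralizer (X : Set G)) (hdc : d • c = c) : Commute d s₀ :=
  mul_inv_eq_iff_eq_mul.1 (unique_at_centre hM.hse hIF hs₀ hs₀c hs₀X
    (centralizer_move hM hFR hXp hX hca hXD hs₀ hs₀c hs₀X) h1 (smul_involSet hdc ⟨hs₀, hs₀c⟩).1
    (smul_involSet hdc ⟨hs₀, hs₀c⟩).2 (mul_mem (mul_mem hd hs₀X) (inv_mem hd)))

/-- With one involution at the centre, a centralising element of the pair commutes with a centralising
swapper of the pair. -/
theorem commute_swapper (hIF : InvertFree H) (h1 : ¬ Two (Subgroup.centralizer (X : Set G)) c) {d : G}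
    (hd : d ∈ Subgroup.centralizer (X : Set G)) (hdD : d ∈ St2 c a) {u : G} (hu : orderOf u = 2)
    (huX : u ∈ Subgroup.centralizer (X : Set G)) (huc : u • c = a) : Commute d u := by
  refine mul_inv_eq_iff_eq_mul.1 (unique_swapper hM.hse hIF hs₀ hs₀c hs₀X
    (centralizer_move hM hFR hXp hX hca hXD hs₀ hs₀c hs₀X) h1 (conj_involution hu d)
    (mul_mem (mul_mem hd huX) (inv_mem hd)) hu huX ?_)
  rw [mul_smul, mul_smul, inv_smul_eq_iff.2 (hdD.1 : d • c = c).symm, huc]
  exact hdD.2

omit hca in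
/-- A pair of fixed points is swapped by a centralising involution. -/
theorem exists_centralizing_swapper (hca : a ≠ c) :
    ∃ u : G, orderOf u = 2 ∧ u ∈ Subgroup.centralizer (X : Set G) ∧ u • c = a := by
  have hmove := centralizer_move hM hFR hXp hX hca hXD hs₀ hs₀c hs₀X
  have ha : a ∈ MulAction.orbit (Subgroup.centralizer (X : Set G)) c := by
    rw [← fixSet_eq_orbit hM hFR hXp hX hca hXD hs₀ hs₀c hs₀X]
    exact fun x hx => (hXD hx).2
  by_cases h1 : Two (Subgroup.centralizer (X : Set G)) c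
  · have hMt := centralizer_ne_top hM hX hXD
    obtain ⟨⟨g, hg⟩, hga⟩ := ha
    have hseM := hM.sub_se hMt h1 hmove
    have hne : (QuotientGroup.mk 1 : ↥(Subgroup.centralizer (X : Set G)) ⧸
        (St c).subgroupOf (Subgroup.centralizer (X : Set G))) ≠ QuotientGroup.mk ⟨g, hg⟩ := fun e => by
      rw [QuotientGroup.eq, inv_one, one_mul, Subgroup.mem_subgroupOf] at e
      exact hca (hga.symm.trans e)
    obtain ⟨w, hw, hwc⟩ := exists_swapper hseM hne
    refine ⟨w, by rw [Subgroup.orderOf_coe]; exact hw, w.2, ?_⟩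
    rw [MulAction.Quotient.smul_mk, QuotientGroup.eq, Subgroup.mem_subgroupOf, smul_eq_mul, mul_one] at hwc
    have h' : ((w : G)⁻¹ * g) • c = c := hwc
    rw [mul_smul, inv_smul_eq_iff] at h'
    exact h'.symm.trans hga
  · obtain ⟨j, hj, -, hjc⟩ := exists_OO_swapper hM.hse hs₀ hs₀c hs₀X hmove h1 ha
    exact ⟨_, conj_involution hs₀ j, mul_mem (mul_mem (OO_le _ hj) hs₀X) (inv_mem (OO_le _ hj)), hjc⟩

end Cfsg.Agent.SEB
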