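import Cfsg.Agent.Lib.Bender.Solvable.Engine
import Cfsg.Agent.Lib.Fusion.Alperin
import Cfsg.Agent.Lib.Fusion.Focal
import Cfsg.Agent.Lib.Char.ThreeIndex.Count

/-!
# Solvability of a strongly embedded subgroup: normal subgroups and transfer

A normal subgroup of the pair stabiliser in `T0` centralises no involution at the point unless `T0`
does. A prime dividing the abelianisation of this pair stabiliser does not divide the number of
involutions, and central elements of its Sylow subgroup are centralised by one involution at the point.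
-/

set_option autoImplicit false
set_option linter.style.haveILetI false
set_option linter.unusedSectionVars false

open scoped Pointwise

namespace Cfsg.Agent.SEB

open Cfsg
open Cfsg.Agent.Fusion (SylIn cj rcj Chain)
open Cfsg.Agent.Fusion.SEPairs

universe u

variable {G : Type u} [Group G] [Finite G] {H : Subgroup G}

/-- A splitting subgroup's Sylow subgroup in a pair stabiliser is one in the point stabiliser. -/
theorem Split.sylow_up (hse : Cfsg.IsStronglyEmbedded H) {Y : Subgroup G} {c a : G ⧸ H} (hca : a ≠ c)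
    (hs : Split Y c) {p : ℕ} [Fact p.Prime] (hp : p ≠ 2) {C : Subgroup G} (hCc : C ≤ St c)
    (hCn : TwoGen (Subgroup.centralizer (Y : Set G)) c ≤ Subgroup.normalizer (C : Set G))
    (hY : SylIn p Y (C ⊓ St2 c a)) : SylIn p Y C := by
  obtain ⟨S, hS, hYS⟩ := Fusion.exists_sylIn_ge hY.isPGroup (hY.le.trans inf_le_left)
  by_contra hne
  have hne' : Y ≠ S := fun h => hne (h ▸ hS)
  have hlt := Fusion.SylIn.normalizer_growth hYS hne' hS.isPGroup
  set Y' := S ⊓ Subgroup.normalizer (Y : Set G)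
  have ha : a ∈ Bender.fixSet H Y := fun y hy => (hY.le hy).2.2
  obtain ⟨e, he, hec, hle⟩ := hs.exists_fix hse hca ha hp (R := Y') (hS.isPGroup.to_le inf_le_left)
    inf_le_right (inf_le_left.trans (hS.le.trans hCc))
  obtain ⟨q, hq, hqe⟩ := hs.trans a ha e he hca hec
  have hqc : q • c = c := (TwoGen_le _ c hq).2
  have hsub : cj Y' q⁻¹ ≤ C ⊓ St2 c a := by
    rintro _ ⟨y, hy, rfl⟩
    show q⁻¹ * y * q⁻¹⁻¹ ∈ C ⊓ St2 c a
    refine ⟨Solv.conj_mem_of_mem_normalizer (inv_mem (hCn hq)) (hS.le hy.1), ?_, ?_⟩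
    · exact Subgroup.mul_mem _ (Subgroup.mul_mem _ (Subgroup.inv_mem _ hqc) (hCc (hS.le hy.1)))
        (Subgroup.inv_mem _ (Subgroup.inv_mem _ hqc))
    · show (q⁻¹ * y * q⁻¹⁻¹) • a = a
      have hye : y • e = e := hle hy
      rw [inv_inv, mul_smul, mul_smul, hqe, hye, inv_smul_eq_iff, hqe]
  have hYq : Y ≤ cj Y' q⁻¹ := fun y hy => by
    refine Fusion.mem_cj.2 (?_ : q⁻¹⁻¹ * y * q⁻¹ ∈ Y')
    rw [inv_inv, ← Subgroup.mem_centralizer_iff.1 (TwoGen_le _ c hq).1 y hy, mul_inv_cancel_right]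
    exact hlt.le hy
  have h1 := Subgroup.card_le_of_le (hY.eq_of_le (Fusion.isPGroup_cj (hS.isPGroup.to_le inf_le_left) _)
    hYq hsub).le
  rw [Fusion.card_cj] at h1
  exact hlt.ne (Subgroup.eq_of_le_of_card_ge hlt.le h1)

namespace Min

variable (hM : Min H) (hIF : InvertFree H) (hFR : FixRich H) {c a : G ⧸ H} (hca : a ≠ c)
include hM hIF hFR hca

omit hIF hFR in
/-- If `T0` centralises one involution at the point it centralises all. -/
theorem central_all {t : G} (ht : orderOf t = 2) (htc : t • c = c)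
    (h : ∀ g ∈ T0 c, g * t * g⁻¹ = t) {s : G} (hs : orderOf s = 2) (hsc : s • c = c) :
    ∀ g ∈ T0 c, g * s * g⁻¹ = s := by
  intro g hg
  obtain ⟨d, hdc, -, rfl⟩ := pair_transitive hM.hse hca ht htc hs hsc
  have h1 := h _ (Solv.conj_mem_of_mem_normalizer (inv_mem (St_le_normalizer_T0 c (hdc : d ∈ St c))) hg)
  calc g * (d * t * d⁻¹) * g⁻¹ = d * (d⁻¹ * g * d⁻¹⁻¹ * t * (d⁻¹ * g * d⁻¹⁻¹)⁻¹) * d⁻¹ := by group
    _ = d * t * d⁻¹ := by rw [h1]

omit hIF hFR in
theorem commAt_of_central {t : G} (ht : orderOf t = 2) (htc : t • c = c)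
    (h : ∀ g ∈ T0 c, g * t * g⁻¹ = t) : CommAt H c := fun s s' hs _ hsc hs'c =>
  mul_inv_eq_iff_eq_mul.1 (hM.central_all hca ht htc h (s := s') ‹_› hs'c s (invol_mem_T0 hsc hs))

/-- A subgroup normal in the pair stabiliser of `N` centralising an involution at the point forces this
involution to be central in `T0`. -/
theorem central_of_normal {N : Subgroup G} (hTN : T0 c ≤ N) (hNc : N ≤ St c)
    (hNn : St c ≤ Subgroup.normalizer (N : Set G)) {p : ℕ} [Fact p.Prime] {X : Subgroup G}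
    (hXp : IsPGroup p X) (hX : X ≠ ⊥) (hXN : X ≤ N ⊓ St2 c a)
    (hXn : N ⊓ St2 c a ≤ Subgroup.normalizer (X : Set G)) {s : G} (hs : orderOf s = 2) (hsc : s • c = c)
    (hsX : s ∈ Subgroup.centralizer (X : Set G))
    (hN : ∀ g ∈ N, ∃ d ∈ N ⊓ St2 c a, d * s * d⁻¹ = g * s * g⁻¹) :
    ∀ g ∈ T0 c, g * s * g⁻¹ = s := by
  classical
  by_cases hall : ∀ g ∈ N, g * s * g⁻¹ = s
  · exact fun g hg => hall g (hTN hg)
  push Not at hall
  obtain ⟨g₁, hg₁, hne⟩ := hall
  have hXD : X ≤ St2 c a := hXN.trans inf_le_right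
  have hp2 : p ≠ 2 := by
    rintro rfl
    obtain ⟨k, hk⟩ := IsPGroup.iff_card.1 hXp
    rcases Nat.eq_zero_or_pos k with rfl | hk0
    · exact hX (Subgroup.card_eq_one.1 (by rw [hk, pow_zero]))
    · exact absurd ((St2_odd hM.hse hca.symm).of_dvd_nat (hk ▸ Subgroup.card_dvd_of_le hXD))
        (Nat.not_odd_iff_even.2 ((Nat.even_pow' hk0.ne').2 even_two))
  set S := {s' : G | ∃ g ∈ N, g * s * g⁻¹ = s'} with hSdef
  have hSX : ∀ s' ∈ S, orderOf s' = 2 ∧ s' • c = c ∧ s' ∈ Subgroup.centralizer (X : Set G) := by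
    rintro _ ⟨g, hg, rfl⟩
    refine ⟨(smul_involSet (hNc hg : g • c = c) ⟨hs, hsc⟩).1, (smul_involSet (hNc hg : g • c = c) ⟨hs, hsc⟩).2,
      ?_⟩
    obtain ⟨d, hd, hdg⟩ := hN g hg
    rw [← hdg]
    refine Subgroup.mem_centralizer_iff.2 fun x hx => ?_
    have h1 : d⁻¹ * x * d ∈ X := by simpa using Solv.conj_mem_of_mem_normalizer (inv_mem (hXn hd)) hx
    calc x * (d * s * d⁻¹) = d * ((d⁻¹ * x * d) * s) * d⁻¹ := by group
      _ = d * (s * (d⁻¹ * x * d)) * d⁻¹ := by rw [Subgroup.mem_centralizer_iff.1 hsX _ h1]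
      _ = _ := by group
  obtain ⟨hs₁, hs₁c, hs₁X⟩ := hSX _ ⟨g₁, hg₁, rfl⟩
  have h2 := two_of_ne hM hFR hIF hXp hX hca hXD hs hsc hsX hs₁ hs₁c hs₁X hne.symm
  have hspl := split_of_two hM hFR hIF hXp hX hca hXD h2
  set C := N ⊓ Subgroup.centralizer S with hC
  have hSn : ∀ g ∈ N, ∀ s' ∈ S, g * s' * g⁻¹ ∈ S := by
    rintro g hg _ ⟨g', hg', rfl⟩
    exact ⟨g * g', mul_mem hg hg', by group⟩
  have hCn : N ≤ Subgroup.normalizer (C : Set G) := fun g hg => by
    refine Fusion.mem_normalizer_of_cj_le ?_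
    rintro _ ⟨z, hz, rfl⟩
    refine ⟨Subgroup.mul_mem _ (Subgroup.mul_mem _ hg hz.1) (Subgroup.inv_mem _ hg),
      Subgroup.mem_centralizer_iff.2 fun s' hs' => ?_⟩
    have h1 := Subgroup.mem_centralizer_iff.1 hz.2 _ (hSn _ (inv_mem hg) s' hs')
    rw [inv_inv] at h1
    show s' * (g * z * g⁻¹) = g * z * g⁻¹ * s'
    calc s' * (g * z * g⁻¹) = g * (g⁻¹ * s' * g * z) * g⁻¹ := by group
      _ = g * (z * (g⁻¹ * s' * g)) * g⁻¹ := by rw [h1]
      _ = _ := by group
  have hXC : X ≤ C := le_inf (hXN.trans inf_le_left) (fun x hx => Subgroup.mem_centralizer_iff.2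
    fun s' hs' => (Subgroup.mem_centralizer_iff.1 (hSX s' hs').2.2 x hx).symm)
  obtain ⟨Y, hY, hXY⟩ := Fusion.exists_sylIn_ge hXp (le_inf hXC hXD)
  have hYD : Y ≤ St2 c a := hY.le.trans inf_le_right
  have hYs : Split Y c := Split.of_normal hM.hse hspl hXY
    (fun y hy => hXn ⟨(hY.le hy).1.1, hYD hy⟩) (fun y hy => (hYD hy).1)
  have hYC := hYs.sylow_up hM.hse hca hp2 (C := C) (inf_le_left.trans hNc)
    ((TwoGen_le_T0 _ c).trans (hTN.trans hCn)) hY
  have hYfix : a ∈ Bender.fixSet H Y := fun y hy => (hYD hy).2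
  -- `N` is the product of the centraliser and the pair stabiliser
  have hprod : N ≤ C ⊔ (N ⊓ St2 c a) := by
    intro g hg
    obtain ⟨k, hk, hkn⟩ := Fusion.frattini_conj hYC hCn hg
    obtain ⟨q, hq, d, hd, hqd⟩ := hYs.decomp hca hYfix (g := k * g)
      (by rw [mul_smul, show g • c = c from hNc hg]; exact hNc hk.1)
      (Bender.smul_mem_fixSet hkn hYfix)
    have hqN : q ∈ N := hTN (TwoGen_le_T0 _ c hq)
    have hqC : q ∈ C := ⟨hqN, Subgroup.mem_centralizer_iff.2 fun s' hs' => by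
      obtain ⟨h1, h2', -⟩ := hSX s' hs'
      exact hYs.central s' (Subgroup.mem_centralizer_iff.2 fun y hy =>
        (Subgroup.mem_centralizer_iff.1 (hY.le hy).1.2 s' hs').symm) h1 h2' q hq⟩
    have hdN : d ∈ N := by
      rw [show d = q⁻¹ * (k * g) by rw [hqd]; group]
      exact mul_mem (inv_mem hqN) (mul_mem hk.1 hg)
    rw [show g = k⁻¹ * q * d by rw [mul_assoc, ← hqd]; group]
    exact Subgroup.mul_mem_sup (mul_mem (inv_mem hk) hqC) ⟨hdN, hd⟩
  have hodd : Odd (C.relIndex (T0 c)) := by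
    refine Odd.of_dvd_nat ?_ (relIndex_dvd_of_normalizes (A := C) (B := N) inf_le_left hTN
      (hNc.trans (St_le_normalizer_T0 c)))
    have hN' : C ⊔ (N ⊓ St2 c a) = N := le_antisymm (sup_le inf_le_left inf_le_left) hprod
    have h1 := Solv.card_sup_mul_card_inf' C (N ⊓ St2 c a) (inf_le_left.trans hCn)
    rw [hN'] at h1
    have h3 := (C.subgroupOf N).card_mul_index
    rw [Solv.card_subgroupOf inf_le_left] at h3
    rw [← h3, mul_assoc] at h1
    have h4 : C.relIndex N * Nat.card ↥(C ⊓ (N ⊓ St2 c a)) = Nat.card ↥(N ⊓ St2 c a) :=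
      Nat.eq_of_mul_eq_mul_left Nat.card_pos h1
    exact ((St2_odd hM.hse hca.symm).of_dvd_nat (Subgroup.card_dvd_of_le inf_le_right)).of_dvd_nat
      (Dvd.intro _ h4)
  intro g hg
  exact mul_inv_eq_iff_eq_mul.2 (Subgroup.mem_centralizer_iff.1
    (T0_le_of_odd_index (hTN.trans hCn) hodd hg).2 s ⟨1, one_mem _, by group⟩).symm

omit hIF hFR hca in
/-- A Sylow subgroup of odd order of `T0` lies in its derived subgroup. -/
theorem sylow_le_commutator {r : ℕ} [Fact r.Prime] (hr : r ≠ 2) {R : Subgroup G} (hR : SylIn r R (T0 c)) :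
    R ≤ ⁅T0 c, T0 c⁆ := by
  by_contra hle
  obtain ⟨P, hP⟩ := hR.exists_sylow_subgroupOf
  obtain ⟨N, hN, hNi⟩ := Fusion.exists_normal_index_prime (Fusion.sylIn_top P) (fun h => hle fun y hy => by
    have h1 : (⟨y, hR.le hy⟩ : T0 c) ∈ commutator ↥(T0 c) := h (hP ▸ (Subgroup.mem_subgroupOf.2 hy))
    exact Subgroup.map_subtype_commutator (T0 c) ▸ Subgroup.mem_map_of_mem (T0 c).subtype h1)
  haveI := hN
  have h1 := T0_le_of_odd_index (c := c) (K := N.map (T0 c).subtype) (fun g hg => by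
      refine Fusion.mem_normalizer_of_cj_le ?_
      rintro _ ⟨_, ⟨z, hz, rfl⟩, rfl⟩
      exact ⟨⟨g, hg⟩ * z * ⟨g, hg⟩⁻¹, hN.conj_mem z hz _, rfl⟩) (by
      rw [Subgroup.relIndex, Subgroup.subgroupOf, Subgroup.comap_map_eq_self_of_injective
        (T0 c).subtype_injective, hNi]
      exact (Fact.out : r.Prime).odd_of_ne_two hr)
  have h2 : N = ⊤ := top_le_iff.1 fun z _ => by
    obtain ⟨z', hz', e⟩ := h1 z.2
    exact (Subtype.ext e : z' = z) ▸ hz'
  rw [h2, Subgroup.index_top] at hNi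
  exact (Fact.out : r.Prime).ne_one hNi.symm

omit hIF hFR in
/-- Transfer: when conjugation is controlled at a central element, the Sylow subgroup lies in the
derived subgroup. -/
theorem le_commutator_of_ctrl {r : ℕ} [Fact r.Prime] (hr : r ≠ 2) {R : Subgroup G}
    (hR : SylIn r R (T0 c)) (hRD : R ≤ D1 c a) {z : G} (hz : z ∈ R) (hzc : ∀ y ∈ R, Commute z y)
    (hctrl : ∀ U ≤ R, z ∈ U → ∀ g ∈ T0 c, g ∈ Subgroup.normalizer (U : Set G) →
      ∃ q ∈ Subgroup.centralizer (U : Set G), ∃ d ∈ D1 c a, g = q * d) :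
    R ≤ ⁅D1 c a, D1 c a⁆ := by
  classical
  set T := T0 c
  set D' := ⁅D1 c a, D1 c a⁆
  have hRT : R ≤ T := hR.le
  obtain ⟨P, hP⟩ := hR.exists_sylow_subgroupOf
  set S : Subgroup T := R.subgroupOf T
  have hS : SylIn r S ⊤ := hP ▸ Fusion.sylIn_top P
  let Rel : Subgroup T → T → Prop := fun U n => n ∈ Subgroup.normalizer (U : Set T) ∧
    ∀ y ∈ U, ((y⁻¹ * (n⁻¹ * y * n) : T) : G) ∈ D'
  have hRel : ∀ U n, Rel U n → n ∈ Subgroup.normalizer (U : Set T) ∧ Rel U n⁻¹ := fun U n hn =>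
    ⟨hn.1, inv_mem hn.1, fun y hy => by
      have h := hn.2 _ (Solv.conj_mem_of_mem_normalizer hn.1 hy)
      have h' := D'.inv_mem h
      convert h' using 1
      push_cast
      group⟩
  have hloc : ∀ X : Subgroup T, X ≤ S → ∃ (U : Subgroup T) (g : T), U = cj X g ∧ U ≤ S ∧
      SylIn r (S ⊓ Subgroup.normalizer (U : Set T)) (Subgroup.normalizer (U : Set T)) ∧
      ∀ n ∈ Subgroup.normalizer (U : Set T),
        (∀ (W : Subgroup T) (h : T), Nat.card X < Nat.card W → W ≤ S → cj W h⁻¹ ≤ S →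
          Chain Rel (W : Set T) h) →
        Chain Rel (U : Set T) n := by
    intro X hX
    obtain ⟨g, hgS, hsyl⟩ := Fusion.exists_extremal_conj hS hX
    refine ⟨cj X g, g, rfl, hgS, hsyl, fun n hn bigger => ?_⟩
    set U := cj X g
    by_cases hzU : (⟨z, hRT hz⟩ : T) ∈ U
    · set U' := U.map T.subtype
      have hn' : (n : G) ∈ Subgroup.normalizer (U' : Set G) := by
        refine Fusion.mem_normalizer_of_cj_le ?_
        rintro _ ⟨_, ⟨y, hy, rfl⟩, rfl⟩
        exact ⟨n * y * n⁻¹, Solv.conj_mem_of_mem_normalizer hn hy, rfl⟩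
      have hU'R : U' ≤ R := by
        rintro _ ⟨y, hy, rfl⟩
        exact hgS hy
      obtain ⟨q, hq, d, hd, hnd⟩ := hctrl U' hU'R ⟨_, hzU, rfl⟩ n n.2 hn'
      refine Chain.single ⟨hn, fun y hy => ?_⟩ subset_rfl
      have hy' : (y : G) ∈ U' := ⟨y, hy, rfl⟩
      have h1 : (n : G)⁻¹ * y * n = d⁻¹ * y * d := by
        have h2 := Subgroup.mem_centralizer_iff.1 hq _ hy'
        rw [hnd]
        calc (q * d)⁻¹ * (y : G) * (q * d) = d⁻¹ * (q⁻¹ * ((y : G) * q)) * d := by group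
          _ = _ := by rw [h2]; group
      push_cast
      rw [h1]
      have h3 := Subgroup.commutator_mem_commutator (inv_mem (hRD (hU'R hy'))) (inv_mem hd)
      rw [commutatorElement_def] at h3
      simpa [mul_assoc] using h3
    · -- `z` enlarges `U`
      set C := Subgroup.normalizer (U : Set T) ⊓ Subgroup.centralizer (U : Set T)
      have hCn : Subgroup.normalizer (U : Set T) ≤ Subgroup.normalizer (C : Set T) := fun e he => by
        refine Fusion.mem_normalizer_of_cj_le ?_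
        rintro _ ⟨w, hw, rfl⟩
        exact ⟨Subgroup.mul_mem _ (Subgroup.mul_mem _ he hw.1) (Subgroup.inv_mem _ he),
          Solv.conj_mem_of_mem_normalizer (mem_normalizer_centralizer he) hw.2⟩
      have hsylC : SylIn r (S ⊓ Subgroup.normalizer (U : Set T) ⊓ C) C :=
        hsyl.inf_normal inf_le_left hCn
      obtain ⟨k, hk, hkn⟩ := Fusion.frattini_conj hsylC hCn hn
      set W := U ⊔ (S ⊓ Subgroup.normalizer (U : Set T) ⊓ C)
      have hzW : (⟨z, hRT hz⟩ : T) ∈ W := by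
        refine Subgroup.mem_sup_right ⟨⟨hz, ?_⟩, ?_, ?_⟩
        all_goals first
          | exact Subgroup.centralizer_le_normalizer _ (Subgroup.mem_centralizer_iff.2 fun y hy =>
              Subtype.ext (hzc y (hgS hy)).eq.symm)
          | exact Subgroup.mem_centralizer_iff.2 fun y hy => Subtype.ext (hzc y (hgS hy)).eq.symm
      have hlt : Nat.card X < Nat.card W := by
        rw [← Fusion.card_cj X g]
        by_contra hle
        exact hzU ((Subgroup.eq_of_le_of_card_ge (le_sup_left : U ≤ W) (not_lt.1 hle)) ▸ hzW)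
      have hWS : W ≤ S := sup_le hgS (inf_le_left.trans inf_le_left)
      have hknU : k * n ∈ Subgroup.normalizer (U : Set T) := mul_mem hk.1 hn
      have h1 : Chain Rel (U : Set T) (k * n) :=
        (bigger W _ hlt hWS (by
          rw [Fusion.cj_sup, Fusion.cj_eq_self (inv_mem hknU), Fusion.cj_eq_self (inv_mem hkn)]
          exact hWS)).mono (show (U : Set T) ⊆ (W : Set T) from fun _ h => (le_sup_left : U ≤ W) h)
      have h2 : Chain Rel (U : Set T) k⁻¹ := by
        refine Chain.single ⟨inv_mem hk.1, fun y hy => ?_⟩ subset_rfl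
        rw [inv_inv, ← Subgroup.mem_centralizer_iff.1 hk.2 y hy, mul_inv_cancel_right, inv_mul_cancel,
          OneMemClass.coe_one]
        exact one_mem _
      have h3 := h2.append (h := k * n) (by
        rw [Fusion.rcj_coe, inv_inv, Fusion.cj_eq_self hk.1]
        exact h1)
      simpa [mul_assoc] using h3
  have hchain : ∀ {A : Set T} {g : T}, Chain Rel A g →
      ∀ y ∈ A, ((y⁻¹ * (g⁻¹ * y * g) : T) : G) ∈ D' := by
    intro A g h
    induction h with
    | nil B => intro y _; simp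
    | @cons B g U x hx hBU _ ih =>
      intro y hy
      have h1 := hx.2 y (hBU hy)
      have h2 := ih (x⁻¹ * y * x) ⟨y, hy, rfl⟩
      have h3 := mul_mem h1 h2
      rw [← Subgroup.coe_mul] at h3
      convert h3 using 2
      group
  intro y hy
  have h1 := hM.sylow_le_commutator hr hR hy
  have h2 : y ∈ Fusion.focalIn R T := Fusion.inf_commutator_eq_focalIn hR ▸ (⟨hy, h1⟩ : y ∈ R ⊓ ⁅T, T⁆)
  refine (Subgroup.closure_le _).2 ?_ h2
  rintro _ ⟨w, hw, h, hh, hwh, rfl⟩
  have h3 := hchain (Fusion.chain_of_local hS hRel hloc (A := {(⟨w, hRT hw⟩ : T)})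
    (g := (⟨h, hh⟩ : T)⁻¹) (by simpa [S, Subgroup.mem_subgroupOf] using hw) (by
      rintro _ ⟨_, rfl, rfl⟩
      simpa [S, Subgroup.mem_subgroupOf] using hwh)) _ rfl
  simpa using h3

omit hIF hFR in
/-- A subgroup with a central element fixing only the pair has normaliser in the pair stabiliser. -/
theorem mem_D1_of_pair {U : Subgroup G} {z : G} (hzU : z ∈ U)
    (hfix : Bender.fixSet H (Subgroup.zpowers z) ⊆ {c, a}) (hUa : U ≤ St a) {g : G} (hg : g ∈ T0 c)
    (hgU : g ∈ Subgroup.normalizer (U : Set G)) : g ∈ D1 c a := by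
  have hgc : g • c = c := T0_le c hg
  refine ⟨hg, hgc, ?_⟩
  have h1 : g • a ∈ Bender.fixSet H (Subgroup.zpowers z) :=
    Bender.fixSet_anti (Subgroup.zpowers_le.2 hzU) (Bender.smul_mem_fixSet hgU hUa)
  rcases hfix h1 with h | h
  · exact absurd (smul_left_cancel g ((h : g • a = c).trans hgc.symm)) hca
  · exact h

/-- A central element whose centraliser splits, or which fixes only the pair, gives the transfer. -/
theorem false_of_good {r : ℕ} [Fact r.Prime] (hr : r ≠ 2) {R : Subgroup G} (hR : SylIn r R (D1 c a))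
    (hab : ¬ R ≤ ⁅D1 c a, D1 c a⁆) {z : G} (hz : z ∈ R) (hzc : ∀ y ∈ R, Commute z y)
    (hgood : Split (Subgroup.zpowers z) c ∨ Bender.fixSet H (Subgroup.zpowers z) ⊆ {c, a}) : False := by
  have hRD := hR.le
  have hRa : R ≤ St a := fun y hy => (hRD hy).2.2
  have hzn : R ≤ Subgroup.normalizer ((Subgroup.zpowers z : Subgroup G) : Set G) := fun y hy => by
    refine Fusion.mem_normalizer_of_cj_le ?_
    rintro _ ⟨w, hw, rfl⟩
    obtain ⟨i, rfl⟩ := Subgroup.mem_zpowers_iff.1 hw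
    refine Subgroup.mem_zpowers_iff.2 ⟨i, ?_⟩
    show z ^ i = y * z ^ i * y⁻¹
    rw [← ((hzc y hy).zpow_left i).eq, mul_inv_cancel_right]
  have hspl : ∀ U ≤ R, z ∈ U → Split (Subgroup.zpowers z) c → Split U c := fun U hU hzU h =>
    h.of_normal hM.hse (Subgroup.zpowers_le.2 hzU) (hU.trans hzn) fun y hy => (hRD (hU hy)).2.1
  have hRT : SylIn r R (T0 c) := by
    rcases hgood with h | h
    · exact (hspl R le_rfl hz h).sylow_up hM.hse hca hr (T0_le c)
        ((TwoGen_le_T0 _ c).trans Subgroup.le_normalizer) hR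
    · obtain ⟨S, hS, hRS⟩ := Fusion.exists_sylIn_ge hR.isPGroup (hRD.trans inf_le_left)
      by_contra hne
      have hne' : R ≠ S := fun e => hne (e ▸ hS)
      have hlt := Fusion.SylIn.normalizer_growth hRS hne' hS.isPGroup
      exact hlt.ne (hR.eq_of_le (hS.isPGroup.to_le inf_le_left) hlt.le
        fun g hg => hM.mem_D1_of_pair hca hz h hRa (hS.le hg.1) hg.2).symm
  refine hab (hM.le_commutator_of_ctrl hca hr hRT hRD hz hzc fun U hU hzU g hg hgU => ?_)
  rcases hgood with h | h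
  · have ha : a ∈ Bender.fixSet H U := hU.trans hRa
    have hgc : g • c = c := T0_le c hg
    obtain ⟨q, hq, d, hd, rfl⟩ := (hspl U hU hzU h).decomp hca ha hgc (Bender.smul_mem_fixSet hgU ha)
    refine ⟨q, (TwoGen_le _ c hq).1, d, ⟨?_, hd⟩, rfl⟩
    rw [show d = q⁻¹ * (q * d) by group]
    exact Subgroup.mul_mem _ (Subgroup.inv_mem _ (TwoGen_le_T0 _ c hq)) hg
  · exact ⟨1, one_mem _, g, hM.mem_D1_of_pair hca hzU h (hU.trans hRa) hg hgU, (one_mul g).symm⟩

/-- The basic dichotomy for a prime dividing the abelianisation. -/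
theorem core_facts {r : ℕ} [Fact r.Prime] {R : Subgroup G} (hR : SylIn r R (D1 c a))
    (hab : ¬ R ≤ ⁅D1 c a, D1 c a⁆) :
    r ≠ 2 ∧ ¬ r ∣ Bender.numInv H ∧ ∀ z ∈ R, z ≠ 1 → (∀ y ∈ R, Commute z y) →
      ¬ Two (Subgroup.centralizer ((Subgroup.zpowers z : Subgroup G) : Set G)) c := by
  have hRD : R ≤ St2 c a := hR.le.trans inf_le_right
  have hR1 : R ≠ ⊥ := fun h => hab (h ▸ bot_le)
  have hr : r ≠ 2 := by
    rintro rfl
    obtain ⟨k, hk⟩ := IsPGroup.iff_card.1 hR.isPGroup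
    rcases Nat.eq_zero_or_pos k with rfl | hk0
    · exact hR1 (Subgroup.card_eq_one.1 (by rw [hk, pow_zero]))
    · exact absurd ((St2_odd hM.hse hca.symm).of_dvd_nat (hk ▸ Subgroup.card_dvd_of_le hRD))
        (Nat.not_odd_iff_even.2 ((Nat.even_pow' hk0.ne').2 even_two))
  have hzp : ∀ z ∈ R, IsPGroup r (Subgroup.zpowers z) := fun z hz =>
    hR.isPGroup.to_le (Subgroup.zpowers_le.2 hz)
  have hlone : ∀ z ∈ R, z ≠ 1 → (∀ y ∈ R, Commute z y) →
      ¬ Two (Subgroup.centralizer ((Subgroup.zpowers z : Subgroup G) : Set G)) c := fun z hz hz1 hzc h2 =>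
    hM.false_of_good hIF hFR hca hr hR hab hz hzc
      (Or.inl (split_of_two hM hFR hIF (hzp z hz) (Subgroup.zpowers_ne_bot.2 hz1) hca
        (Subgroup.zpowers_le.2 (hRD hz)) h2))
  refine ⟨hr, fun hrm => ?_, hlone⟩
  haveI : Nontrivial R := (Subgroup.nontrivial_iff_ne_bot R).2 hR1
  haveI := hR.isPGroup.center_nontrivial
  obtain ⟨⟨z, hz⟩, hz1⟩ := exists_ne (1 : Subgroup.center R)
  have hz1' : (z : G) ≠ 1 := fun e => hz1 (Subtype.ext (Subtype.ext e))
  have hzc : ∀ y ∈ R, Commute (z : G) y := fun y hy =>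
    (congrArg Subtype.val (Subgroup.mem_center_iff.1 hz ⟨y, hy⟩)).symm
  refine hM.false_of_good hIF hFR hca hr hR hab z.2 hzc ?_
  by_cases h3 : 3 ≤ (Bender.fixSet H (Subgroup.zpowers (z : G))).ncard
  · exfalso
    obtain ⟨s, s', hs, hs', hne, hsc, hs'c, hss, hsX, hs'X⟩ := hFR r _ Fact.out hrm (hzp z z.2)
      (Subgroup.zpowers_ne_bot.2 hz1') h3 c (fun y hy => (Subgroup.zpowers_le.2 (hRD z.2) hy).1)
    exact hlone z z.2 hz1' hzc ⟨s, s', hs, hs', hne, hsc, hs'c, hss, hsX, hs'X⟩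
  · right
    intro e he
    by_contra hne
    simp only [Set.mem_insert_iff, Set.mem_singleton_iff, not_or] at hne
    exact h3 (Set.two_lt_ncard_iff (Set.toFinite _) |>.2 ⟨c, a, e,
      fun y hy => (Subgroup.zpowers_le.2 (hRD z.2) hy).1, fun y hy => (Subgroup.zpowers_le.2 (hRD z.2) hy).2,
      he, hca.symm, Ne.symm hne.1, Ne.symm hne.2⟩)

/-- An element of prime order of the pair stabiliser inverted by a swapper commutes with no involution
at the point. -/
theorem not_commute_inverted {p : ℕ} [Fact p.Prime] {y : G} (hy : y ∈ St2 c a) (hyp : orderOf y = p)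
    {u : G} (hu : orderOf u = 2) (huc : u • c = a) (hinv : u * y * u⁻¹ = y⁻¹) {s : G} (hs : orderOf s = 2)
    (hsc : s • c = c) (hys : Commute y s) : False := by
  have hy1 : y ≠ 1 := fun e => (Fact.out : p.Prime).ne_one (by rw [← hyp, e, orderOf_one])
  have hp : IsPGroup p (Subgroup.zpowers y) := IsPGroup.of_card (n := 1) (by rw [Nat.card_zpowers, hyp, pow_one])
  have hsX : s ∈ Subgroup.centralizer ((Subgroup.zpowers y : Subgroup G) : Set G) := by
    refine Subgroup.mem_centralizer_iff.2 fun w hw => ?_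
    obtain ⟨i, rfl⟩ := Subgroup.mem_zpowers_iff.1 hw
    exact (hys.zpow_left i).eq
  obtain ⟨w, hw, hwX, hwc⟩ := exists_centralizing_swapper hM hFR hp (Subgroup.zpowers_ne_bot.2 hy1)
    (Subgroup.zpowers_le.2 hy) hs hsc hsX hca
  have hwy : y * w = w * y := Subgroup.mem_centralizer_iff.1 hwX y (Subgroup.mem_zpowers y)
  obtain ⟨f, hfc, hfa, hf⟩ := swappers_conj hM.hse hca.symm hw hwc hu huc
  -- `d = w * u` inverts `y` and has odd order
  have hd : w * u ∈ St2 c a := by
    refine ⟨?_, ?_⟩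
    · show (w * u) • c = c
      rw [mul_smul, huc, ← hwc, smul_smul, sq_one hw, one_smul]
    · show (w * u) • a = a
      rw [mul_smul, show u • a = c by rw [← huc, smul_smul, sq_one hu, one_smul], hwc]
  set d := w * u with hddef
  have hdy : d * y * d⁻¹ = y⁻¹ := by
    calc d * y * d⁻¹ = w * (u * y * u⁻¹) * w⁻¹ := by rw [hddef]; group
      _ = w * y⁻¹ * w⁻¹ := by rw [hinv]
      _ = (w * y * w⁻¹)⁻¹ := by group
      _ = y⁻¹ := by rw [← hwy, mul_inv_cancel_right]
  obtain ⟨k, hk⟩ := (St2_odd hM.hse hca.symm).of_dvd_nat (Subgroup.orderOf_dvd_natCard _ hd)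
  have h2 : ∀ n : ℕ, d ^ (2 * n) * y * (d ^ (2 * n))⁻¹ = y := fun n => by
    induction n with
    | zero => simp
    | succ n ih =>
      calc d ^ (2 * (n + 1)) * y * (d ^ (2 * (n + 1)))⁻¹
          = d * (d * (d ^ (2 * n) * y * (d ^ (2 * n))⁻¹) * d⁻¹) * d⁻¹ := by
            rw [show 2 * (n + 1) = 2 * n + 1 + 1 by ring, pow_succ', pow_succ']; group
        _ = d * y⁻¹ * d⁻¹ := by rw [ih, hdy]
        _ = (d * y * d⁻¹)⁻¹ := by group
        _ = y := by rw [hdy, inv_inv]
  have h3 : y⁻¹ = y := by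
    have := h2 k
    calc y⁻¹ = d * y * d⁻¹ := hdy.symm
      _ = d * (d ^ (2 * k) * y * (d ^ (2 * k))⁻¹) * d⁻¹ := by rw [this]
      _ = d ^ (2 * k + 1) * y * (d ^ (2 * k + 1))⁻¹ := by rw [pow_succ']; group
      _ = y := by rw [← hk, pow_orderOf_eq_one, one_mul, inv_one, mul_one]
  have h4 : orderOf y ∣ 2 := orderOf_dvd_of_pow_eq_one (by
    rw [pow_two]; nth_rewrite 1 [← h3]; exact inv_mul_cancel y)
  have h5 := (St2_odd hM.hse hca.symm).of_dvd_nat (Subgroup.orderOf_dvd_natCard _ hy)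
  rw [hyp] at h4 h5
  rw [(Nat.prime_dvd_prime_iff_eq Fact.out Nat.prime_two).1 h4] at h5
  exact absurd h5 (by decide)

/-- When `T0` meets the pair stabiliser trivially the point stabiliser is solvable. -/
theorem solvable_of_D1_bot (h : D1 c a = ⊥) : Group.IsSolvable ↥(St c) := by
  classical
  obtain ⟨u, hu, huc⟩ := exists_swapper hM.hse hca.symm
  have hua : u • a = c := by rw [← huc, smul_smul, sq_one hu, one_smul]
  have hm : Bender.numInv H ≠ 1 := fun h1 => by
    obtain ⟨t, ht, htc⟩ := exists_invol hM.hse c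
    refine hM.hm (Nat.eq_one_of_dvd_one ?_)
    rw [← mbar_St_base hM.hse, ← h1, ← hM.numInv_eq (QuotientGroup.mk 1)]
    exact mbar_St_dvd hM.hse _
  obtain ⟨d, hd, hne⟩ : ∃ d ∈ St2 c a, u * d * u⁻¹ ≠ d := by
    by_contra hall
    push Not at hall
    refine hm ?_
    rw [← Bender.relIndex_centralizer hM.hse hca.symm hu huc, Subgroup.relIndex_eq_one]
    exact fun d hd => ⟨hd, Subgroup.mem_centralizer_singleton_iff.2 (mul_inv_eq_iff_eq_mul.1 (hall d hd)).symm⟩
  have hun : ∀ e ∈ St2 c a, u * e * u⁻¹ ∈ St2 c a := fun e he =>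
    Solv.conj_mem_of_mem_normalizer (normalizes_pair huc hua) he
  set k := u * d * u⁻¹ * d⁻¹ with hk
  have hkD : k ∈ St2 c a := mul_mem (hun d hd) (inv_mem hd)
  have hk1 : k ≠ 1 := fun e => hne (mul_inv_eq_one.1 e)
  have hkinv : u * k * u⁻¹ = k⁻¹ := by
    calc u * k * u⁻¹ = u * u * d * (u * u)⁻¹ * (u * d * u⁻¹)⁻¹ := by rw [hk]; group
      _ = _ := by rw [sq_one hu, hk]; group
  obtain ⟨p, hp, hpdvd⟩ := Nat.exists_prime_and_dvd (n := orderOf k) (fun e => hk1 (orderOf_eq_one_iff.1 e))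
  haveI := Fact.mk hp
  set y := k ^ (orderOf k / p)
  have hy : orderOf y = p := orderOf_pow_orderOf_div (orderOf_pos k).ne' hpdvd
  have hyD : y ∈ St2 c a := pow_mem hkD _
  have hyinv : u * y * u⁻¹ = y⁻¹ := by rw [← conj_pow, hkinv, inv_pow]
  have hy1 : y ≠ 1 := fun e => hp.ne_one (by rw [← hy, e, orderOf_one])
  have hpX : IsPGroup p (Subgroup.zpowers y) := IsPGroup.of_card (n := 1) (by rw [Nat.card_zpowers, hy, pow_one])
  have hyc : y • c = c := hyD.1
  have hfpf : ∀ g ∈ T0 c, Commute g y → g = 1 := fun g hg hgy => by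
    have hgc : g • c = c := T0_le c hg
    by_cases hga : g • a = a
    · exact (Subgroup.eq_bot_iff_forall _).1 h g ⟨hg, hgc, hga⟩
    exfalso
    have hfix : ∀ e : G ⧸ H, y • e = e → e ∈ Bender.fixSet H (Subgroup.zpowers y) := fun e he z hz =>
      (Subgroup.zpowers_le.2 (show y ∈ St e from he) hz)
    have hya : y • (g • a) = g • a := by rw [smul_smul, ← hgy.eq, ← smul_smul, hyD.2]
    have hexists : ∃ s : G, orderOf s = 2 ∧ s • c = c ∧ Commute y s := by
      by_cases hpm : p ∣ Bender.numInv H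
      · obtain ⟨s, -, hs, -, -, hsc, -, -, hsX, -⟩ := hFR p _ hp hpm hpX (Subgroup.zpowers_ne_bot.2 hy1)
          (Set.two_lt_ncard_iff (Set.toFinite _) |>.2 ⟨c, a, g • a, hfix c hyc, hfix a hyD.2,
            hfix _ hya, hca.symm, fun e => hca (smul_left_cancel g (e.symm.trans hgc.symm)), Ne.symm hga⟩)
          c (hfix c hyc)
        exact ⟨s, hs, hsc, Subgroup.mem_centralizer_iff.1 hsX y (Subgroup.mem_zpowers y)⟩
      · let S := {s : G // orderOf s = 2 ∧ s • c = c}
        letI : MulAction (Subgroup.zpowers y) S :=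
          { smul := fun z s => ⟨(z : G) * s.1 * (z : G)⁻¹, smul_involSet
              (Subgroup.zpowers_le.2 (show y ∈ St c from hyc) z.2) s.2⟩
            one_smul := fun s => Subtype.ext (by show (1 : G) * s.1 * (1 : G)⁻¹ = s.1; group)
            mul_smul := fun z w s => Subtype.ext (by
              show (z : G) * w * s.1 * ((z : G) * w)⁻¹ = z * (w * s.1 * (w : G)⁻¹) * (z : G)⁻¹; group) }
        obtain ⟨s, hs⟩ := hpX.nonempty_fixed_point_of_prime_not_dvd_card S (by rwa [Bender.card_fixing c])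
        exact ⟨s.1, s.2.1, s.2.2, mul_inv_eq_iff_eq_mul.1
          (congrArg Subtype.val (hs ⟨y, Subgroup.mem_zpowers y⟩))⟩
    obtain ⟨s, hs, hsc, hys⟩ := hexists
    exact hM.not_commute_inverted hIF hFR hca hyD hy hu huc hyinv hs hsc hys
  haveI : ((T0 c).subgroupOf (St c)).Normal :=
    Subgroup.normal_subgroupOf_of_le_normalizer (St_le_normalizer_T0 c)
  haveI : Group.IsNilpotent ↥((T0 c).subgroupOf (St c)) :=
    Char.ThreeIndex.nilpotent_of_fpf _ hp (y := (⟨y, hyc⟩ : St c)) (by rwa [← Subgroup.orderOf_coe])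
      fun g hg hgy => Subtype.ext (hfpf g hg (congrArg Subtype.val hgy))
  haveI : Group.IsSolvable (↥(St c) ⧸ (T0 c).subgroupOf (St c)) := S0205.result (by
    rw [← Subgroup.index_eq_card]; exact T0_relIndex_odd c (T0_le c) le_rfl)
  exact Group.isSolvable_of_ker_le_range ((T0 c).subgroupOf (St c)).subtype
    (QuotientGroup.mk' ((T0 c).subgroupOf (St c))) (by rw [QuotientGroup.ker_mk', Subgroup.range_subtype])

end Min

end Cfsg.Agent.SEB
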