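import Cfsg.Agent.Lib.Bender.Solvable.Split

/-!
# Solvability of a strongly embedded subgroup: control by a two point stabiliser

When the centraliser of `X` splits at `c`, an element fixing `c` and taking `a` to another fixed point
of `X` is a centralising `2`-element times an element of the pair stabiliser.
-/

set_option autoImplicit false
set_option linter.style.haveILetI false
set_option linter.unusedSectionVars false

open scoped Pointwise

namespace Cfsg.Agent.SEB

open Cfsg
open Cfsg.Agent.Fusion (SylIn cj)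
open Cfsg.Agent.Fusion.SEPairs

universe u

variable {G : Type u} [Group G] [Finite G] {H : Subgroup G}

theorem mem_normalizer_centralizer {X : Subgroup G} {g : G}
    (hg : g ∈ Subgroup.normalizer (X : Set G)) :
    g ∈ Subgroup.normalizer ((Subgroup.centralizer (X : Set G) : Subgroup G) : Set G) := by
  refine Fusion.mem_normalizer_of_cj_le ?_
  rintro _ ⟨z, hz, rfl⟩
  refine Subgroup.mem_centralizer_iff.2 fun x hx => ?_
  have h1 : g⁻¹ * x * g ∈ X := by simpa using Solv.conj_mem_of_mem_normalizer (inv_mem hg) hx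
  have h2 := Subgroup.mem_centralizer_iff.1 hz _ h1
  show x * (g * z * g⁻¹) = g * z * g⁻¹ * x
  calc x * (g * z * g⁻¹) = g * (g⁻¹ * x * g * z) * g⁻¹ := by group
    _ = g * (z * (g⁻¹ * x * g)) * g⁻¹ := by rw [h2]
    _ = _ := by group

theorem smul_TwoGen_fix {X : Subgroup G} {c e : G ⧸ H} {q : G}
    (hq : q ∈ TwoGen (Subgroup.centralizer (X : Set G)) c) (he : e ∈ Bender.fixSet H X) :
    q • e ∈ Bender.fixSet H X :=
  Bender.smul_mem_fixSet
    (Subgroup.centralizer_le_normalizer _ (TwoGen_le _ c hq).1) he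

/-- Splitting passes from a normal subgroup to the subgroup. -/
theorem Split.of_normal (hse : Cfsg.IsStronglyEmbedded H) {X Y : Subgroup G} {c : G ⧸ H}
    (hs : Split Y c) (hYX : Y ≤ X) (hXn : X ≤ Subgroup.normalizer (Y : Set G)) (hXc : X ≤ St c) :
    Split X c := by
  have hle : Subgroup.centralizer (X : Set G) ≤ Subgroup.centralizer (Y : Set G) :=
    Subgroup.centralizer_le hYX
  refine ⟨hs.two.to_le (TwoGen_mono hle c), fun e he e' he' hec he'c => ?_, fun s hsX hs2 hsc q hq =>
    hs.central s (hle hsX) hs2 hsc q (TwoGen_mono hle c hq)⟩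
  obtain ⟨q, hq, hqe⟩ := hs.trans e (Bender.fixSet_anti hYX he) e' (Bender.fixSet_anti hYX he') hec he'c
  refine ⟨q, ?_, hqe⟩
  obtain ⟨j, hj⟩ := hs.two ⟨q, hq⟩
  refine mem_TwoGen ?_ (TwoGen_le _ c hq).2 (congrArg Subtype.val hj)
  refine Subgroup.mem_centralizer_iff.2 fun y hy => ?_
  have hyc : y • c = c := hXc hy
  have hq' : y * q * y⁻¹ ∈ TwoGen (Subgroup.centralizer (Y : Set G)) c :=
    Solv.conj_mem_of_mem_normalizer (TwoGen_normalizer (mem_normalizer_centralizer (hXn hy)) hyc) hq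
  have hy1 : y⁻¹ • e = e := he (X.inv_mem hy)
  have hy2 : y • e' = e' := he' hy
  exact mul_inv_eq_iff_eq_mul.1 (hs.eq_of_smul hse hq' hq hec
    (by rw [mul_smul, mul_smul, hy1, hqe, hy2]))

/-- A normalising element fixing the point is a centralising `2`-element times one fixing a second. -/
theorem Split.decomp {X : Subgroup G} {c a : G ⧸ H} (hs : Split X c) (hca : a ≠ c)
    (ha : a ∈ Bender.fixSet H X) {g : G} (hgc : g • c = c) (hga : g • a ∈ Bender.fixSet H X) :
    ∃ q ∈ TwoGen (Subgroup.centralizer (X : Set G)) c, ∃ d ∈ St2 c a, g = q * d := by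
  obtain ⟨q, hq, hqe⟩ := hs.trans a ha (g • a) hga hca
    fun e => hca (smul_left_cancel g (e.trans hgc.symm))
  have hqc : q • c = c := (TwoGen_le _ c hq).2
  exact ⟨q, hq, q⁻¹ * g, ⟨by show (q⁻¹ * g) • c = c; rw [mul_smul, hgc, inv_smul_eq_iff, hqc],
    by show (q⁻¹ * g) • a = a; rw [mul_smul, inv_smul_eq_iff, hqe]⟩, by group⟩

/-- A conjugation into the pair stabiliser is induced by it. -/
theorem Split.fusion {X : Subgroup G} {c a : G ⧸ H} (hs : Split X c) (hca : a ≠ c)
    (ha : a ∈ Bender.fixSet H X) {h : G} (hhc : h • c = c)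
    (hX : ∀ x ∈ X, h⁻¹ * x * h ∈ St a) :
    ∃ q ∈ TwoGen (Subgroup.centralizer (X : Set G)) c, ∃ d ∈ St2 c a, h = q * d ∧
      ∀ x ∈ X, h⁻¹ * x * h = d⁻¹ * x * d := by
  obtain ⟨q, hq, d, hd, rfl⟩ := hs.decomp hca ha hhc (fun x hx => by
    have h1 : (h⁻¹ * x * h) • a = a := hX x hx
    rw [mul_smul, mul_smul, inv_smul_eq_iff] at h1
    exact h1)
  refine ⟨q, hq, d, hd, rfl, fun x hx => ?_⟩
  have hc : x * q = q * x := Subgroup.mem_centralizer_iff.1 (TwoGen_le _ c hq).1 x hx
  rw [mul_inv_rev, show d⁻¹ * q⁻¹ * x * (q * d) = d⁻¹ * q⁻¹ * (x * q) * d by group, hc]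
  group

/-- A `p`-group, `p` odd, normalising `X` fixes a second fixed point of it. -/
theorem Split.exists_fix (hse : Cfsg.IsStronglyEmbedded H) {X : Subgroup G} {c a : G ⧸ H}
    (hs : Split X c) (hca : a ≠ c) (ha : a ∈ Bender.fixSet H X) {p : ℕ}
    [Fact p.Prime] (hp : p ≠ 2) {R : Subgroup G} (hR : IsPGroup p R)
    (hRX : R ≤ Subgroup.normalizer (X : Set G)) (hRc : R ≤ St c) :
    ∃ e ∈ Bender.fixSet H X, e ≠ c ∧ R ≤ St e := by
  set T := TwoGen (Subgroup.centralizer (X : Set G)) c
  let S := {e : G ⧸ H // e ∈ Bender.fixSet H X ∧ e ≠ c}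
  letI : MulAction R S :=
    { smul := fun r e => ⟨(r : G) • e.1, Bender.smul_mem_fixSet (hRX r.2) e.2.1, fun h =>
        e.2.2 (smul_left_cancel (r : G) (h.trans (hRc r.2 : (r : G) • c = c).symm))⟩
      one_smul := fun e => Subtype.ext (one_smul G e.1)
      mul_smul := fun r r' e => Subtype.ext (mul_smul (r : G) r' e.1) }
  have hcard : ¬ p ∣ Nat.card S := by
    have he : T ≃ S := Equiv.ofBijective
      (fun q => ⟨(q : G) • a, smul_TwoGen_fix q.2 ha, fun h =>
        hca (smul_left_cancel (q : G) (h.trans ((TwoGen_le _ c q.2).2 : (q : G) • c = c).symm))⟩)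
      ⟨fun q q' h => Subtype.ext (hs.eq_of_smul hse q.2 q'.2 hca (congrArg Subtype.val h)), fun e => by
        obtain ⟨q, hq, hqe⟩ := hs.trans a ha e.1 e.2.1 hca e.2.2
        exact ⟨⟨q, hq⟩, Subtype.ext hqe⟩⟩
    haveI : Fact (Nat.Prime 2) := ⟨Nat.prime_two⟩
    obtain ⟨k, hk⟩ := IsPGroup.iff_card.1 hs.two
    rw [← Nat.card_congr he, hk]
    intro h
    exact hp ((Nat.prime_dvd_prime_iff_eq Fact.out Nat.prime_two).1 ((Fact.out : p.Prime).dvd_of_dvd_pow h))
  obtain ⟨e, he⟩ := hR.nonempty_fixed_point_of_prime_not_dvd_card S hcard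
  exact ⟨e.1, e.2.1, e.2.2, fun r hr => congrArg Subtype.val (he ⟨r, hr⟩)⟩

variable (hM : Min H) (hFR : FixRich H) (hIF : InvertFree H) {p : ℕ} [Fact p.Prime] {X : Subgroup G}
  (hXp : IsPGroup p X) (hX : X ≠ ⊥) {c a : G ⧸ H} (hca : a ≠ c) (hXD : X ≤ St2 c a)
include hM hFR hIF hXp hX hca hXD

/-- Two commuting involutions in the centraliser make it split. -/
theorem split_of_two (h2 : Two (Subgroup.centralizer (X : Set G)) c) : Split X c := by
  obtain ⟨s, -, hs, -, -, hsc, -, -, hsX, -⟩ := id h2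
  have h := hM.sub_split hIF (centralizer_ne_top hM hX hXD) h2
    (centralizer_move hM hFR hXp hX hca hXD hs hsc hsX)
  rw [← fixSet_eq_orbit hM hFR hXp hX hca hXD hs hsc hsX] at h
  exact h

/-- The involutions at the point centralising `X` commute. -/
theorem commute_of_two (h2 : Two (Subgroup.centralizer (X : Set G)) c) {s t : G} (hs : orderOf s = 2)
    (hsc : s • c = c) (hsX : s ∈ Subgroup.centralizer (X : Set G)) (ht : orderOf t = 2)
    (htc : t • c = c) (htX : t ∈ Subgroup.centralizer (X : Set G)) : Commute s t :=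
  (split_of_two hM hFR hIF hXp hX hca hXD h2).central s hsX hs hsc t (invol_mem_TwoGen htX htc ht)

/-- Two distinct involutions at the point in the centraliser give two commuting ones. -/
theorem two_of_ne {s t : G} (hs : orderOf s = 2) (hsc : s • c = c)
    (hsX : s ∈ Subgroup.centralizer (X : Set G)) (ht : orderOf t = 2) (htc : t • c = c)
    (htX : t ∈ Subgroup.centralizer (X : Set G)) (hne : s ≠ t) :
    Two (Subgroup.centralizer (X : Set G)) c := by
  by_contra h1
  exact hne (unique_at_centre hM.hse hIF ht htc htX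
    (centralizer_move hM hFR hXp hX hca hXD ht htc htX) h1 hs hsc hsX)

end Cfsg.Agent.SEB
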