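import Cfsg.Agent.Lib.Bender.Solvable.Defs
import Cfsg.Agent.S0205
import Cfsg.Agent.S3360
import Mathlib.FieldTheory.Fixed
import Mathlib.FieldTheory.Finite.Basic

/-!
# An odd group transitive on a four group or larger, with an element fixing one vector

An odd group transitive on the non-trivial elements of an elementary abelian `2`-group `E` is semilinear
over a field. If an element of prime order `r` fixes only `t`, then `E` has order `2 ^ r`, the stabiliser
of `t` acts as the powers of this element, and the elements of order prime to `r` act as scalars.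
-/

set_option autoImplicit false
set_option linter.style.haveILetI false

namespace Cfsg.Agent.SEB

open Cfsg

universe u

/-- The semilinear structure with an element fixing one vector. -/
structure Gal {G : Type u} [Group G] (E L : Subgroup G) (t x : G) (r : ℕ) : Prop where
  card : Nat.card E = 2 ^ r
  fix : ∀ g ∈ L, Commute g t → ∃ i : ℕ, ∀ s ∈ E, g * s * g⁻¹ = x ^ i * s * (x ^ i)⁻¹
  scal : ∃ Γ : Subgroup G, Γ ≤ L ∧ L ≤ Subgroup.normalizer (Γ : Set G) ∧ L = Γ ⊔ Subgroup.zpowers x ∧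
    (∀ g ∈ L, (orderOf g).Coprime r → g ∈ Γ) ∧
    (∀ γ ∈ Γ, ∀ s ∈ E, s ≠ 1 → Commute γ s → ∀ s' ∈ E, Commute γ s') ∧
    (∀ γ ∈ Γ, ∀ s ∈ E, Commute (γ ^ (2 ^ r - 1)) s) ∧
    (∀ γ ∈ Γ, ∀ δ ∈ Γ, ∀ s ∈ E, Commute (γ * δ * γ⁻¹ * δ⁻¹) s) ∧
    ∀ A : Subgroup G, A ≤ Γ → (∀ g ∈ A, (∀ s ∈ E, Commute g s) → g = 1) → IsCyclic A

variable {G : Type u} [Group G] [Finite G] {E L : Subgroup G}

theorem exists_semilinear' (hodd : Odd (Nat.card L)) (hcomm : ∀ a ∈ E, ∀ b ∈ E, Commute a b)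
    (hsq : ∀ a ∈ E, a * a = 1) (hLE : L ≤ Subgroup.normalizer (E : Set G))
    (htr : ∀ a ∈ E, a ≠ 1 → ∀ b ∈ E, b ≠ 1 → ∃ g ∈ L, g * a * g⁻¹ = b) {t : G} (ht : t ∈ E)
    (ht1 : t ≠ 1) :
    ∃ (F : Type) (_ : Field F) (_ : Fintype F) (e : G → F),
      (∀ x ∈ E, ∀ y ∈ E, e (x * y) = e x + e y) ∧ (∀ x ∈ E, ∀ y ∈ E, e x = e y → x = y) ∧
      (∀ v : F, ∃ x ∈ E, e x = v) ∧ e 1 = 0 ∧ e t = 1 ∧
      ∀ h ∈ L, ∃ (a : F) (σ : F ≃+* F), ∀ x ∈ E, e (h * x * h⁻¹) = a * σ (e x) := by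
  classical
  haveI : Fact (Nat.Prime 2) := ⟨Nat.prime_two⟩
  haveI hsolL : Group.IsSolvable ↥L := S0205.result hodd
  letI : CommGroup ↥E := { (inferInstance : Group ↥E) with
    mul_comm := fun a b => Subtype.ext (hcomm a a.2 b b.2).eq }
  let V := Additive ↥E
  letI : Module (ZMod 2) V := AddCommGroup.zmodModule fun z => by
    apply Additive.toMul.injective
    apply Subtype.ext
    rw [toMul_nsmul, toMul_zero, Subgroup.coe_pow, pow_two]
    exact hsq _ (Additive.toMul z).2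
  have hEn : ∀ h ∈ L, ∀ z ∈ E, h * z * h⁻¹ ∈ E := fun h hh z hz =>
    (Subgroup.mem_normalizer_iff.1 (hLE hh) z).1 hz
  let act : ↥L → (V →+ V) := fun h =>
    { toFun := fun z => Additive.ofMul ⟨(h : G) * (Additive.toMul z : E) * (h : G)⁻¹,
        hEn _ h.2 _ (Additive.toMul z).2⟩
      map_zero' := by
        apply Additive.toMul.injective
        apply Subtype.ext
        simp
      map_add' := fun a b => by
        apply Additive.toMul.injective
        apply Subtype.ext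
        show (h : G) * (((Additive.toMul a : E) : G) * ((Additive.toMul b : E) : G)) * (h : G)⁻¹ =
          (h : G) * ((Additive.toMul a : E) : G) * (h : G)⁻¹ *
            ((h : G) * ((Additive.toMul b : E) : G) * (h : G)⁻¹)
        group }
  have hext : ∀ a b : V, ((Additive.toMul a : E) : G) = ((Additive.toMul b : E) : G) → a = b :=
    fun a b e => Additive.toMul.injective (Subtype.ext e)
  have hact : ∀ (h : ↥L) (z : V),
      ((Additive.toMul (act h z) : E) : G) = (h : G) * (Additive.toMul z : E) * (h : G)⁻¹ :=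
    fun h z => rfl
  let ρ : ↥L →* (V ≃ₗ[ZMod 2] V) :=
    { toFun := fun h =>
        { toFun := act h
          map_add' := map_add (act h)
          map_smul' := fun a z => ZMod.map_smul (act h) a z
          invFun := act h⁻¹
          left_inv := fun z => hext _ _ (by rw [hact, hact, Subgroup.coe_inv]; group)
          right_inv := fun z => hext _ _ (by rw [hact, hact, Subgroup.coe_inv]; group) }
      map_one' := LinearEquiv.ext fun z => hext _ _ (by
        show ((Additive.toMul (act 1 z) : E) : G) = _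
        rw [hact, OneMemClass.coe_one, one_mul, inv_one, mul_one]
        rfl)
      map_mul' := fun g h => LinearEquiv.ext fun z => hext _ _ (by
        show ((Additive.toMul (act (g * h) z) : E) : G) = ((Additive.toMul (act g (act h z)) : E) : G)
        rw [hact, hact, hact, Subgroup.coe_mul]; group) }
  haveI : Nontrivial V := ⟨⟨Additive.ofMul (⟨t, ht⟩ : E), 0, fun e =>
    ht1 (congrArg (fun z : V => ((Additive.toMul z : E) : G)) e)⟩⟩
  haveI : Group.IsSolvable ρ.range := Group.isSolvable_of_surjective ρ.rangeRestrict_surjective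
  haveI : Finite ρ.range := Finite.of_surjective _ ρ.rangeRestrict_surjective
  have hne : ∀ v : V, v ≠ 0 → ((Additive.toMul v : E) : G) ≠ 1 := fun v hv e =>
    hv (hext _ _ (e.trans rfl))
  rcases S3360.result 2 (inferInstance : Group.IsSolvable ρ.range) ρ.range.subtype
    ρ.range.subtype_injective (fun v w hv hw => by
      obtain ⟨d, hd, hdvw⟩ := htr _ (Additive.toMul v).2 (hne v hv) _ (Additive.toMul w).2 (hne w hw)
      exact ⟨⟨ρ ⟨d, hd⟩, ⟨d, hd⟩, rfl⟩, hext _ _ hdvw⟩) with ⟨F, iF, iFF, e, he⟩ | hcard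
  · obtain ⟨f, hf⟩ : ∃ f : G → F, ∀ g (hg : g ∈ E), f g = e (Additive.ofMul ⟨g, hg⟩) :=
      ⟨fun g => if hg : g ∈ E then e (Additive.ofMul ⟨g, hg⟩) else 0, fun g hg => dif_pos hg⟩
    have hadd : ∀ a ∈ E, ∀ b ∈ E, f (a * b) = f a + f b := fun a ha b hb => by
      rw [hf _ (mul_mem ha hb), hf a ha, hf b hb, ← map_add]
      rfl
    have hinj : ∀ a ∈ E, ∀ b ∈ E, f a = f b → a = b := fun a ha b hb hab => by
      rw [hf a ha, hf b hb] at hab
      exact congrArg (fun z : V => ((Additive.toMul z : E) : G)) (e.injective hab)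
    have h1 : f 1 = 0 := by
      have := hadd 1 (one_mem _) 1 (one_mem _)
      rw [one_mul] at this
      exact left_eq_add.1 this
    have hft : f t ≠ 0 := fun h => ht1 (hinj _ ht _ (one_mem _) (h.trans h1.symm))
    refine ⟨F, iF, iFF, fun g => (f t)⁻¹ * f g, fun a ha b hb => ?_, fun a ha b hb hab => ?_,
      fun v => ?_, ?_, inv_mul_cancel₀ hft, fun h hh => ?_⟩
    · show (f t)⁻¹ * f (a * b) = _
      rw [hadd a ha b hb, mul_add]
    · exact hinj a ha b hb (mul_left_cancel₀ (inv_ne_zero hft) hab)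
    · refine ⟨_, (Additive.toMul (e.symm (f t * v))).2, ?_⟩
      show (f t)⁻¹ * f _ = v
      rw [hf _ (Additive.toMul (e.symm (f t * v))).2,
        show e (Additive.ofMul ⟨_, (Additive.toMul (e.symm (f t * v))).2⟩) = f t * v from
          e.apply_symm_apply _]
      exact inv_mul_cancel_left₀ hft v
    · show (f t)⁻¹ * f 1 = 0
      rw [h1, mul_zero]
    · obtain ⟨a, σ, haσ⟩ := he ⟨ρ ⟨h, hh⟩, ⟨h, hh⟩, rfl⟩
      have hfσ : ∀ z ∈ E, f (h * z * h⁻¹) = a * σ (f z) := fun z hz => by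
        rw [hf _ (hEn h hh z hz), hf z hz, ← haσ]
        rfl
      refine ⟨(f t)⁻¹ * a * σ (f t), σ, fun z hz => ?_⟩
      show (f t)⁻¹ * f (h * z * h⁻¹) = _ * σ ((f t)⁻¹ * f z)
      have hσt : σ (f t) ≠ 0 := by simpa using hft
      rw [hfσ z hz, map_mul, map_inv₀]
      field_simp
  · exfalso
    haveI := Fintype.ofFinite V
    have hpow := Module.card_eq_pow_finrank (K := ZMod 2) (V := V)
    rw [Nat.card_eq_fintype_card, hpow, ZMod.card] at hcard
    rcases Nat.eq_zero_or_pos (Module.finrank (ZMod 2) V) with h0 | h0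
    · rw [h0] at hcard; simp at hcard
    · have : (2 : ℕ) ∣ 2 ^ Module.finrank (ZMod 2) V := dvd_pow_self 2 h0.ne'
      simp only [Set.mem_insert_iff, Set.mem_singleton_iff] at hcard
      rcases hcard with h | h | h | h | h | h <;> rw [h] at this <;> omega

/-- The structure given by an element of prime order fixing one vector. -/
theorem gal_of_fix (hodd : Odd (Nat.card L)) (hcomm : ∀ a ∈ E, ∀ b ∈ E, Commute a b)
    (hsq : ∀ a ∈ E, a * a = 1) (hLE : L ≤ Subgroup.normalizer (E : Set G))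
    (htr : ∀ a ∈ E, a ≠ 1 → ∀ b ∈ E, b ≠ 1 → ∃ g ∈ L, g * a * g⁻¹ = b) {t x : G} {r : ℕ}
    (ht : t ∈ E) (ht1 : t ≠ 1) (hxL : x ∈ L) (hr : r.Prime) (hxr : orderOf x = r) (hxt : Commute x t)
    (hfix : ∀ s ∈ E, Commute x s → s = 1 ∨ s = t) (hbig : ∃ s ∈ E, s ≠ 1 ∧ s ≠ t) :
    Gal E L t x r := by
  classical
  obtain ⟨F, iF, iFF, e, hadd, hinj, hsurj, he0, het, hform⟩ :=
    exists_semilinear' hodd hcomm hsq hLE htr ht ht1
  have hEn : ∀ h ∈ L, ∀ z ∈ E, h * z * h⁻¹ ∈ E := fun h hh z hz =>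
    (Subgroup.mem_normalizer_iff.1 (hLE hh) z).1 hz
  have hcoef : ∀ h ∈ L, ∀ (a : F) (σ : F ≃+* F), (∀ z ∈ E, e (h * z * h⁻¹) = a * σ (e z)) →
      a = e (h * t * h⁻¹) ∧ a ≠ 0 := fun h hh a σ haσ => by
    have h1 : a = e (h * t * h⁻¹) := by rw [haσ t ht, het, map_one, mul_one]
    refine ⟨h1, fun ha => ?_⟩
    have h2 := hinj _ (hEn h hh t ht) 1 (one_mem _) (by rw [← h1, ha, he0])
    exact ht1 (conj_eq_one_iff.1 h2)
  have hcom_of : ∀ h ∈ L, ∀ z ∈ E, e (h * z * h⁻¹) = e z → Commute h z := fun h hh z hz hez =>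
    mul_inv_eq_iff_eq_mul.1 (hinj _ (hEn h hh z hz) z hz hez)
  -- the element `x`
  obtain ⟨ax, σ, hxform⟩ := hform x hxL
  obtain rfl : ax = 1 := by
    rw [(hcoef x hxL ax σ hxform).1, mul_inv_eq_iff_eq_mul.2 hxt.eq, het]
  simp only [one_mul] at hxform
  have hxpow : ∀ (i : ℕ), ∀ z ∈ E, e (x ^ i * z * (x ^ i)⁻¹) = (σ ^ i) (e z) := fun i => by
    induction i with
    | zero => intro z _; simp
    | succ i ih =>
      intro z hz
      rw [show x ^ (i + 1) * z * (x ^ (i + 1))⁻¹ = x * (x ^ i * z * (x ^ i)⁻¹) * x⁻¹ by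
        rw [pow_succ']; group, hxform _ (hEn _ (pow_mem hxL i) z hz), ih z hz, pow_succ',
        RingAut.mul_apply]
  have hσr : σ ^ r = 1 := RingEquiv.ext fun v => by
    obtain ⟨z, hz, rfl⟩ := hsurj v
    rw [← hxpow r z hz, ← hxr, pow_orderOf_eq_one, one_mul, inv_one, mul_one, RingAut.one_apply]
  have hσfix : ∀ v : F, σ v = v → v = 0 ∨ v = 1 := fun v hv => by
    obtain ⟨z, hz, rfl⟩ := hsurj v
    rcases hfix z hz (hcom_of x hxL z hz ((hxform z hz).trans hv)) with rfl | rfl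
    · exact Or.inl he0
    · exact Or.inr het
  haveI := Fact.mk hr
  have hσ1 : σ ≠ 1 := fun h => by
    obtain ⟨s, hs, hs1, hst⟩ := hbig
    rcases hσfix (e s) (by rw [h]; rfl) with h0 | h0
    · exact hs1 (hinj _ hs _ (one_mem _) (h0.trans he0.symm))
    · exact hst (hinj _ hs _ ht (h0.trans het.symm))
  have hσord : orderOf σ = r := orderOf_eq_prime hσr hσ1
  -- the fixed field
  set S := Subgroup.zpowers σ with hS
  haveI : Finite S := (isOfFinOrder_iff_pow_eq_one.2 ⟨r, hr.pos, hσr⟩).finite_zpowers.to_subtype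
  haveI := Fintype.ofFinite S
  haveI : FaithfulSMul S F := ⟨fun h => Subtype.ext (RingEquiv.ext fun v => h v)⟩
  set K := FixedPoints.subfield S F with hK
  have hKmem : ∀ v : F, v ∈ K ↔ v = 0 ∨ v = 1 := fun v =>
    ⟨fun h => hσfix v (h ⟨σ, Subgroup.mem_zpowers σ⟩), fun h => by
      rcases h with rfl | rfl
      · exact K.zero_mem
      · exact K.one_mem⟩
  have hKcard : Nat.card K = 2 := by
    rw [Nat.card_eq_two_iff]
    refine ⟨0, 1, zero_ne_one, Set.eq_univ_of_forall fun v => ?_⟩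
    rcases (hKmem v.1).1 v.2 with h | h
    · exact Or.inl (Subtype.ext h)
    · exact Or.inr (Subtype.ext h)
  have hfin : Module.finrank K F = r := by
    rw [FixedPoints.finrank_eq_card, ← Nat.card_eq_fintype_card, hS, Nat.card_zpowers, hσord]
  have hFcard : Nat.card F = 2 ^ r := by
    rw [Module.natCard_eq_pow_finrank (K := K) (V := F), hKcard, hfin]
  have haut : ∀ τ : F ≃+* F, ∃ i : ℕ, τ = σ ^ i := fun τ => by
    let τ' : F →ₐ[K] F :=
      { (τ : F →+* F) with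
        commutes' := fun v => by
          show τ (v : F) = (v : F)
          rcases (hKmem v.1).1 v.2 with h | h <;> rw [h] <;> simp }
    obtain ⟨s, hs⟩ := (FixedPoints.toAlgHom_bijective S F).2 τ'
    have hfo : IsOfFinOrder σ := isOfFinOrder_iff_pow_eq_one.2 ⟨r, hr.pos, hσr⟩
    obtain ⟨i, hi⟩ := hfo.mem_powers_iff_mem_zpowers.2 s.2
    refine ⟨i, RingEquiv.ext fun v => ?_⟩
    have hi' : σ ^ i = (s : F ≃+* F) := hi
    rw [hi']
    exact (DFunLike.congr_fun hs v).symm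
  have hecard : Nat.card E = Nat.card F := Nat.card_eq_of_bijective (fun z : E => e z)
    ⟨fun a b h => Subtype.ext (hinj _ a.2 _ b.2 h), fun v => by
      obtain ⟨z, hz, hzv⟩ := hsurj v
      exact ⟨⟨z, hz⟩, hzv⟩⟩
  -- scalars
  let Γ : Subgroup G :=
    { carrier := {g | g ∈ L ∧ ∀ z ∈ E, e (g * z * g⁻¹) = e (g * t * g⁻¹) * e z}
      one_mem' := ⟨one_mem _, fun z _ => by simp [het]⟩
      mul_mem' := fun {g h} hg hh => by
        have h1 : ∀ z ∈ E, e (g * h * z * (g * h)⁻¹) =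
            e (g * t * g⁻¹) * (e (h * t * h⁻¹) * e z) := fun z hz => by
          rw [show g * h * z * (g * h)⁻¹ = g * (h * z * h⁻¹) * g⁻¹ by group,
            hg.2 _ (hEn h hh.1 z hz), hh.2 z hz]
        refine ⟨mul_mem hg.1 hh.1, fun z hz => ?_⟩
        rw [h1 z hz, h1 t ht, het]; ring
      inv_mem' := fun {g} hg => by
        refine ⟨inv_mem hg.1, fun z hz => ?_⟩
        have ha : e (g * t * g⁻¹) ≠ 0 := fun h => ht1 (conj_eq_one_iff.1
          (hinj _ (hEn g hg.1 t ht) 1 (one_mem _) (h.trans he0.symm)))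
        have h1 : ∀ w ∈ E, e w = e (g * t * g⁻¹) * e (g⁻¹ * w * g⁻¹⁻¹) := fun w hw => by
          rw [← hg.2 _ (hEn _ (inv_mem hg.1) w hw)]
          congr 1; group
        refine mul_left_cancel₀ ha ?_
        rw [← mul_assoc, ← h1 z hz, ← h1 t ht, het, one_mul] }
  have hΓL : Γ ≤ L := fun g hg => hg.1
  have hsplit : ∀ g ∈ L, ∃ i : ℕ, g * (x ^ i)⁻¹ ∈ Γ := fun g hg => by
    obtain ⟨a, τ, haτ⟩ := hform g hg
    obtain ⟨i, rfl⟩ := haut τ
    refine ⟨i, ?_⟩
    have h1 : ∀ z ∈ E, e (g * (x ^ i)⁻¹ * z * (g * (x ^ i)⁻¹)⁻¹) = a * e z := fun z hz => by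
      have hz' := hEn _ (inv_mem (pow_mem hxL i)) z hz
      rw [show g * (x ^ i)⁻¹ * z * (g * (x ^ i)⁻¹)⁻¹ = g * ((x ^ i)⁻¹ * z * (x ^ i)⁻¹⁻¹) * g⁻¹ by group,
        haτ _ hz', ← hxpow i _ hz']
      congr 2; group
    exact ⟨mul_mem hg (inv_mem (pow_mem hxL i)), fun z hz => by rw [h1 z hz, h1 t ht, het, mul_one]⟩
  refine ⟨hecard.trans hFcard, fun g hg hgt => ?_, Γ, hΓL, ?_, ?_, fun g hg hco => ?_,
    fun γ hγ s hs hs1 hγs s' hs' => ?_, fun γ hγ s hs => ?_, fun γ hγ δ hδ s hs => ?_,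
    fun A hA hAf => ?_⟩
  · obtain ⟨a, τ, haτ⟩ := hform g hg
    obtain ⟨i, rfl⟩ := haut τ
    refine ⟨i, fun s hs => hinj _ (hEn g hg s hs) _ (hEn _ (pow_mem hxL i) s hs) ?_⟩
    rw [haτ s hs, hxpow i s hs, (hcoef g hg a _ haτ).1, mul_inv_eq_iff_eq_mul.2 hgt.eq, het, one_mul]
  · intro g hg
    refine Fusion.mem_normalizer_of_cj_le ?_
    rintro _ ⟨γ, hγ, rfl⟩
    obtain ⟨b, τ, hbτ⟩ := hform g hg
    have h1 : ∀ z ∈ E, e (g * γ * g⁻¹ * z * (g * γ * g⁻¹)⁻¹) = τ (e (γ * t * γ⁻¹)) * e z := fun z hz => by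
      have hz' := hEn _ (inv_mem hg) z hz
      rw [show g * γ * g⁻¹ * z * (g * γ * g⁻¹)⁻¹ = g * (γ * (g⁻¹ * z * g⁻¹⁻¹) * γ⁻¹) * g⁻¹ by group,
        hbτ _ (hEn γ hγ.1 _ hz'), hγ.2 _ hz', map_mul, ← mul_assoc, mul_comm b, mul_assoc, ← hbτ _ hz']
      congr 2; group
    exact ⟨mul_mem (mul_mem hg hγ.1) (inv_mem hg), fun z hz => by
      show e (g * γ * g⁻¹ * z * (g * γ * g⁻¹)⁻¹) = _
      rw [h1 z hz]
      refine congrArg (fun q : F => q * e z) ?_
      exact ((h1 t ht).trans (by rw [het, mul_one])).symm⟩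
  · refine le_antisymm (fun g hg => ?_) (sup_le hΓL (by rwa [Subgroup.zpowers_le]))
    obtain ⟨i, hi⟩ := hsplit g hg
    rw [show g = g * (x ^ i)⁻¹ * x ^ i by group]
    exact Subgroup.mul_mem_sup hi (Subgroup.npow_mem_zpowers x i)
  · obtain ⟨a, τ, haτ⟩ := hform g hg
    have hpow : ∀ n : ℕ, ∃ b : F, ∀ z ∈ E, e (g ^ n * z * (g ^ n)⁻¹) = b * (τ ^ n) (e z) := fun n => by
      induction n with
      | zero => exact ⟨1, fun z _ => by simp⟩
      | succ n ih =>
        obtain ⟨b, hb⟩ := ih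
        refine ⟨a * τ b, fun z hz => ?_⟩
        rw [show g ^ (n + 1) * z * (g ^ (n + 1))⁻¹ = g * (g ^ n * z * (g ^ n)⁻¹) * g⁻¹ by
          rw [pow_succ']; group, haτ _ (hEn _ (pow_mem hg n) z hz), hb z hz, map_mul, pow_succ',
          RingAut.mul_apply, mul_assoc]
    obtain ⟨b, hb⟩ := hpow (orderOf g)
    simp only [pow_orderOf_eq_one, one_mul, inv_one, mul_one] at hb
    have hb1 : b = 1 := by
      have := hb t ht
      rwa [het, map_one, mul_one, eq_comm] at this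
    have hτn : τ ^ orderOf g = 1 := RingEquiv.ext fun v => by
      obtain ⟨z, hz, rfl⟩ := hsurj v
      rw [RingAut.one_apply]
      exact ((hb z hz).trans (by rw [hb1, one_mul])).symm
    obtain ⟨i, rfl⟩ := haut τ
    have hτ1 : σ ^ i = 1 := by
      have h2 : (σ ^ i) ^ r = 1 := by rw [← pow_mul, mul_comm, pow_mul, hσr, one_pow]
      rw [← orderOf_eq_one_iff]
      exact Nat.dvd_one.1 (hco ▸ Nat.dvd_gcd (orderOf_dvd_of_pow_eq_one hτn) (orderOf_dvd_of_pow_eq_one h2))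
    refine ⟨hg, fun z hz => ?_⟩
    rw [haτ z hz, hτ1, RingAut.one_apply, (hcoef g hg a _ haτ).1]
  · have h1 := hγ.2 s hs
    rw [mul_inv_eq_iff_eq_mul.2 hγs.eq] at h1
    have hs0 : e s ≠ 0 := fun h => hs1 (hinj _ hs _ (one_mem _) (h.trans he0.symm))
    have ha : e (γ * t * γ⁻¹) = 1 := mul_right_cancel₀ hs0 (by rw [one_mul]; exact h1.symm)
    exact hcom_of γ hγ.1 s' hs' (by rw [hγ.2 s' hs', ha, one_mul])
  · have hp : ∀ n : ℕ, e (γ ^ n * t * (γ ^ n)⁻¹) = e (γ * t * γ⁻¹) ^ n := fun n => by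
      induction n with
      | zero => simp [het]
      | succ n ih =>
        rw [show γ ^ (n + 1) * t * (γ ^ (n + 1))⁻¹ = γ * (γ ^ n * t * (γ ^ n)⁻¹) * γ⁻¹ by
          rw [pow_succ']; group, hγ.2 _ (hEn _ (pow_mem hγ.1 n) t ht), ih, pow_succ']
    have ha : e (γ * t * γ⁻¹) ≠ 0 := fun h => ht1 (conj_eq_one_iff.1
      (hinj _ (hEn γ hγ.1 t ht) 1 (one_mem _) (h.trans he0.symm)))
    refine hcom_of _ (pow_mem hγ.1 _) s hs ?_
    rw [(pow_mem hγ (2 ^ r - 1)).2 s hs, hp, ← hFcard, Nat.card_eq_fintype_card,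
      FiniteField.pow_card_sub_one_eq_one _ ha, one_mul]
  · refine hcom_of _ (mul_mem (mul_mem (mul_mem hγ.1 hδ.1) (inv_mem hγ.1)) (inv_mem hδ.1)) s hs ?_
    have key : ∀ g ∈ Γ, ∀ h ∈ Γ, ∀ z ∈ E,
        e (g * h * z * (g * h)⁻¹) = e (g * t * g⁻¹) * (e (h * t * h⁻¹) * e z) := fun g hg h hh z hz => by
      rw [show g * h * z * (g * h)⁻¹ = g * (h * z * h⁻¹) * g⁻¹ by group, hg.2 _ (hEn h hh.1 z hz),
        hh.2 z hz]
    set z := (δ * γ)⁻¹ * s * (δ * γ) with hz
    have hzE : z ∈ E := by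
      have := hEn _ (inv_mem (mul_mem hδ.1 hγ.1)) s hs
      rwa [inv_inv] at this
    rw [show γ * δ * γ⁻¹ * δ⁻¹ * s * (γ * δ * γ⁻¹ * δ⁻¹)⁻¹ = γ * δ * z * (γ * δ)⁻¹ by rw [hz]; group,
      key γ hγ δ hδ z hzE, mul_left_comm, ← key δ hδ γ hγ z hzE, hz]
    congr 1; group
  · let f : A →* F :=
      { toFun := fun a => e ((a : G) * t * (a : G)⁻¹)
        map_one' := by simp [het]
        map_mul' := fun a b => by
          rw [← (hA a.2).2 _ (hEn _ (hA b.2).1 t ht), Subgroup.coe_mul]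
          congr 1; group }
    refine isCyclic_of_injective_ringHom f ?_
    intro a b hab
    refine inv_mul_eq_one.1 (Subtype.ext (hAf _ (a⁻¹ * b).2 fun s hs => ?_))
    have h0 : f (a⁻¹ * b) = 1 := by
      rw [map_mul, ← hab, ← map_mul, inv_mul_cancel, map_one]
    exact hcom_of _ (hA (a⁻¹ * b).2).1 s hs (by
      rw [(hA (a⁻¹ * b).2).2 s hs, show e (((a⁻¹ * b : A) : G) * t * ((a⁻¹ * b : A) : G)⁻¹) = 1 from h0,
        one_mul])

end Cfsg.Agent.SEB
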