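import Cfsg.Agent.Lib.Bender.Solvable.Central
import Cfsg.Agent.Lib.Bender.Solvable.Gal
import Cfsg.Agent.Lib.Solv.TwoRankAbelian.Cores

/-!
# Solvability of a strongly embedded subgroup: the element of a transfer prime

An element `x` of order `r` in the centre of a Sylow subgroup of the pair stabiliser in `T0`, `r` dividing
its abelianisation, commutes with one involution `t` at the point. On the involutions centralising a
normalised subgroup it fixes only `t`, so it acts there as a field automorphism.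
-/

set_option autoImplicit false
set_option linter.style.haveILetI false
set_option linter.unusedSectionVars false

open scoped Pointwise

namespace Cfsg.Agent.SEB

open Cfsg
open Cfsg.Agent.Fusion (SylIn cj)
open Cfsg.Agent.Fusion.SEPairs

universe u

variable {G : Type u} [Group G] [Finite G] {H : Subgroup G}

/-- The element of a transfer prime attached to an involution. -/
structure Core (c a : G ⧸ H) (t x : G) (r : ℕ) (R : Subgroup G) : Prop where
  prime : r.Prime
  syl : SylIn r R (D1 c a)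
  ab : ¬ R ≤ ⁅D1 c a, D1 c a⁆
  mem : x ∈ R
  ord : orderOf x = r
  central : ∀ y ∈ R, Commute x y
  comm : Commute x t

/-- The subgroup generated by the involutions at a point centralising `X`. -/
def EX (X : Subgroup G) (c : G ⧸ H) : Subgroup G :=
  Subgroup.closure {s : G | orderOf s = 2 ∧ s • c = c ∧ s ∈ Subgroup.centralizer (X : Set G)}

/-- The Fitting subgroup of a pair stabiliser. -/
def FD (c a : G ⧸ H) : Subgroup G := (Cfsg.fittingSubgroup ↥(St2 c a)).map (St2 c a).subtype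

theorem invol_mem_EX {X : Subgroup G} {c : G ⧸ H} {s : G} (hs : orderOf s = 2) (hsc : s • c = c)
    (hsX : s ∈ Subgroup.centralizer (X : Set G)) : s ∈ EX X c :=
  Subgroup.subset_closure ⟨hs, hsc, hsX⟩

theorem mem_EX_iff {X : Subgroup G} {c : G ⧸ H}
    (hcomm : ∀ s t : G, orderOf s = 2 → orderOf t = 2 → s • c = c → t • c = c →
      s ∈ Subgroup.centralizer (X : Set G) → t ∈ Subgroup.centralizer (X : Set G) → Commute s t)
    {g : G} (hg : g ∈ EX X c) :
    g • c = c ∧ g ∈ Subgroup.centralizer (X : Set G) ∧ g * g = 1 := by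
  have hc : IsMulCommutative (EX X c) := Subgroup.isMulCommutative_closure
    fun s hs t ht => (hcomm s t hs.1 ht.1 hs.2.1 ht.2.1 hs.2.2 ht.2.2).eq
  induction hg using Subgroup.closure_induction with
  | mem s hs => exact ⟨hs.2.1, hs.2.2, sq_one hs.1⟩
  | one => exact ⟨one_smul _ _, one_mem _, one_mul 1⟩
  | mul a b ha hb iha ihb =>
    refine ⟨by rw [mul_smul, ihb.1, iha.1], mul_mem iha.2.1 ihb.2.1, ?_⟩
    have h : a * b = b * a := congrArg Subtype.val (hc.is_comm.comm (⟨a, ha⟩ : EX X c) ⟨b, hb⟩)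
    calc a * b * (a * b) = a * (b * a) * b := by group
      _ = a * a * (b * b) := by rw [← h]; group
      _ = 1 := by rw [iha.2.2, ihb.2.2, one_mul]
  | inv a ha iha =>
    refine ⟨inv_smul_eq_iff.2 iha.1.symm, inv_mem iha.2.1, ?_⟩
    rw [← mul_inv_rev, iha.2.2, inv_one]

theorem EX_normalizer {X : Subgroup G} {c : G ⧸ H} {g : G} (hgc : g • c = c)
    (hg : g ∈ Subgroup.normalizer (X : Set G)) : g ∈ Subgroup.normalizer (EX X c : Set G) := by
  refine Fusion.mem_normalizer_of_cj_le ?_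
  rw [EX, Fusion.cj, MonoidHom.map_closure, Subgroup.closure_le]
  rintro _ ⟨s, ⟨hs, hsc, hsX⟩, rfl⟩
  exact invol_mem_EX (smul_involSet hgc ⟨hs, hsc⟩).1 (smul_involSet hgc ⟨hs, hsc⟩).2
    (Solv.conj_mem_of_mem_normalizer (mem_normalizer_centralizer hg) hsX)

theorem FD_le (c a : G ⧸ H) : FD c a ≤ St2 c a := Subgroup.map_subtype_le _

theorem FD_normalizer (c a : G ⧸ H) : St2 c a ≤ Subgroup.normalizer (FD c a : Set G) := fun g hg => by
  refine Fusion.mem_normalizer_of_cj_le ?_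
  rintro _ ⟨_, ⟨y, hy, rfl⟩, rfl⟩
  exact ⟨⟨g, hg⟩ * y * ⟨g, hg⟩⁻¹, Solv.fittingSubgroup_normal.conj_mem y hy _, rfl⟩

theorem FD_nilpotent (c a : G ⧸ H) : Group.IsNilpotent ↥(FD c a) := by
  haveI := Solv.fittingSubgroup_nilpotent (G := ↥(St2 c a))
  exact Group.nilpotent_of_mulEquiv
    (Subgroup.equivMapOfInjective _ (St2 c a).subtype (St2 c a).subtype_injective)

/-- The `q`-part of the Fitting subgroup. -/
def FQ (q : ℕ) (c a : G ⧸ H) : Subgroup G := (Cfsg.pCore q ↥(St2 c a)).map (St2 c a).subtype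

theorem FQ_le (q : ℕ) (c a : G ⧸ H) : FQ q c a ≤ St2 c a := Subgroup.map_subtype_le _

theorem FQ_le_FD (q : ℕ) [Fact q.Prime] (c a : G ⧸ H) : FQ q c a ≤ FD c a :=
  Subgroup.map_mono (Solv.pCore_le_fitting q)

theorem FQ_isPGroup (q : ℕ) [Fact q.Prime] (c a : G ⧸ H) : IsPGroup q ↥(FQ q c a) :=
  (Solv.pCore_isPGroup q).map _

theorem FQ_normalizer (q : ℕ) (c a : G ⧸ H) : St2 c a ≤ Subgroup.normalizer (FQ q c a : Set G) :=
  fun g hg => by
  refine Fusion.mem_normalizer_of_cj_le ?_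
  rintro _ ⟨_, ⟨y, hy, rfl⟩, rfl⟩
  exact ⟨⟨g, hg⟩ * y * ⟨g, hg⟩⁻¹, (Solv.pCore_normal q).conj_mem y hy _, rfl⟩

theorem mem_FQ {q : ℕ} [Fact q.Prime] {c a : G ⧸ H} {g : G} (hg : g ∈ FD c a) {k : ℕ}
    (hgo : orderOf g = q ^ k) : g ∈ FQ q c a := by
  obtain ⟨y, hy, rfl⟩ := hg
  haveI := Solv.fittingSubgroup_normal (G := ↥(St2 c a))
  exact ⟨y, Solv.TwoRankAbelian.mem_pCore_of_nilpotent _ Solv.fittingSubgroup_nilpotent hy
    (show orderOf y = q ^ k by rw [← hgo]; exact (Subgroup.orderOf_coe y).symm), rfl⟩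

/-- A non-trivial normal subgroup of a `p`-group contains a central element. -/
theorem exists_central_mem {p : ℕ} [Fact p.Prime] {P N : Subgroup G} (hP : IsPGroup p P) (hNP : N ≤ P)
    (hn : P ≤ Subgroup.normalizer (N : Set G)) (hN : N ≠ ⊥) :
    ∃ z ∈ N, z ≠ 1 ∧ ∀ y ∈ P, Commute z y := by
  letI : MulAction P N :=
    { smul := fun g z => ⟨(g : G) * z * (g : G)⁻¹, Solv.conj_mem_of_mem_normalizer (hn g.2) z.2⟩
      one_smul := fun z => Subtype.ext (by show (1 : G) * z * (1 : G)⁻¹ = z; group)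
      mul_smul := fun g h z => Subtype.ext (by
        show (g : G) * h * z * ((g : G) * h)⁻¹ = g * (h * z * (h : G)⁻¹) * (g : G)⁻¹; group) }
  obtain ⟨k, hk⟩ := IsPGroup.iff_card.1 (hP.to_le hNP)
  have hk0 : k ≠ 0 := fun h => hN (Subgroup.card_eq_one.1 (by rw [hk, h, pow_zero]))
  obtain ⟨z, hz, hne⟩ := hP.exists_fixed_point_of_prime_dvd_card_of_fixed_point N
    (hk ▸ dvd_pow_self p hk0) (a := (1 : N)) (fun g => Subtype.ext (by
      show (g : G) * 1 * (g : G)⁻¹ = 1; group))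
  exact ⟨z.1, z.2, fun h => hne (Subtype.ext h.symm), fun y hy =>
    (mul_inv_eq_iff_eq_mul.1 (congrArg Subtype.val (hz ⟨y, hy⟩))).symm⟩

variable {c a : G ⧸ H} {t x : G} {r : ℕ} {R : Subgroup G}

namespace Core

variable (C : Core c a t x r R)
include C

theorem le_D1 : R ≤ D1 c a := C.syl.le
theorem mem_D : x ∈ St2 c a := (C.le_D1 C.mem).2
theorem mem_T0 : x ∈ T0 c := (C.le_D1 C.mem).1
theorem ne_one : x ≠ 1 := fun e => C.prime.ne_one (by rw [← C.ord, e, orderOf_one])
theorem zpowers_pgroup : IsPGroup r (Subgroup.zpowers x) :=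
  IsPGroup.of_card (n := 1) (by rw [Nat.card_zpowers, C.ord, pow_one])
theorem zpowers_ne_bot : Subgroup.zpowers x ≠ ⊥ := Subgroup.zpowers_ne_bot.2 C.ne_one
theorem zpowers_le : Subgroup.zpowers x ≤ St2 c a := Subgroup.zpowers_le.2 C.mem_D
theorem mem_centralizer {g : G} (h : Commute x g) :
    g ∈ Subgroup.centralizer ((Subgroup.zpowers x : Subgroup G) : Set G) := by
  refine Subgroup.mem_centralizer_iff.2 fun w hw => ?_
  obtain ⟨i, rfl⟩ := Subgroup.mem_zpowers_iff.1 hw
  exact (h.zpow_left i).eq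

end Core

variable (hM : Min H) (hIF : InvertFree H) (hFR : FixRich H) (hca : a ≠ c) (ht : orderOf t = 2)
  (htc : t • c = c)
include hM hIF hFR hca ht htc

/-- A `p`-subgroup of the pair centralising `t`, `p` dividing the number of involutions, is centralised
by two commuting involutions at the point. -/
theorem two_of_fix {p : ℕ} [Fact p.Prime] (hp : p ∣ Bender.numInv H) {X : Subgroup G}
    (hXp : IsPGroup p X) (hX : X ≠ ⊥) (hXD : X ≤ St2 c a) (htX : t ∈ Subgroup.centralizer (X : Set G)) :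
    Two (Subgroup.centralizer (X : Set G)) c := by
  obtain ⟨s, s', hs, hs', hne, hsc, hs'c, hss, hsX, hs'X⟩ := hFR p X Fact.out hp hXp hX
    (Set.two_lt_ncard_iff (Set.toFinite _) |>.2 ⟨c, a, t • a, fun y hy => (hXD hy).1,
      fun y hy => (hXD hy).2, fun y hy => by
        show y • t • a = t • a
        rw [smul_smul, Subgroup.mem_centralizer_iff.1 htX y hy, ← smul_smul, show y • a = a from (hXD hy).2],
      hca.symm, (smul_ne_centre hM.hse ht htc hca).symm, (ne_of_move hM.hse ht htc hca).symm⟩)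
    c (fun y hy => (hXD hy).1)
  exact ⟨s, s', hs, hs', hne, hsc, hs'c, hss, hsX, hs'X⟩

omit hFR in
/-- In the centraliser of a split subgroup the pair stabiliser is transitive on the involutions. -/
theorem centralizer_pair_transitive {p : ℕ} [Fact p.Prime] {X : Subgroup G} (hFR : FixRich H)
    (hXp : IsPGroup p X) (hX : X ≠ ⊥) (hXD : X ≤ St2 c a)
    (h2 : Two (Subgroup.centralizer (X : Set G)) c) {s s' : G} (hs : orderOf s = 2) (hsc : s • c = c)
    (hsX : s ∈ Subgroup.centralizer (X : Set G)) (hs' : orderOf s' = 2) (hs'c : s' • c = c)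
    (hs'X : s' ∈ Subgroup.centralizer (X : Set G)) :
    ∃ d ∈ St2 c a, d ∈ Subgroup.centralizer (X : Set G) ∧ d * s * d⁻¹ = s' := by
  set M := Subgroup.centralizer (X : Set G) with hMdef
  obtain ⟨⟨g, hg⟩, hga⟩ : a ∈ MulAction.orbit M c := by
    rw [hMdef, ← fixSet_eq_orbit hM hFR hXp hX hca hXD hs hsc hsX]
    exact fun y hy => (hXD hy).2
  have hseM := hM.sub_se (centralizer_ne_top hM hX hXD) h2 (centralizer_move hM hFR hXp hX hca hXD hs hsc hsX)
  have hga' : g • c = a := hga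
  have hfix : ∀ (d : M) (w : M), d • (QuotientGroup.mk w : M ⧸ (St c).subgroupOf M) = QuotientGroup.mk w ↔
      (d : G) • (w : G) • c = (w : G) • c := fun d w => by
    rw [MulAction.Quotient.smul_mk, QuotientGroup.eq, Subgroup.mem_subgroupOf, smul_eq_mul]
    show ((d * w)⁻¹ * w : M).1 • c = c ↔ _
    rw [Subgroup.coe_mul, Subgroup.coe_inv, Subgroup.coe_mul, mul_smul, inv_smul_eq_iff, mul_smul]
    exact eq_comm
  have hone : ∀ d : M, d • (QuotientGroup.mk 1 : M ⧸ (St c).subgroupOf M) = QuotientGroup.mk 1 ↔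
      (d : G) • c = c := fun d => by rw [hfix, OneMemClass.coe_one, one_smul]
  have hne : (QuotientGroup.mk ⟨g, hg⟩ : M ⧸ (St c).subgroupOf M) ≠ QuotientGroup.mk 1 := fun e => by
    rw [QuotientGroup.eq, mul_one, Subgroup.mem_subgroupOf] at e
    exact hca (hga'.symm.trans (inv_smul_eq_iff.1 e).symm)
  obtain ⟨d, hdc, hda, hd⟩ := pair_transitive hseM hne (a := ⟨s, hsX⟩) (b := ⟨s', hs'X⟩)
    (by rw [← Subgroup.orderOf_coe]; exact hs) ((hone _).2 hsc)
    (by rw [← Subgroup.orderOf_coe]; exact hs') ((hone _).2 hs'c)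
  refine ⟨d, ⟨(hone d).1 hdc, ?_⟩, d.2, congrArg Subtype.val hd⟩
  show (d : G) • a = a
  have h := (hfix d ⟨g, hg⟩).1 hda
  rwa [show ((⟨g, hg⟩ : M) : G) • c = a from hga'] at h

namespace Core

variable (C : Core c a t x r R)
include C

theorem r_ne_two : r ≠ 2 := by
  haveI := Fact.mk C.prime
  exact (hM.core_facts hIF hFR hca C.syl C.ab).1

theorem not_dvd : ¬ r ∣ Bender.numInv H := by
  haveI := Fact.mk C.prime
  exact (hM.core_facts hIF hFR hca C.syl C.ab).2.1

theorem lone {z : G} (hz : z ∈ R) (hz1 : z ≠ 1) (hzc : ∀ y ∈ R, Commute z y) :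
    ¬ Two (Subgroup.centralizer ((Subgroup.zpowers z : Subgroup G) : Set G)) c := by
  haveI := Fact.mk C.prime
  exact (hM.core_facts hIF hFR hca C.syl C.ab).2.2 z hz hz1 hzc

/-- `t` is the only involution at the point commuting with `x`. -/
theorem unique {s : G} (hs : orderOf s = 2) (hsc : s • c = c) (h : Commute x s) : s = t := by
  haveI := Fact.mk C.prime
  by_contra hne
  exact C.lone hM hIF hFR hca ht htc C.mem C.ne_one C.central
    (two_of_ne hM hFR hIF C.zpowers_pgroup C.zpowers_ne_bot hca C.zpowers_le hs hsc (C.mem_centralizer h)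
      ht htc (C.mem_centralizer C.comm) hne)

/-- An element at the point commuting with `x` commutes with `t`. -/
theorem comm_t {d : G} (hdc : d • c = c) (h : Commute x d) : Commute d t :=
  mul_inv_eq_iff_eq_mul.1 (C.unique hM hIF hFR hca ht htc (smul_involSet hdc ⟨ht, htc⟩).1
    (smul_involSet hdc ⟨ht, htc⟩).2 ((h.mul_right C.comm).mul_right h.inv_right))

/-- A swapper commuting with `x` and with all its centraliser in the pair stabiliser. -/
theorem exists_swap : ∃ u : G, orderOf u = 2 ∧ u • c = a ∧ Commute x u ∧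
    ∀ d ∈ St2 c a, Commute x d → Commute d u := by
  haveI := Fact.mk C.prime
  obtain ⟨u, hu, huX, huc⟩ := exists_centralizing_swapper hM hFR C.zpowers_pgroup C.zpowers_ne_bot
    C.zpowers_le ht htc (C.mem_centralizer C.comm) hca
  exact ⟨u, hu, huc, Subgroup.mem_centralizer_iff.1 huX x (Subgroup.mem_zpowers x), fun d hd h =>
    commute_swapper hM hFR C.zpowers_pgroup C.zpowers_ne_bot hca C.zpowers_le ht htc
      (C.mem_centralizer C.comm) hIF (C.lone hM hIF hFR hca ht htc C.mem C.ne_one C.central)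
      (C.mem_centralizer h) hd hu huX huc⟩

/-- An element centralising two commuting involutions at the point is not central in `R`. -/
theorem eq_one_of_two {z : G} (hz : z ∈ R) (hzc : ∀ y ∈ R, Commute z y) {s : G} (hs : orderOf s = 2)
    (hsc : s • c = c) (hne : s ≠ t) (hst : Commute s t) (hzs : Commute z s) (hzt : Commute z t) :
    z = 1 := by
  by_contra hz1
  refine C.lone hM hIF hFR hca ht htc hz hz1 hzc ⟨s, t, hs, ht, hne, hsc, htc, hst, ?_, ?_⟩
  all_goals
    refine Subgroup.mem_centralizer_iff.2 fun w hw => ?_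
    obtain ⟨i, rfl⟩ := Subgroup.mem_zpowers_iff.1 hw
    first | exact (hzs.zpow_left i).eq | exact (hzt.zpow_left i).eq

variable {p : ℕ} [Fact p.Prime] {X : Subgroup G} (hXp : IsPGroup p X) (hX : X ≠ ⊥) (hXD : X ≤ St2 c a)
  (htX : t ∈ Subgroup.centralizer (X : Set G)) (h2 : Two (Subgroup.centralizer (X : Set G)) c)
  (hxX : x ∈ Subgroup.normalizer (X : Set G))
include hXp hX hXD htX h2

theorem EX_comm {s s' : G} (hs : s ∈ EX X c) (hs' : s' ∈ EX X c) : Commute s s' := by
  have hc : IsMulCommutative (EX X c) := Subgroup.isMulCommutative_closure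
    fun s hs t ht => (commute_of_two hM hFR hIF hXp hX hca hXD h2 hs.1 hs.2.1 hs.2.2 ht.1 ht.2.1 ht.2.2).eq
  exact congrArg Subtype.val (hc.is_comm.comm (⟨s, hs⟩ : EX X c) ⟨s', hs'⟩)

theorem EX_mem {g : G} (hg : g ∈ EX X c) :
    g • c = c ∧ g ∈ Subgroup.centralizer (X : Set G) ∧ g * g = 1 :=
  mem_EX_iff (fun _ _ hs ht hsc htc hsX htX =>
    commute_of_two hM hFR hIF hXp hX hca hXD h2 hs hsc hsX ht htc htX) hg

/-- An involution in `EX` other than `t`. -/
theorem exists_other : ∃ s, orderOf s = 2 ∧ s • c = c ∧ s ∈ EX X c ∧ s ≠ t := by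
  obtain ⟨s, s', hs, hs', hne, hsc, hs'c, -, hsX, hs'X⟩ := id h2
  by_cases h : s = t
  · exact ⟨s', hs', hs'c, invol_mem_EX hs' hs'c hs'X, fun e => hne (h.trans e.symm)⟩
  · exact ⟨s, hs, hsc, invol_mem_EX hs hsc hsX, h⟩

include hxX in
/-- The semilinear structure on the involutions centralising `X`. -/
theorem gal : Gal (EX X c) (St2 c a ⊓ Subgroup.normalizer (X : Set G)) t x r := by
  have hEm := fun g hg => C.EX_mem hM hIF hFR hca ht htc hXp hX hXD htX h2 (g := g) hg
  have h2inv : ∀ g ∈ EX X c, g ≠ 1 → orderOf g = 2 := fun g hg hg1 =>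
    orderOf_eq_prime (by rw [pow_two]; exact (hEm g hg).2.2) hg1
  obtain ⟨s₀, hs₀, -, hs₀E, hs₀t⟩ := C.exists_other hM hIF hFR hca ht htc hXp hX hXD htX h2
  refine gal_of_fix ((St2_odd hM.hse hca.symm).of_dvd_nat (Subgroup.card_dvd_of_le inf_le_left))
    (fun a ha b hb => C.EX_comm hM hIF hFR hca ht htc hXp hX hXD htX h2 ha hb) (fun a ha => (hEm a ha).2.2)
    (fun g hg => EX_normalizer hg.1.1 hg.2) (fun s hs hs1 s' hs' hs'1 => ?_) (invol_mem_EX ht htc htX)
    (ne_one_of_invol ht) ⟨C.mem_D, hxX⟩ C.prime C.ord C.comm (fun s hs hxs => ?_)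
    ⟨s₀, hs₀E, ne_one_of_invol hs₀, hs₀t⟩
  · obtain ⟨d, hd, hdX, hds⟩ := centralizer_pair_transitive hM hIF hca ht htc hFR hXp hX hXD h2
      (h2inv s hs hs1) (hEm s hs).1 (hEm s hs).2.1 (h2inv s' hs' hs'1) (hEm s' hs').1 (hEm s' hs').2.1
    exact ⟨d, ⟨hd, Subgroup.centralizer_le_normalizer _ hdX⟩, hds⟩
  · by_cases hs1 : s = 1
    · exact Or.inl hs1
    · exact Or.inr (C.unique hM hIF hFR hca ht htc (h2inv s hs hs1) (hEm s hs).1 hxs)

include hxX in
/-- An element of order prime to `r` fixing `t` centralises `EX`. -/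
theorem cent_of_coprime {g : G} (hg : g ∈ St2 c a) (hgX : g ∈ Subgroup.normalizer (X : Set G))
    (hgt : Commute g t) (hco : (orderOf g).Coprime r) {s : G} (hs : s ∈ EX X c) : Commute g s := by
  obtain ⟨Γ, -, -, -, hΓ, hsemi, -⟩ := (C.gal hM hIF hFR hca ht htc hXp hX hXD htX h2 hxX).scal
  exact hsemi g (hΓ g ⟨hg, hgX⟩ hco) t (invol_mem_EX ht htc htX) (ne_one_of_invol ht) hgt s hs

include hxX in
/-- If `R` normalises such a subgroup it has order `r`. -/
theorem R_eq (hRX : R ≤ Subgroup.normalizer (X : Set G)) : R = Subgroup.zpowers x := by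
  haveI := Fact.mk C.prime
  have hg := C.gal hM hIF hFR hca ht htc hXp hX hXD htX h2 hxX
  have hE := invol_mem_EX ht htc htX
  refine le_antisymm (fun y hy => ?_) (Subgroup.zpowers_le.2 C.mem)
  have hyD : y ∈ St2 c a := (C.le_D1 hy).2
  have hyt : Commute y t := C.comm_t hM hIF hFR hca ht htc hyD.1 (C.central y hy)
  obtain ⟨i, hi⟩ := hg.fix y ⟨hyD, hRX hy⟩ hyt
  set K := R ⊓ Subgroup.centralizer (EX X c : Set G)
  have hKbot : K = ⊥ := by
    by_contra hK
    have hRn : R ≤ Subgroup.normalizer (K : Set G) := fun g hg' => by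
      refine Fusion.mem_normalizer_of_cj_le ?_
      rintro _ ⟨z, hz, rfl⟩
      exact ⟨Subgroup.mul_mem _ (Subgroup.mul_mem _ hg' hz.1) (Subgroup.inv_mem _ hg'),
        Solv.conj_mem_of_mem_normalizer
          (mem_normalizer_centralizer (EX_normalizer (C.le_D1 hg').2.1 (hRX hg'))) hz.2⟩
    obtain ⟨z, hzK, hz1, hzc⟩ := exists_central_mem C.syl.isPGroup (inf_le_left : K ≤ R) hRn hK
    obtain ⟨s, hs, hsc, hsE, hst⟩ := C.exists_other hM hIF hFR hca ht htc hXp hX hXD htX h2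
    have hzK' := Subgroup.mem_centralizer_iff.1 hzK.2
    exact hz1 (C.eq_one_of_two hM hIF hFR hca ht htc hzK.1 hzc hs hsc hst
      (C.EX_comm hM hIF hFR hca ht htc hXp hX hXD htX h2 hsE hE) (hzK' s hsE).symm (hzK' t hE).symm)
  have hz : (x ^ i)⁻¹ * y ∈ K := ⟨Subgroup.mul_mem _ (Subgroup.inv_mem _ (Subgroup.pow_mem _ C.mem i)) hy,
    Subgroup.mem_centralizer_iff.2 fun s hs => by
      have h1 := hi s hs
      calc s * ((x ^ i)⁻¹ * y) = (x ^ i)⁻¹ * (x ^ i * s * (x ^ i)⁻¹) * y := by group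
        _ = (x ^ i)⁻¹ * (y * s * y⁻¹) * y := by rw [h1]
        _ = _ := by group⟩
  rw [hKbot, Subgroup.mem_bot, inv_mul_eq_one] at hz
  exact hz ▸ Subgroup.npow_mem_zpowers x i

end Core

namespace Min

omit ht htc in
/-- The conjugation in `T0` is non-trivial unless the pair stabiliser in it is trivial. -/
theorem exists_core_prime {r : ℕ} [Fact r.Prime] {R₀ : Subgroup G} (hR : SylIn r R₀ (D1 c a))
    (hab : ¬ R₀ ≤ ⁅D1 c a, D1 c a⁆) (ht : orderOf t = 2) (htc : t • c = c) :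
    ∃ x R, Core c a t x r R := by
  classical
  obtain ⟨-, hrm, -⟩ := hM.core_facts hIF hFR hca hR hab
  have hR1 : R₀ ≠ ⊥ := fun h => hab (h ▸ bot_le)
  haveI : Nontrivial R₀ := (Subgroup.nontrivial_iff_ne_bot R₀).2 hR1
  haveI := hR.isPGroup.center_nontrivial
  obtain ⟨⟨z, hz⟩, hzr⟩ := exists_prime_orderOf_dvd_card' (G := Subgroup.center R₀) r (by
    obtain ⟨k, hk, hk'⟩ := (hR.isPGroup.to_subgroup (Subgroup.center R₀)).nontrivial_iff_card.1 inferInstance
    rw [hk']; exact dvd_pow_self r hk.ne')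
  set x₀ : G := (z : G) with hx₀
  have hx₀r : orderOf x₀ = r := by rwa [hx₀, Subgroup.orderOf_coe, ← Subgroup.orderOf_mk z hz]
  have hx₀R : x₀ ∈ R₀ := z.2
  have hx₀c : ∀ y ∈ R₀, Commute x₀ y := fun y hy =>
    (congrArg Subtype.val (Subgroup.mem_center_iff.1 hz ⟨y, hy⟩)).symm
  have hx₀D : x₀ ∈ St2 c a := (hR.le hx₀R).2
  let S := {s : G // orderOf s = 2 ∧ s • c = c}
  have hXp : IsPGroup r (Subgroup.zpowers x₀) := IsPGroup.of_card (n := 1) (by
    rw [Nat.card_zpowers, hx₀r, pow_one])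
  letI : MulAction (Subgroup.zpowers x₀) S :=
    { smul := fun z s => ⟨(z : G) * s.1 * (z : G)⁻¹, smul_involSet
        (Subgroup.zpowers_le.2 hx₀D z.2).1 s.2⟩
      one_smul := fun s => Subtype.ext (by show (1 : G) * s.1 * (1 : G)⁻¹ = s.1; group)
      mul_smul := fun z w s => Subtype.ext (by
        show (z : G) * w * s.1 * ((z : G) * w)⁻¹ = z * (w * s.1 * (w : G)⁻¹) * (z : G)⁻¹; group) }
  obtain ⟨s, hs⟩ := hXp.nonempty_fixed_point_of_prime_not_dvd_card S (by rwa [Bender.card_fixing c])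
  obtain ⟨d, hdc, hda, hd⟩ := pair_transitive hM.hse hca s.2.1 s.2.2 ht htc
  have hdD : d ∈ St2 c a := ⟨hdc, hda⟩
  have hdn : cj (D1 c a) d = D1 c a := Fusion.cj_eq_self (St2_le_normalizer_D1 c a hdD)
  refine ⟨d * x₀ * d⁻¹, cj R₀ d, Fact.out, hdn ▸ hR.cj d, fun h => hab ?_, Fusion.conj_mem_cj hx₀R, ?_, ?_, ?_⟩
  · rw [← Fusion.cj_le_cj (g := d), Fusion.cj_commutator, hdn]
    exact h
  · rw [← hx₀r]; exact MulEquiv.orderOf_eq (MulAut.conj d) x₀
  · intro y hy
    obtain ⟨w, hw, rfl⟩ := hy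
    exact (hx₀c w hw).map (MulAut.conj d).toMonoidHom
  · rw [← hd]
    exact Commute.map (mul_inv_eq_iff_eq_mul.1 (congrArg Subtype.val (hs ⟨x₀, Subgroup.mem_zpowers x₀⟩)))
      (MulAut.conj d).toMonoidHom

end Min

end Cfsg.Agent.SEB
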