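import Cfsg.Agent.S0205
import Cfsg.Agent.Lib.Solv.Cores
import Cfsg.Agent.Lib.Solv.FPFFitting

/-!
# An element of prime order without fixed points on the Fitting subgroup of a group of odd order

When its Sylow subgroup is cyclic and not contained in the commutator subgroup, the group is the product of
the Fitting subgroup and the centralizer of the element.
-/

set_option autoImplicit false
set_option linter.style.haveILetI false
set_option linter.unusedSectionVars false

open scoped commutatorElement

namespace Cfsg.Agent.SEB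

open Cfsg

universe u

variable {D : Type u} [Group D] [Finite D] {r : ℕ} [Fact r.Prime]

/-- `F` contains every normal nilpotent subgroup of `D`, and `x` has no fixed points on it. -/
theorem fitting_factor (hodd : Odd (Nat.card D)) (F : Subgroup D)
    (hmax : ∀ N : Subgroup D, N.Normal → Group.IsNilpotent N → N ≤ F) {x : D}
    (hxr : orderOf x = r) (hfree : ∀ f ∈ F, Commute x f → f = 1) {R : Sylow r D} (hxR : x ∈ R)
    (hcyc : IsCyclic R) (hab : ¬ (R : Subgroup D) ≤ commutator D) :
    ∀ g : D, ∃ f ∈ F, ∃ k : D, Commute k x ∧ g = f * k := by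
  classical
  have hN : Subgroup.normalizer ((R : Subgroup D) : Set D) ≤ Subgroup.centralizer ((R : Subgroup D) : Set D) :=
    (R.normalizer_le_centralizer_or_le_commutator).resolve_right hab
  obtain ⟨M, hM⟩ : ∃ M, M = (MonoidHom.transferSylow R hN).ker := ⟨_, rfl⟩
  haveI hMn : M.Normal := by rw [hM]; exact MonoidHom.normal_ker _
  have hMR : Subgroup.IsComplement' M (R : Subgroup D) := by
    rw [hM]; exact MonoidHom.ker_transferSylow_isComplement' R hN
  have hMr : ¬ r ∣ Nat.card M := by rw [hM]; exact MonoidHom.not_dvd_card_ker_transferSylow R hN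
  have hcoM : (Nat.card M).Coprime r := ((Fact.out : r.Prime).coprime_iff_not_dvd.2 hMr).symm
  have hMsol : Group.IsSolvable M := Cfsg.Agent.S0205.result (hodd.of_dvd_nat (Subgroup.card_subgroup_dvd_card M))
  have hModd : Odd (Nat.card M) := hodd.of_dvd_nat (Subgroup.card_subgroup_dvd_card M)
  -- the Fitting subgroup of the complement lies in `F`
  have hfit : Cfsg.fittingOf M ≤ F := by
    haveI : (Cfsg.fittingSubgroup M).Characteristic := Solv.fitting_characteristic
    haveI : (Cfsg.fittingOf M).Normal := ConjAct.normal_of_characteristic_of_normal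
    haveI := Solv.fittingSubgroup_nilpotent (G := M)
    exact hmax _ inferInstance
      ((Group.isNilpotent_congr ((Cfsg.fittingSubgroup M).equivMapOfInjective M.subtype M.subtype_injective)).1
        inferInstance)
  have hfix : Cfsg.fittingOf M ⊓ Subgroup.centralizer {x} = ⊥ := by
    rw [eq_bot_iff]
    rintro f ⟨hf, hfc⟩
    exact Subgroup.mem_bot.2 (hfree f (hfit hf)
      (show x * f = f * x from (Subgroup.mem_centralizer_singleton_iff.1 hfc).symm))
  have hkey : ⁅M, Subgroup.zpowers x⁆ ≤ F :=
    (Solv.FPFFit.commutator_le_fitting M hMsol hModd x hxr hcoM hfix).trans hfit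
  have hAM : Subgroup.zpowers x ≤ Subgroup.normalizer (M : Set D) := fun y _ => by
    rw [Subgroup.normalizer_eq_top]; exact Subgroup.mem_top y
  have hco : (Nat.card (Subgroup.zpowers x)).Coprime (Nat.card M) := by
    rw [Nat.card_zpowers, hxr]; exact hcoM.symm
  intro g
  obtain ⟨⟨⟨m, hm⟩, ⟨y, hy⟩⟩, rfl⟩ := hMR.2 g
  obtain ⟨n, hn, c, hc, rfl⟩ := Solv.exists_commutator_mul_fixed hAM hco (Or.inr hMsol) hm
  have hyx : Commute y x := by
    haveI := hcyc
    have h := congrArg (Subtype.val) (IsCyclic.isMulCommutative.is_comm.comm (⟨y, hy⟩ : R) ⟨x, hxR⟩)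
    exact h
  have hcx : Commute c x :=
    (Subgroup.mem_centralizer_iff.1 hc.2 x (Subgroup.mem_zpowers x)).symm
  exact ⟨n, hkey hn, c * y, hcx.mul_left hyx, mul_assoc _ _ _⟩

end Cfsg.Agent.SEB
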