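import Cfsg.Agent.Lib.Fusion.Alperin
import Cfsg.Agent.Lib.Fusion.Focal
import Cfsg.Agent.Lib.Solv.Kulakoff

/-!
# Control of the focal subgroup by a subgroup

A Sylow `r`-subgroup `R` with a central element `x` of order `r`: when a subgroup `D ≥ R` controls the
fusion in `R` of the subgroups with a small stabiliser, it controls the focal subgroup.
-/

set_option autoImplicit false
set_option linter.style.haveILetI false
set_option linter.unusedSectionVars false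

open scoped commutatorElement

namespace Cfsg.Agent.SEB

open Cfsg Cfsg.Agent.Fusion

universe u

variable {G : Type u} [Group G] [Finite G] {r : ℕ} [Fact r.Prime]

/-- A step whose effect lies in a subgroup `C`. -/
def FocalStep (C U : Subgroup G) (n : G) : Prop :=
  n ∈ Subgroup.normalizer (U : Set G) ∧ ∀ y ∈ U, y⁻¹ * (n⁻¹ * y * n) ∈ C

theorem focalStep_inv (C U : Subgroup G) (n : G) (h : FocalStep C U n) :
    n ∈ Subgroup.normalizer (U : Set G) ∧ FocalStep C U n⁻¹ := by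
  refine ⟨h.1, inv_mem h.1, fun y hy => ?_⟩
  have h1 := C.inv_mem (h.2 _ ((Subgroup.mem_normalizer_iff.1 h.1 y).1 hy))
  rw [show (n⁻¹)⁻¹ = n from inv_inv n]
  convert h1 using 1
  group

theorem chain_focal {C : Subgroup G} {A : Set G} {g : G} (h : Chain (FocalStep C) A g) :
    ∀ y ∈ A, y⁻¹ * (g⁻¹ * y * g) ∈ C := by
  induction h with
  | nil B =>
    intro y _
    simp
  | @cons B g U n hn hU _ ih =>
    intro y hy
    have h1 := C.mul_mem (hn.2 y (hU hy)) (ih _ ⟨y, hy, rfl⟩)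
    convert h1 using 1
    group

/-- The step of the induction at a stabiliser with a normal subgroup covered by the centraliser and a
larger part of `R`. -/
theorem chain_frattini {C U R K : Subgroup G} (hR : IsPGroup r R) (hUR : U ≤ R)
    (hU : SylIn r (R ⊓ Subgroup.normalizer (U : Set G)) (Subgroup.normalizer (U : Set G)))
    (hK : K ≤ Subgroup.normalizer (U : Set G))
    (hKn : Subgroup.normalizer (U : Set G) ≤ Subgroup.normalizer (K : Set G))
    (hKc : ∀ k ∈ K, ∃ z ∈ Subgroup.centralizer (U : Set G), ∃ s ∈ R ⊓ K, k = z * s)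
    (hbig : ¬ R ⊓ K ≤ U) {n : G} (hn : n ∈ Subgroup.normalizer (U : Set G))
    (bigger : ∀ (W : Subgroup G) (h : G), Nat.card U < Nat.card W → W ≤ R → cj W h⁻¹ ≤ R →
      Chain (FocalStep C) (W : Set G) h) : Chain (FocalStep C) (U : Set G) n := by
  have hS : SylIn r (R ⊓ K) K := by
    have h := hU.inf_normal hK hKn
    rwa [inf_assoc, inf_eq_right.2 hK] at h
  obtain ⟨k, hk, hkn⟩ := frattini_conj hS hKn hn
  obtain ⟨z, hz, s, hs, e⟩ := hKc k⁻¹ (inv_mem hk)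
  obtain rfl : k = (z * s)⁻¹ := by rw [← e, inv_inv]
  have hzU : z ∈ Subgroup.normalizer (U : Set G) := Subgroup.centralizer_le_normalizer _ hz
  have hn' : z⁻¹ * n ∈ Subgroup.normalizer ((R ⊓ K : Subgroup G) : Set G) ∧
      z⁻¹ * n ∈ Subgroup.normalizer (U : Set G) := by
    refine ⟨?_, mul_mem (inv_mem hzU) hn⟩
    have h1 : s * ((z * s)⁻¹ * n) ∈ Subgroup.normalizer ((R ⊓ K : Subgroup G) : Set G) :=
      mul_mem (Subgroup.le_normalizer hs) hkn
    rwa [show s * ((z * s)⁻¹ * n) = z⁻¹ * n by group] at h1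
  set W := U ⊔ (R ⊓ K) with hW
  have hWn : z⁻¹ * n ∈ Subgroup.normalizer (W : Set G) := by
    rw [mem_normalizer_iff_cj, hW, cj_sup, cj_eq_self hn'.2, cj_eq_self hn'.1]
  have hWR : W ≤ R := sup_le hUR inf_le_left
  have hlt : Nat.card U < Nat.card W :=
    lt_of_le_of_ne (Subgroup.card_le_of_le le_sup_left) fun e => hbig ((le_sup_right : R ⊓ K ≤ W).trans
      (Subgroup.eq_of_le_of_card_ge le_sup_left e.ge).ge)
  have h1 : Chain (FocalStep C) (U : Set G) z := by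
    refine Chain.single (T := U) ⟨hzU, fun y hy => ?_⟩ subset_rfl
    have e : y * z = z * y := hz y hy
    rw [mul_assoc z⁻¹, e, inv_mul_cancel_left, inv_mul_cancel]
    exact C.one_mem
  have h2 : Chain (FocalStep C) (rcj z (U : Set G)) (z⁻¹ * n) := by
    refine (bigger W (z⁻¹ * n) hlt hWR (by rw [cj_eq_self (inv_mem hWn)]; exact hWR)).mono ?_
    rintro _ ⟨y, hy, rfl⟩
    have e : y * z = z * y := hz y hy
    show z⁻¹ * y * z ∈ W
    rw [mul_assoc, e, inv_mul_cancel_left]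
    exact (le_sup_left : U ≤ W) hy
  have h := h1.append h2
  rwa [mul_inv_cancel_left] at h

/-- The focal subgroup of a Sylow subgroup from the fusion controlled by `D`. -/
theorem focal_control_top {D R A : Subgroup G} {x : G} (hR : SylIn r R ⊤) (hRD : R ≤ D) (hx : x ∈ R)
    (hxr : orderOf x = r) (hxZ : ∀ y ∈ R, Commute x y) (hAR : A ≤ R) (hxA : x ∈ A)
    (hAx : ∀ g ∈ A, ∀ y ∈ R, g * y * g⁻¹ * y⁻¹ ∈ Subgroup.zpowers x)
    (hgood : ∀ X : Subgroup G, X ≤ R → x ∈ X →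
      (A ≤ X ∨ ∃ z ∈ X, z ^ r = 1 ∧ z ∉ Subgroup.zpowers x ∧ ∀ y ∈ X, Commute z y) →
      ∀ g : G, (∀ y ∈ X, g * y * g⁻¹ ∈ R) → ∃ d ∈ D, ∀ y ∈ X, g * y * g⁻¹ = d * y * d⁻¹) :
    R ⊓ ⁅(⊤ : Subgroup G), ⊤⁆ ≤ ⁅D, D⁆ := by
  rw [inf_commutator_eq_focalIn hR, focalIn, Subgroup.closure_le]
  rintro _ ⟨y, hy, h, -, hyh, rfl⟩
  suffices hchain : Chain (FocalStep ⁅D, D⁆) ({y} : Set G) h⁻¹ by
    have h1 := chain_focal hchain y rfl
    rwa [inv_inv] at h1
  refine chain_of_local hR (focalStep_inv _) (fun X hX => ?_) (by simpa using hy) (by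
    rintro _ ⟨_, rfl, rfl⟩
    simpa using hyh)
  obtain ⟨c, hcR, hU⟩ := exists_extremal_conj hR hX
  refine ⟨cj X c, c, rfl, hcR, hU, fun n hn bigger => ?_⟩
  set U := cj X c with hUdef
  have bigger' : ∀ (W : Subgroup G) (h : G), Nat.card U < Nat.card W → W ≤ R → cj W h⁻¹ ≤ R →
      Chain (FocalStep ⁅D, D⁆) (W : Set G) h := fun W h hlt =>
    bigger W h (by rwa [hUdef, card_cj] at hlt)
  have hxN : x ∈ Subgroup.normalizer (U : Set G) := Subgroup.centralizer_le_normalizer _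
    fun y hy => ((hxZ y (hcR hy)).symm).eq
  by_cases hxU : x ∈ U
  swap
  · -- the centraliser leaves `U`
    refine chain_frattini hR.isPGroup hcR hU (K := Subgroup.centralizer (U : Set G))
      (Subgroup.centralizer_le_normalizer _) ?_ (fun k hk => ⟨k, hk, 1, one_mem _, (mul_one k).symm⟩)
      (fun hle => hxU (hle ⟨hx, fun y hy => ((hxZ y (hcR hy)).symm).eq⟩)) hn bigger'
    intro m hm
    refine mem_normalizer_of_cj_le ?_
    rintro _ ⟨k, hk, rfl⟩
    intro y hy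
    have h1 : m⁻¹ * y * m ∈ U := by
      have := (Subgroup.mem_normalizer_iff.1 (inv_mem hm) y).1 hy
      simpa using this
    have h2 : m⁻¹ * y * m * k = k * (m⁻¹ * y * m) := hk _ h1
    show y * (m * k * m⁻¹) = m * k * m⁻¹ * y
    calc y * (m * k * m⁻¹) = m * (m⁻¹ * y * m * k) * m⁻¹ := by group
      _ = m * (k * (m⁻¹ * y * m)) * m⁻¹ := by rw [h2]
      _ = _ := by group
  by_cases hg : A ≤ U ∨ ∃ z ∈ U, z ^ r = 1 ∧ z ∉ Subgroup.zpowers x ∧ ∀ y ∈ U, Commute z y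
  · obtain ⟨d, hd, hde⟩ := hgood U hcR hxU hg n⁻¹ fun y hy => hcR (by
      have := (Subgroup.mem_normalizer_iff.1 (inv_mem hn) y).1 hy
      simpa using this)
    refine Chain.single (T := U) ⟨hn, fun y hy => ?_⟩ subset_rfl
    have e := hde y hy
    rw [inv_inv] at e
    rw [e]
    have h1 := Subgroup.commutator_mem_commutator (inv_mem (hRD (hcR hy))) hd
    simpa [commutatorElement_def, mul_assoc] using h1
  push Not at hg
  obtain ⟨hAU, hz⟩ := hg
  -- the central elements of order `r` of `U` form the subgroup of `x`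
  have hxr1 : x ^ r = 1 := hxr ▸ pow_orderOf_eq_one x
  have hxcent : ∀ y ∈ U, Commute x y := fun y hy => hxZ y (hcR hy)
  have hzx : ∀ m ∈ Subgroup.normalizer (U : Set G), m * x * m⁻¹ ∈ Subgroup.zpowers x := fun m hm => by
    by_contra hmx
    obtain ⟨y, hy, hne⟩ := hz _ ((Subgroup.mem_normalizer_iff.1 hm x).1 hxU)
      (by rw [conj_pow, hxr1, mul_one, mul_inv_cancel]) hmx
    refine hne ?_
    have hy' : m⁻¹ * y * m ∈ U := by
      have := (Subgroup.mem_normalizer_iff.1 (inv_mem hm) y).1 hy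
      simpa using this
    have h2 := (Commute.conj_iff m).2 (hxcent _ hy')
    rwa [show m * (m⁻¹ * y * m) * m⁻¹ = y by group] at h2
  have hzx' : ∀ m ∈ Subgroup.normalizer (U : Set G), ∀ z ∈ Subgroup.zpowers x,
      m * z * m⁻¹ ∈ Subgroup.zpowers x := fun m hm z hz' => by
    obtain ⟨i, rfl⟩ := Subgroup.mem_zpowers_iff.1 hz'
    rw [← conj_zpow]
    exact Subgroup.zpow_mem _ (hzx m hm) i
  have hzU : Subgroup.zpowers x ≤ U := Subgroup.zpowers_le.2 hxU
  -- elements fixing the series `1 ≤ ⟨x⟩ ≤ U`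
  let K : Subgroup G :=
    { carrier := {k | Commute k x ∧ ∀ y ∈ U, k * y * k⁻¹ * y⁻¹ ∈ Subgroup.zpowers x}
      one_mem' := ⟨Commute.one_left x, fun y _ => by simp⟩
      mul_mem' := fun {k l} hk hl => ⟨hk.1.mul_left hl.1, fun y hy => by
        obtain ⟨i, hi⟩ := Subgroup.mem_zpowers_iff.1 (hl.2 y hy)
        have h1 : k * x ^ i * k⁻¹ = x ^ i := by rw [(hk.1.zpow_right i).eq, mul_inv_cancel_right]
        rw [show k * l * y * (k * l)⁻¹ * y⁻¹ = k * (l * y * l⁻¹ * y⁻¹) * k⁻¹ * (k * y * k⁻¹ * y⁻¹) by group,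
          ← hi, h1]
        exact mul_mem (Subgroup.zpow_mem _ (Subgroup.mem_zpowers x) i) (hk.2 y hy)⟩
      inv_mem' := fun {k} hk => ⟨hk.1.inv_left, fun y hy => by
        obtain ⟨i, hi⟩ := Subgroup.mem_zpowers_iff.1 (hk.2 y hy)
        rw [show k⁻¹ * y * k⁻¹⁻¹ * y⁻¹ = k⁻¹ * (k * y * k⁻¹ * y⁻¹)⁻¹ * k by group, ← hi, ← zpow_neg,
          mul_assoc, ← (hk.1.zpow_right (-i)).eq, inv_mul_cancel_left]
        exact Subgroup.zpow_mem _ (Subgroup.mem_zpowers x) _⟩ }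
  have hKU : K ≤ Subgroup.normalizer (U : Set G) := fun k hk => by
    refine mem_normalizer_of_cj_le ?_
    rintro _ ⟨y, hy, rfl⟩
    show k * y * k⁻¹ ∈ U
    rw [show k * y * k⁻¹ = k * y * k⁻¹ * y⁻¹ * y by group]
    exact mul_mem (hzU (hk.2 y hy)) hy
  have hKn : Subgroup.normalizer (U : Set G) ≤ Subgroup.normalizer (K : Set G) := fun m hm => by
    refine mem_normalizer_of_cj_le ?_
    rintro _ ⟨k, hk, rfl⟩
    refine ⟨?_, fun y hy => ?_⟩
    · have hx' : m⁻¹ * x * m ∈ Subgroup.zpowers x := by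
        simpa using hzx _ (inv_mem hm)
      obtain ⟨i, hi⟩ := Subgroup.mem_zpowers_iff.1 hx'
      have h1 : Commute k (m⁻¹ * x * m) := hi ▸ hk.1.zpow_right i
      have h2 := (Commute.conj_iff m).2 h1
      rwa [show m * (m⁻¹ * x * m) * m⁻¹ = x by group] at h2
    · have hy' : m⁻¹ * y * m ∈ U := by
        have := (Subgroup.mem_normalizer_iff.1 (inv_mem hm) y).1 hy
        simpa using this
      show m * k * m⁻¹ * y * (m * k * m⁻¹)⁻¹ * y⁻¹ ∈ _
      rw [show m * k * m⁻¹ * y * (m * k * m⁻¹)⁻¹ * y⁻¹ =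
        m * (k * (m⁻¹ * y * m) * k⁻¹ * (m⁻¹ * y * m)⁻¹) * m⁻¹ by group]
      exact hzx' m hm _ (hk.2 _ hy')
  have hpow : ∀ k ∈ K, k ^ r ∈ Subgroup.centralizer (U : Set G) := fun k hk y hy => by
    obtain ⟨i, hi⟩ := Subgroup.mem_zpowers_iff.1 (hk.2 y hy)
    have hstep : k * y * k⁻¹ = x ^ i * y := by rw [hi]; group
    have hall : ∀ j : ℕ, k ^ j * y * (k ^ j)⁻¹ = x ^ ((j : ℤ) * i) * y := by
      intro j
      induction j with
      | zero => simp
      | succ j ih =>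
        rw [pow_succ', show k * k ^ j * y * (k * k ^ j)⁻¹ = k * (k ^ j * y * (k ^ j)⁻¹) * k⁻¹ by group, ih,
          show k * (x ^ ((j : ℤ) * i) * y) * k⁻¹ = (k * x ^ ((j : ℤ) * i) * k⁻¹) * (k * y * k⁻¹) by group,
          (hk.1.zpow_right _).eq, mul_inv_cancel_right, hstep, ← mul_assoc, ← zpow_add]
        congr 2
        push_cast
        ring
    have h1 := hall r
    rw [zpow_mul, zpow_natCast, hxr1, one_zpow, one_mul] at h1
    exact (mul_inv_eq_iff_eq_mul.1 h1).symm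
  have hcov : ∀ k ∈ K, ∃ z ∈ Subgroup.centralizer (U : Set G), ∃ s ∈ R ⊓ K, k = z * s := by
    have hsyl : SylIn r (R ⊓ K) K := by
      have h := hU.inf_normal hKU hKn
      rwa [inf_assoc, inf_eq_right.2 hKU] at h
    set Z := Subgroup.centralizer (U : Set G) ⊓ K with hZ
    obtain ⟨P, hP⟩ := hsyl.exists_sylow_subgroupOf
    haveI hZn : (Z.subgroupOf K).Normal := by
      refine Subgroup.normal_subgroupOf_of_le_normalizer fun k hk => mem_normalizer_of_cj_le ?_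
      rintro _ ⟨z, hz', rfl⟩
      refine ⟨fun y hy => ?_, K.mul_mem (K.mul_mem hk hz'.2) (K.inv_mem hk)⟩
      have hy' : k⁻¹ * y * k ∈ U := by
        have := (Subgroup.mem_normalizer_iff.1 (inv_mem (hKU hk)) y).1 hy
        simpa using this
      have h2 : k⁻¹ * y * k * z = z * (k⁻¹ * y * k) := hz'.1 _ hy'
      show y * (k * z * k⁻¹) = k * z * k⁻¹ * y
      calc y * (k * z * k⁻¹) = k * (k⁻¹ * y * k * z) * k⁻¹ := by group
        _ = k * (z * (k⁻¹ * y * k)) * k⁻¹ := by rw [h2]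
        _ = _ := by group
    have htop : Z.subgroupOf K ⊔ (P : Subgroup K) = ⊤ := by
      set π := QuotientGroup.mk' (Z.subgroupOf K)
      have hq : IsPGroup r (K ⧸ Z.subgroupOf K) := fun q => by
        obtain ⟨k, rfl⟩ := QuotientGroup.mk'_surjective _ q
        exact ⟨1, by
          rw [pow_one, ← map_pow, QuotientGroup.mk'_apply, QuotientGroup.eq_one_iff]
          exact Subgroup.mem_subgroupOf.2 ⟨hpow k k.2, K.pow_mem k.2 r⟩⟩
      have hs : Function.Surjective π := QuotientGroup.mk'_surjective _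
      have h1 : ((P.mapSurjective hs : Sylow r (K ⧸ Z.subgroupOf K)) : Subgroup (K ⧸ Z.subgroupOf K)) = ⊤ :=
        ((P.mapSurjective hs).3 (hq.to_subgroup ⊤) le_top).symm
      rw [Sylow.coe_mapSurjective] at h1
      have h2 := congrArg (Subgroup.comap π) h1
      rw [Subgroup.comap_map_eq, QuotientGroup.ker_mk', Subgroup.comap_top, sup_comm] at h2
      exact h2
    intro k hk
    have hmem : (⟨k, hk⟩ : K) ∈ ((Z.subgroupOf K ⊔ (P : Subgroup K) : Subgroup K) : Set K) := by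
      rw [htop]; exact Subgroup.mem_top _
    rw [Subgroup.normal_mul] at hmem
    obtain ⟨z, hz', s, hs, e⟩ := hmem
    refine ⟨z, (Subgroup.mem_subgroupOf.1 hz').1, s, ?_, (congrArg Subtype.val e).symm⟩
    have : s ∈ (R ⊓ K).subgroupOf K := hP ▸ hs
    exact this
  refine chain_frattini hR.isPGroup hcR hU hKU hKn hcov (fun hle => hAU fun g hgA => ?_) hn bigger'
  exact hle ⟨hAR hgA, (hxZ g (hAR hgA)).symm, fun y hy => hAx g hgA y (hcR hy)⟩

/-- A subgroup controlling the fusion of good subgroups controls the focal subgroup. -/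
theorem focal_control {T D R A : Subgroup G} {x : G} (hR : SylIn r R T) (hDT : D ≤ T) (hRD : R ≤ D)
    (hx : x ∈ R) (hxr : orderOf x = r) (hxZ : ∀ y ∈ R, Commute x y) (hAR : A ≤ R) (hxA : x ∈ A)
    (hAx : ∀ g ∈ A, ∀ y ∈ R, g * y * g⁻¹ * y⁻¹ ∈ Subgroup.zpowers x)
    (hgood : ∀ X : Subgroup G, X ≤ R → x ∈ X →
      (A ≤ X ∨ ∃ z ∈ X, z ^ r = 1 ∧ z ∉ Subgroup.zpowers x ∧ ∀ y ∈ X, Commute z y) →
      ∀ g ∈ T, (∀ y ∈ X, g * y * g⁻¹ ∈ R) → ∃ d ∈ D, ∀ y ∈ X, g * y * g⁻¹ = d * y * d⁻¹) :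
    R ⊓ ⁅T, T⁆ ≤ ⁅D, D⁆ := by
  have hRT : R ≤ T := hR.le
  set f := T.subtype
  obtain ⟨P, hP⟩ := hR.exists_sylow_subgroupOf
  have hRs : SylIn r (R.subgroupOf T) ⊤ := hP ▸ sylIn_top P
  have hmapR : (R.subgroupOf T).map f = R := by
    exact Subgroup.map_subgroupOf_eq_of_le hRT
  have hzp : ∀ g : T, g ∈ Subgroup.zpowers (⟨x, hRT hx⟩ : T) ↔ (g : G) ∈ Subgroup.zpowers x := fun g => by
    rw [Subgroup.mem_zpowers_iff, Subgroup.mem_zpowers_iff]
    exact ⟨fun ⟨i, hi⟩ => ⟨i, by rw [← hi]; rfl⟩, fun ⟨i, hi⟩ => ⟨i, Subtype.ext (by rw [← hi]; rfl)⟩⟩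
  have hmain := focal_control_top (G := T) (r := r) (D := D.subgroupOf T) (R := R.subgroupOf T)
    (A := A.subgroupOf T) (x := ⟨x, hRT hx⟩) hRs (fun g hg => hRD hg) hx
    (by rw [Subgroup.orderOf_mk]; exact hxr) (fun y hy => Subtype.ext (hxZ y hy)) (fun g hg => hAR hg) hxA
    (fun g hg y hy => (hzp _).2 (hAx g hg y hy))
    (fun X hX hxX hgx g hg => by
      obtain ⟨d, hd, hde⟩ := hgood (X.map f) (by rw [← hmapR]; exact Subgroup.map_mono hX) ⟨_, hxX, rfl⟩ (by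
        rcases hgx with h | ⟨z, hz, hzr, hzx, hzc⟩
        · left
          intro g hgA
          exact ⟨⟨g, hRT (hAR hgA)⟩, h hgA, rfl⟩
        · refine Or.inr ⟨z, ⟨z, hz, rfl⟩, by rw [← Subgroup.coe_pow, hzr]; rfl, fun h => hzx ((hzp z).2 h), ?_⟩
          rintro _ ⟨y, hy, rfl⟩
          exact congrArg Subtype.val (hzc y hy)) g g.2 (by
        rintro _ ⟨y, hy, rfl⟩
        exact hg y hy)
      exact ⟨⟨d, hDT hd⟩, hd, fun y hy => Subtype.ext (hde _ ⟨y, hy, rfl⟩)⟩)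
  intro g hg
  have hgT : g ∈ T := hRT hg.1
  have h1 : (⟨g, hgT⟩ : T) ∈ R.subgroupOf T ⊓ ⁅(⊤ : Subgroup T), ⊤⁆ := by
    refine ⟨hg.1, ?_⟩
    have hg2 := hg.2
    rw [← Subgroup.map_subtype_commutator, commutator_def] at hg2
    obtain ⟨z, hz, hzg⟩ := hg2
    rw [show (⟨g, hgT⟩ : T) = z from Subtype.ext hzg.symm]
    exact hz
  have h2 := Subgroup.mem_map_of_mem f (hmain h1)
  rw [Subgroup.map_commutator, Subgroup.map_subgroupOf_eq_of_le hDT] at h2
  exact h2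

/-- A noncyclic group of odd prime power order whose central elements of order `r` are powers of `x`
has a normal square of order containing `x`. -/
theorem exists_normal_sq (hr : Odd r) {R : Subgroup G} (hR : IsPGroup r R) (hnc : ¬ IsCyclic R) {x : G}
    (hxr : x ^ r = 1) (hcen : ∀ z ∈ R, z ^ r = 1 → (∀ y ∈ R, Commute z y) → z ∈ Subgroup.zpowers x) :
    ∃ A : Subgroup G, A ≤ R ∧ x ∈ A ∧ (∀ g ∈ A, g ^ r = 1) ∧ R ≤ Subgroup.normalizer (A : Set G) ∧
      (∀ g ∈ A, ∀ h ∈ A, Commute g h) ∧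
      (∀ g ∈ A, ∀ y ∈ R, g * y * g⁻¹ * y⁻¹ ∈ Subgroup.zpowers x) ∧ ∃ b ∈ A, b ∉ Subgroup.zpowers x := by
  have hr2 : r ≠ 2 := fun e => by rw [e] at hr; exact absurd hr (by decide)
  obtain ⟨E, hEn, hEe, hEc⟩ := Solv.exists_normal_elementary_sq hr2 hR hnc
  have hE : Cfsg.IsElementaryAbelian r E := hEe
  have hEne : E ≠ ⊥ := fun e => by
    rw [e, Subgroup.card_bot] at hEc
    exact absurd hEc.symm (Nat.one_lt_pow two_ne_zero (Fact.out : r.Prime).one_lt).ne'
  obtain ⟨z₀, hz₀E, hz₀c, hz₀o⟩ := Solv.exists_central_order hR E hEne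
  have hxdvd : orderOf x ∣ r := orderOf_dvd_of_pow_eq_one hxr
  have hz₀r : (z₀ : G) ^ r = 1 := by
    rw [← hz₀o, ← Subgroup.orderOf_coe, pow_orderOf_eq_one]
  have hz₀x : (z₀ : G) ∈ Subgroup.zpowers x := hcen _ z₀.2 hz₀r fun y hy =>
    (congrArg Subtype.val (Subgroup.mem_center_iff.1 hz₀c ⟨y, hy⟩)).symm
  have heq : Subgroup.zpowers (z₀ : G) = Subgroup.zpowers x :=
    Subgroup.eq_of_le_of_card_ge (Subgroup.zpowers_le.2 hz₀x) (by
      rw [Nat.card_zpowers, Nat.card_zpowers, Subgroup.orderOf_coe, hz₀o]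
      exact Nat.le_of_dvd (Fact.out : r.Prime).pos hxdvd)
  set A := E.map R.subtype with hA
  have hzA : Subgroup.zpowers x ≤ A := heq ▸ Subgroup.zpowers_le.2 ⟨z₀, hz₀E, rfl⟩
  have hzc : ∀ z ∈ Subgroup.zpowers x, ∀ y ∈ R, Commute z y := by
    rw [← heq]
    intro z hz y hy
    obtain ⟨i, rfl⟩ := Subgroup.mem_zpowers_iff.1 hz
    exact Commute.zpow_left ((congrArg Subtype.val (Subgroup.mem_center_iff.1 hz₀c ⟨y, hy⟩)).symm) i
  have hAR : A ≤ R := Subgroup.map_subtype_le E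
  have hAc : Nat.card A = r ^ 2 := by rw [hA, Subgroup.card_map_of_injective R.subtype_injective, hEc]
  obtain ⟨b, hb, hbx⟩ : ∃ b ∈ A, b ∉ Subgroup.zpowers x := by
    by_contra h
    push Not at h
    have h1 := Subgroup.card_le_of_le (show A ≤ Subgroup.zpowers x from h)
    rw [hAc, ← heq, Nat.card_zpowers, Subgroup.orderOf_coe, hz₀o] at h1
    have := (Fact.out : r.Prime).one_lt
    nlinarith
  refine ⟨A, hAR, hzA (Subgroup.mem_zpowers x), ?_, fun y hy => ?_, ?_, ?_, b, hb, hbx⟩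
  · rintro _ ⟨g, hg, rfl⟩
    show ((g : R) : G) ^ r = 1
    rw [← Subgroup.coe_pow, hE.2 g hg]
    rfl
  · refine mem_normalizer_of_cj_le ?_
    rintro _ ⟨_, ⟨g, hg, rfl⟩, rfl⟩
    exact ⟨⟨y, hy⟩ * g * ⟨y, hy⟩⁻¹, hEn.conj_mem g hg _, rfl⟩
  · rintro _ ⟨g, hg, rfl⟩ _ ⟨h, hh, rfl⟩
    haveI := hE.1
    exact congrArg (fun e : E => ((e : R) : G)) (mul_comm' (⟨g, hg⟩ : E) ⟨h, hh⟩)
  -- the image of `A` modulo `⟨x⟩` has order `r`, so is central
  rintro _ ⟨g, hg, rfl⟩ y hy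
  set y' : R := ⟨y, hy⟩
  set Z := Subgroup.zpowers z₀
  haveI : Z.Normal := ⟨fun w hw k => by
    obtain ⟨i, rfl⟩ := Subgroup.mem_zpowers_iff.1 hw
    rw [Subgroup.mem_center_iff.1 (Subgroup.zpow_mem _ hz₀c i) k, mul_assoc, mul_inv_cancel, mul_one]
    exact Subgroup.zpow_mem _ (Subgroup.mem_zpowers z₀) i⟩
  set π := QuotientGroup.mk' Z
  have hQ : IsPGroup r (R ⧸ Z) := hR.to_quotient Z
  haveI : (E.map π).Normal := hEn.map π (QuotientGroup.mk'_surjective Z)
  have hZE : Z ≤ E := Subgroup.zpowers_le.2 hz₀E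
  have hcard : Nat.card (E.map π) = r := by
    have h := Subgroup.relIndex_ker (K := E) π
    rw [QuotientGroup.ker_mk'] at h
    have h2 := Subgroup.card_mul_index (Z.subgroupOf E)
    rw [Nat.card_congr (Subgroup.subgroupOfEquivOfLe hZE).toEquiv, Nat.card_zpowers, hz₀o, hEc, ← Subgroup.relIndex,
      h, pow_two] at h2
    exact Nat.eq_of_mul_eq_mul_left (Fact.out : r.Prime).pos h2
  obtain ⟨w, hw, hwc, hwo⟩ := Solv.exists_central_order hQ (E.map π) (fun e => by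
    rw [e, Subgroup.card_bot] at hcard
    exact (Fact.out : r.Prime).one_lt.ne hcard)
  have hle : E.map π ≤ Subgroup.center (R ⧸ Z) := by
    have : Subgroup.zpowers w = E.map π :=
      Subgroup.eq_of_le_of_card_ge (Subgroup.zpowers_le.2 hw) (by rw [Nat.card_zpowers, hwo, hcard])
    rw [← this]
    exact Subgroup.zpowers_le.2 hwc
  have hcom := Subgroup.mem_center_iff.1 (hle ⟨g, hg, rfl⟩) (π y')
  have hmem : g * y' * g⁻¹ * y'⁻¹ ∈ Z := by
    rw [← QuotientGroup.eq_one_iff, ← QuotientGroup.mk'_apply, map_mul, map_mul, map_mul, map_inv, map_inv, ← hcom,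
      mul_inv_cancel_right, mul_inv_cancel]
  obtain ⟨i, hi⟩ := Subgroup.mem_zpowers_iff.1 hmem
  rw [← heq, Subgroup.mem_zpowers_iff]
  exact ⟨i, congrArg Subtype.val hi⟩

end Cfsg.Agent.SEB
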