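import Cfsg.Agent.Lib.Bender.Solvable.FixFree
import Cfsg.Agent.Lib.Bender.Solvable.Focal
import Cfsg.Agent.Lib.Bender.Solvable.FitFactor
import Cfsg.Agent.Lib.Solv.Generation

/-!
# Solvability of a strongly embedded subgroup: the pair stabiliser in `T0`

The Sylow subgroup of a transfer prime is cyclic, the Fitting subgroup of the pair stabiliser lies in
`T0`, and the pair stabiliser in `T0` is this Fitting subgroup times the centraliser of `x`.
-/

set_option autoImplicit false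
set_option linter.style.haveILetI false
set_option linter.unusedSectionVars false

open scoped Pointwise

namespace Cfsg.Agent.SEB

open Cfsg
open Cfsg.Agent.Fusion (SylIn cj)
open Cfsg.Agent.Fusion.SEPairs

universe u

variable {G : Type u} [Group G] [Finite G] {H : Subgroup G} {c a : G ⧸ H} {t x : G} {r : ℕ}
  {R : Subgroup G}

theorem mem_centralizer_zpowers {g w : G} (h : Commute g w) :
    w ∈ Subgroup.centralizer ((Subgroup.zpowers g : Subgroup G) : Set G) := by
  refine Subgroup.mem_centralizer_iff.2 fun v hv => ?_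
  obtain ⟨i, rfl⟩ := Subgroup.mem_zpowers_iff.1 hv
  exact (h.zpow_left i).eq

variable (hM : Min H) (hIF : InvertFree H) (hFR : FixRich H) (hca : a ≠ c) (hne : D1 c a ≠ ⊥)
  (ht : orderOf t = 2) (htc : t • c = c) (C : Core c a t x r R)
include hM hIF hFR hca hne ht htc C

namespace Core

/-- A fixed point of `t` in the Fitting subgroup makes `R` of order `r`. -/
theorem R_eq_of_fix {f : G} (hf : f ∈ FD c a) (hf1 : f ≠ 1) (hft : Commute f t) :
    R = Subgroup.zpowers x := by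
  classical
  obtain ⟨q, hq, hqdvd⟩ := Nat.exists_prime_and_dvd (n := orderOf f) (fun e => hf1 (orderOf_eq_one_iff.1 e))
  haveI := Fact.mk hq
  set y := f ^ (orderOf f / q)
  have hyo : orderOf y = q := orderOf_pow_orderOf_div (orderOf_pos f).ne' hqdvd
  have hy1 : y ≠ 1 := fun e => hq.ne_one (by rw [← hyo, e, orderOf_one])
  obtain ⟨hyQ, hqm⟩ := hM.prime_of_mem_FD hIF hFR hca hne ht htc (pow_mem hf _ : y ∈ FD c a) hyo
  set M := FQ q c a ⊓ Subgroup.centralizer ({t} : Set G)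
  have hyM : y ∈ M := ⟨hyQ, Subgroup.mem_centralizer_singleton_iff.2 (hft.pow_left _).eq⟩
  have hMn : ∀ g ∈ St2 c a, Commute g t → g ∈ Subgroup.normalizer (M : Set G) := fun g hg hgt => by
    refine Fusion.mem_normalizer_of_cj_le ?_
    rintro _ ⟨z, hz, rfl⟩
    refine ⟨Solv.conj_mem_of_mem_normalizer (FQ_normalizer q c a hg) hz.1,
      Subgroup.mem_centralizer_singleton_iff.2 ?_⟩
    exact ((hgt.mul_left (Subgroup.mem_centralizer_singleton_iff.1 hz.2)).mul_left hgt.inv_left).eq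
  have hMD : M ≤ St2 c a := inf_le_left.trans (FQ_le q c a)
  have htM : t ∈ Subgroup.centralizer (M : Set G) := Subgroup.mem_centralizer_iff.2 fun g hg =>
    Subgroup.mem_centralizer_singleton_iff.1 hg.2
  have hM1 : M ≠ ⊥ := fun h => hy1 (Subgroup.mem_bot.1 (h ▸ hyM))
  have hMp : IsPGroup q M := (FQ_isPGroup q c a).to_le inf_le_left
  exact C.R_eq hM hIF hFR hca ht htc hMp hM1 hMD htM (two_of_fix hM hIF hFR hca ht htc hqm hMp hM1 hMD htM)
    (hMn x C.mem_D C.comm) fun g hg => hMn g (C.le_D1 hg).2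
      (C.comm_t hM hIF hFR hca ht htc (C.le_D1 hg).2.1 (C.central g hg))

/-- A non-cyclic abelian subgroup of exponent `r` containing `x` has a rich element, unless `R = ⟨x⟩`. -/
theorem exists_rich {A : Subgroup G} (hAR : A ≤ R) (hxA : x ∈ A) (hAe : ∀ g ∈ A, g ^ r = 1)
    (hAc : ∀ g ∈ A, ∀ h ∈ A, Commute g h) {b : G} (hb : b ∈ A) (hbx : b ∉ Subgroup.zpowers x) :
    ∃ g ∈ A, g ≠ 1 ∧ Split (Subgroup.zpowers g) c := by
  classical
  haveI := Fact.mk C.prime
  haveI : Nontrivial ↥(St2 c a) := ⟨⟨⟨x, C.mem_D⟩, 1, fun e => C.ne_one (congrArg Subtype.val e)⟩⟩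
  have hAD : A ≤ St2 c a := hAR.trans (C.le_D1.trans (D1_le_St2 c a))
  haveI : Group.IsSolvable ↥(St2 c a) := S0205.result (St2_odd hM.hse hca.symm)
  obtain ⟨f, hf, hf1⟩ : ∃ f ∈ FD c a, f ≠ 1 := by
    obtain ⟨⟨z, hz⟩, hz1⟩ := Subgroup.ne_bot_iff_exists_ne_one.1
      (Solv.fitting_ne_bot (G := ↥(St2 c a)) ‹_›)
    exact ⟨z, ⟨z, hz, rfl⟩, fun e => hz1 (Subtype.ext (Subtype.ext e))⟩
  obtain ⟨q, hq, hqdvd⟩ := Nat.exists_prime_and_dvd (n := orderOf f) (fun e => hf1 (orderOf_eq_one_iff.1 e))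
  haveI := Fact.mk hq
  obtain ⟨hyQ, hqm⟩ := hM.prime_of_mem_FD hIF hFR hca hne ht htc
    (pow_mem hf (orderOf f / q)) (orderOf_pow_orderOf_div (orderOf_pos f).ne' hqdvd)
  have hqr : q ≠ r := fun e => C.not_dvd hM hIF hFR hca ht htc (e ▸ hqm)
  have hAp : IsPGroup r A := C.syl.isPGroup.to_le hAR
  have hgen := Solv.gen_pgroup A ⟨⟨fun g h => Subtype.ext (hAc g g.2 h h.2)⟩⟩ _ (FQ q c a) rfl
    (FQ_isPGroup q c a) (hAD.trans (FQ_normalizer q c a))
    (by
      obtain ⟨i, hi⟩ := IsPGroup.iff_card.1 hAp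
      obtain ⟨j, hj⟩ := IsPGroup.iff_card.1 (FQ_isPGroup q c a)
      rw [hi, hj]
      exact Nat.Coprime.pow _ _ ((Nat.coprime_primes C.prime hq).2 hqr.symm))
  obtain ⟨B, hB, hBne⟩ : ∃ B ∈ Solv.CycQuot A, FQ q c a ⊓ Subgroup.centralizer (B : Set G) ≠ ⊥ := by
    by_contra hall
    push Not at hall
    have h0 : FQ q c a ≤ ⊥ := hgen.trans (iSup₂_le fun B hB => (hall B hB).le)
    have h1 := Subgroup.mem_bot.1 (h0 hyQ)
    have h2 := orderOf_pow_orderOf_div (orderOf_pos f).ne' hqdvd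
    rw [h1, orderOf_one] at h2
    exact hq.ne_one h2.symm
  obtain ⟨hBA, b₀, hb₀, hBb⟩ := hB
  obtain ⟨g, hgB, hg1⟩ : ∃ g ∈ B, g ≠ 1 := by
    by_contra hall
    push Not at hall
    rw [show B = ⊥ from (Subgroup.eq_bot_iff_forall _).2 hall, bot_sup_eq] at hBb
    have hle : Nat.card A ≤ r := by
      rw [← hBb, Nat.card_zpowers]
      exact Nat.le_of_dvd C.prime.pos (orderOf_dvd_of_pow_eq_one (hAe b₀ hb₀))
    have hAx : A = Subgroup.zpowers x := (Subgroup.eq_of_le_of_card_ge (Subgroup.zpowers_le.2 hxA)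
      (by rwa [Nat.card_zpowers, C.ord])).symm
    exact hbx (hAx ▸ hb)
  obtain ⟨⟨f', hf'⟩, hf'1'⟩ := Subgroup.ne_bot_iff_exists_ne_one.1 hBne
  have hf'1 : f' ≠ 1 := fun e => hf'1' (Subtype.ext e)
  have hgD : g ∈ St2 c a := hAD (hBA hgB)
  have hgp : IsPGroup r (Subgroup.zpowers g) := hAp.to_le (Subgroup.zpowers_le.2 (hBA hgB))
  refine ⟨g, hBA hgB, hg1, ?_⟩
  by_cases h2 : Two (Subgroup.centralizer ((Subgroup.zpowers g : Subgroup G) : Set G)) c
  · exact split_of_two hM hFR hIF hgp (Subgroup.zpowers_ne_bot.2 hg1) hca (Subgroup.zpowers_le.2 hgD) h2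
  exfalso
  have hgt : Commute g t :=
    C.comm_t hM hIF hFR hca ht htc hgD.1 (C.central g (hAR (hBA hgB)))
  have hft : Commute f' t := commute_centre hM hFR hgp (Subgroup.zpowers_ne_bot.2 hg1) hca
    (Subgroup.zpowers_le.2 hgD) ht htc (mem_centralizer_zpowers hgt) hIF h2
    (mem_centralizer_zpowers (Subgroup.mem_centralizer_iff.1 hf'.2 g hgB)) (FQ_le q c a hf'.1).1
  exact hbx ((C.R_eq_of_fix hM hIF hFR hca hne ht htc (FQ_le_FD q c a hf'.1) hf'1 hft) ▸ hAR hb)

/-- The Sylow subgroup of a transfer prime is cyclic. -/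
theorem cyclic : IsCyclic ↥R := by
  classical
  haveI := Fact.mk C.prime
  by_contra hnc
  have hr2 := C.r_ne_two hM hIF hFR hca ht htc
  have hxr : x ^ r = 1 := by rw [← C.ord, pow_orderOf_eq_one]
  have hsplit : ∀ {g : G}, g ∈ R → g ≠ 1 → (∀ y ∈ R, Commute g y) →
      ¬ Split (Subgroup.zpowers g) c := fun {g} hg hg1 hgc h => hM.false_of_good hIF hFR hca hr2 C.syl C.ab
    hg hgc (Or.inl h)
  have hcen : ∀ z ∈ R, z ^ r = 1 → (∀ y ∈ R, Commute z y) → z ∈ Subgroup.zpowers x := by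
    intro z hz hzr hzc
    by_contra hzx
    set A := Subgroup.closure ({x, z} : Set G) with hA
    have hAR : A ≤ R := (Subgroup.closure_le _).2 (Set.insert_subset C.mem (Set.singleton_subset_iff.2 hz))
    have hAc : ∀ g ∈ A, ∀ y ∈ R, Commute g y := fun g hg y hy => by
      have h1 : g ∈ Subgroup.centralizer ({y} : Set G) := (Subgroup.closure_le _).2
        (Set.insert_subset (Subgroup.mem_centralizer_singleton_iff.2 (C.central y hy).eq)
          (Set.singleton_subset_iff.2 (Subgroup.mem_centralizer_singleton_iff.2 (hzc y hy).eq))) hg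
      exact Subgroup.mem_centralizer_singleton_iff.1 h1
    have hAe : ∀ g ∈ A, g ^ r = 1 := fun g hg => by
      induction hg using Subgroup.closure_induction with
      | mem w hw =>
        rcases hw with rfl | rfl
        · exact hxr
        · exact hzr
      | one => exact one_pow r
      | mul v w hv hw ihv ihw => rw [(hAc v hv w (hAR hw)).mul_pow, ihv, ihw, one_mul]
      | inv v _ ihv => rw [inv_pow, ihv, inv_one]
    obtain ⟨g, hg, hg1, hgs⟩ := C.exists_rich hM hIF hFR hca hne ht htc hAR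
      (Subgroup.subset_closure (Or.inl rfl)) hAe (fun g hg w hw => hAc g hg w (hAR hw))
      (Subgroup.subset_closure (Or.inr rfl)) hzx
    exact hsplit (hAR hg) hg1 (hAc g hg) hgs
  obtain ⟨A, hAR, hxA, hAe, hAn, hAc, hAx, b, hb, hbx⟩ :=
    exists_normal_sq (C.prime.odd_of_ne_two hr2) C.syl.isPGroup hnc hxr hcen
  obtain ⟨g₀, hg₀, hg₀1, hg₀s⟩ := C.exists_rich hM hIF hFR hca hne ht htc hAR hxA hAe hAc hb hbx
  have hRD : R ≤ St2 c a := C.le_D1.trans (D1_le_St2 c a)
  have hRc : R ≤ St c := fun g hg => (hRD hg).1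
  have hAs : Split A c := hg₀s.of_normal hM.hse (Subgroup.zpowers_le.2 hg₀)
    (fun g hg => Subgroup.centralizer_le_normalizer _ (mem_centralizer_zpowers (hAc g₀ hg₀ g hg)))
    (hAR.trans hRc)
  have hRT : SylIn r R (T0 c) := (hAs.of_normal hM.hse hAR hAn hRc).sylow_up hM.hse hca hr2 (T0_le c)
    ((TwoGen_le_T0 _ c).trans Subgroup.le_normalizer) C.syl
  refine C.ab fun y hy => focal_control hRT inf_le_left C.le_D1 C.mem C.ord C.central hAR hxA hAx
    (fun X hXR hxX hX g hg hgX => ?_) ⟨hy, hM.sylow_le_commutator hr2 hRT hy⟩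
  have hXc : X ≤ St c := hXR.trans hRc
  have hXs : Split X c := by
    rcases hX with hAX | ⟨z, hzX, hzr, hzx, hzc⟩
    · exact hAs.of_normal hM.hse hAX (hXR.trans hAn) hXc
    set A' := Subgroup.closure ({x, z} : Set G) with hA'
    have hA'X : A' ≤ X := (Subgroup.closure_le _).2 (Set.insert_subset hxX (Set.singleton_subset_iff.2 hzX))
    have hA'c : ∀ w ∈ A', ∀ y ∈ X, Commute w y := fun w hw y hy => by
      have h1 : w ∈ Subgroup.centralizer ({y} : Set G) := (Subgroup.closure_le _).2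
        (Set.insert_subset (Subgroup.mem_centralizer_singleton_iff.2 (C.central y (hXR hy)).eq)
          (Set.singleton_subset_iff.2 (Subgroup.mem_centralizer_singleton_iff.2 (hzc y hy).eq))) hw
      exact Subgroup.mem_centralizer_singleton_iff.1 h1
    have hA'e : ∀ w ∈ A', w ^ r = 1 := fun w hw => by
      induction hw using Subgroup.closure_induction with
      | mem w hw =>
        rcases hw with rfl | rfl
        · exact hxr
        · exact hzr
      | one => exact one_pow r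
      | mul v w hv hw ihv ihw => rw [(hA'c v hv w (hA'X hw)).mul_pow, ihv, ihw, one_mul]
      | inv v _ ihv => rw [inv_pow, ihv, inv_one]
    obtain ⟨g', hg', hg'1, hg's⟩ := C.exists_rich hM hIF hFR hca hne ht htc (hA'X.trans hXR)
      (Subgroup.subset_closure (Or.inl rfl)) hA'e (fun v hv w hw => hA'c v hv w (hA'X hw))
      (Subgroup.subset_closure (Or.inr rfl)) hzx
    exact hg's.of_normal hM.hse (Subgroup.zpowers_le.2 (hA'X hg'))
      (fun y hy => Subgroup.centralizer_le_normalizer _ (mem_centralizer_zpowers (hA'c g' hg' y hy))) hXc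
  have hgc : g • c = c := T0_le c hg
  obtain ⟨q, hq, d, hd, hgd, hconj⟩ := hXs.fusion hca (fun y hy => (hRD (hXR hy)).2) (h := g⁻¹)
    (inv_smul_eq_iff.2 hgc.symm) (fun y hy => by rw [inv_inv]; exact (hRD (hgX y hy)).2)
  refine ⟨d⁻¹, inv_mem ⟨?_, hd⟩, fun y hy => ?_⟩
  · rw [show d = q⁻¹ * g⁻¹ by rw [hgd]; group]
    exact Subgroup.mul_mem _ (Subgroup.inv_mem _ (TwoGen_le_T0 _ c hq)) (Subgroup.inv_mem _ hg)
  · have h := hconj y hy
    rw [inv_inv] at h
    rw [h, inv_inv]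

/-- The Fitting subgroup of the pair stabiliser lies in `T0`. -/
theorem FD_le_D1 : FD c a ≤ D1 c a := by
  intro f hf
  let φ : FD c a → FD c a := fun g => ⟨x * g * x⁻¹ * (g : G)⁻¹,
    mul_mem (Solv.conj_mem_of_mem_normalizer (FD_normalizer c a C.mem_D) g.2) (inv_mem g.2)⟩
  have hinj : Function.Injective φ := fun g g' h => by
    have h' : x * (g : G) * x⁻¹ * (g : G)⁻¹ = x * (g' : G) * x⁻¹ * (g' : G)⁻¹ := congrArg Subtype.val h
    refine Subtype.ext (inv_mul_eq_one.1 (C.fix_free hM hIF hFR hca hne ht htc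
      (mul_mem (inv_mem g'.2) g.2) ?_)).symm
    show x * ((g' : G)⁻¹ * g) = (g' : G)⁻¹ * g * x
    have h1 : x * (g : G) * x⁻¹ = x * (g' : G) * x⁻¹ * (g' : G)⁻¹ * g := by rw [← h']; group
    calc x * ((g' : G)⁻¹ * g) = (x * (g' : G) * x⁻¹)⁻¹ * (x * (g : G) * x⁻¹) * x := by group
      _ = _ := by rw [h1]; group
  obtain ⟨g, hg⟩ := Finite.injective_iff_surjective.1 hinj ⟨f, hf⟩
  have hgf : x * (g : G) * x⁻¹ * (g : G)⁻¹ = f := congrArg Subtype.val hg
  have hxD1 : x ∈ D1 c a := C.le_D1 C.mem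
  rw [← hgf, show x * (g : G) * x⁻¹ * (g : G)⁻¹ = x * ((g : G) * x⁻¹ * (g : G)⁻¹) by group]
  exact mul_mem hxD1 (Solv.conj_mem_of_mem_normalizer (St2_le_normalizer_D1 c a (FD_le c a g.2))
    (inv_mem hxD1))

/-- The pair stabiliser in `T0` is the Fitting subgroup times the centraliser of `x`. -/
theorem factor {g : G} (hg : g ∈ D1 c a) :
    ∃ f ∈ FD c a, ∃ k ∈ D1 c a, Commute k x ∧ g = f * k := by
  classical
  haveI := Fact.mk C.prime
  have hcyc := C.cyclic hM hIF hFR hca hne ht htc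
  have hFD := C.FD_le_D1 hM hIF hFR hca hne ht htc
  set F₁ := Cfsg.fittingSubgroup ↥(D1 c a)
  have hF₁n := Solv.fittingSubgroup_normal (G := ↥(D1 c a))
  have hF₁nil := Solv.fittingSubgroup_nilpotent (G := ↥(D1 c a))
  set F₂ := F₁.map (D1 c a).subtype with hF₂
  haveI hF₂nil : Group.IsNilpotent ↥F₂ := Group.nilpotent_of_mulEquiv
    (Subgroup.equivMapOfInjective _ (D1 c a).subtype (D1 c a).subtype_injective)
  have hF₂D : F₂ ≤ D1 c a := Subgroup.map_subtype_le _
  have hF₂n : D1 c a ≤ Subgroup.normalizer (F₂ : Set G) := fun e he => by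
    refine Fusion.mem_normalizer_of_cj_le ?_
    rintro _ ⟨_, ⟨y, hy, rfl⟩, rfl⟩
    exact ⟨⟨e, he⟩ * y * ⟨e, he⟩⁻¹, hF₁n.conj_mem y hy _, rfl⟩
  have hF₂Dn : St2 c a ≤ Subgroup.normalizer (F₂ : Set G) := fun d hd => by
    refine Fusion.mem_normalizer_of_cj_le ?_
    have hdn := Fusion.cj_eq_self (St2_le_normalizer_D1 c a hd)
    have hle : cj F₂ d ≤ D1 c a := hdn ▸ Fusion.cj_mono hF₂D d
    haveI : ((cj F₂ d).subgroupOf (D1 c a)).Normal := Subgroup.normal_subgroupOf_of_le_normalizer (by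
      rw [← Fusion.cj_normalizer]
      exact hdn ▸ Fusion.cj_mono hF₂n d)
    haveI : Group.IsNilpotent ↥(cj F₂ d) := Group.nilpotent_of_mulEquiv
      (F₂.equivMapOfInjective (MulAut.conj d).toMonoidHom (MulAut.conj d).injective)
    have hn : Group.IsNilpotent ↥((cj F₂ d).subgroupOf (D1 c a)) :=
      Group.nilpotent_of_mulEquiv (Subgroup.subgroupOfEquivOfLe hle).symm
    intro y hy
    exact ⟨⟨y, hle hy⟩, Solv.normal_le_fitting hn (Subgroup.mem_subgroupOf.2 hy), rfl⟩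
  have hF₂F : F₂ ≤ FD c a := fun y hy => by
    haveI : (F₂.subgroupOf (St2 c a)).Normal := Subgroup.normal_subgroupOf_of_le_normalizer hF₂Dn
    have hn : Group.IsNilpotent ↥(F₂.subgroupOf (St2 c a)) :=
      Group.nilpotent_of_mulEquiv (Subgroup.subgroupOfEquivOfLe (hF₂D.trans (D1_le_St2 c a))).symm
    exact ⟨⟨y, (hF₂D hy).2⟩, Solv.normal_le_fitting hn (Subgroup.mem_subgroupOf.2 hy), rfl⟩
  obtain ⟨P, hP⟩ := C.syl.exists_sylow_subgroupOf
  haveI := hcyc
  have hcycP : IsCyclic (P : Subgroup ↥(D1 c a)) := by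
    rw [hP]
    exact isCyclic_of_surjective (Subgroup.subgroupOfEquivOfLe C.le_D1).symm
      (Subgroup.subgroupOfEquivOfLe C.le_D1).symm.surjective
  obtain ⟨f, hf, k, hk, hgk⟩ := fitting_factor
    ((St2_odd hM.hse hca.symm).of_dvd_nat (Subgroup.card_dvd_of_le (D1_le_St2 c a))) F₁
    (fun N hN h => haveI := hN; Solv.normal_le_fitting h) (x := (⟨x, C.le_D1 C.mem⟩ : D1 c a))
    (by rw [Subgroup.orderOf_mk]; exact C.ord)
    (fun f hf hxf => Subtype.ext (C.fix_free hM hIF hFR hca hne ht htc (hF₂F ⟨f, hf, rfl⟩)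
      (congrArg Subtype.val hxf.eq)))
    (R := P) (show (⟨x, C.le_D1 C.mem⟩ : D1 c a) ∈ (P : Subgroup ↥(D1 c a)) by
      rw [hP]; exact Subgroup.mem_subgroupOf.2 C.mem) hcycP (fun hle => C.ab fun y hy => by
      rw [← Subgroup.map_subtype_commutator]
      exact ⟨⟨y, C.le_D1 hy⟩, hle (show (⟨y, C.le_D1 hy⟩ : D1 c a) ∈ (P : Subgroup ↥(D1 c a)) by
        rw [hP]; exact Subgroup.mem_subgroupOf.2 hy), rfl⟩) ⟨g, hg⟩
  exact ⟨f, hF₂F ⟨f, hf, rfl⟩, k, k.2, congrArg Subtype.val hk.eq, congrArg Subtype.val hgk⟩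

end Core

end Cfsg.Agent.SEB
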