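import Cfsg.Agent.Lib.Bender.Solvable.ElementaryIrr

/-!
# Solvability of a strongly embedded subgroup: the exceptional characters of the elementary case

The restriction of an irreducible character to the torus is constant on the non-trivial orbit sums,
up to the exceptional characters.
-/

set_option autoImplicit false
set_option linter.style.haveILetI false
set_option linter.unusedSectionVars false

open scoped ComplexConjugate

attribute [local instance] Classical.propDecidable

namespace Cfsg.Agent.SEB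

open Cfsg Cfsg.Agent.Char

universe u

variable {G : Type u} [Group G] [Fintype G] {Γ B : Subgroup G} {r : ℕ} (hF : Frob Γ B r)
  (hcard : Nat.card Γ = 2 ^ r - 1) (hab : ∀ γ ∈ Γ, ∀ δ ∈ Γ, γ * δ = δ * γ)

section
variable [Fintype Γ]

include hab

theorem irr_mul (θ : IrrCharacter Γ) (f f' : Γ) :
    (θ : Γ → ℂ) (f * f') = (θ : Γ → ℂ) f * (θ : Γ → ℂ) f' := by
  obtain ⟨l, hl⟩ := (Endgame.irr_comm fun f f' : Γ => Subtype.ext (hab _ f.2 _ f'.2)).2 θ
  rw [hl]
  simp [map_mul, Units.val_mul]

theorem irr_at_one (θ : IrrCharacter Γ) : (θ : Γ → ℂ) 1 = 1 := by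
  obtain ⟨l, hl⟩ := (Endgame.irr_comm fun f f' : Γ => Subtype.ext (hab _ f.2 _ f'.2)).2 θ
  rw [hl]
  show ((l 1 : ℂˣ) : ℂ) = 1
  rw [map_one, Units.val_one]

theorem sum_irr (f : Γ) :
    ∑ θ : IrrCharacter Γ, (θ : Γ → ℂ) f = if f = 1 then (Nat.card Γ : ℂ) else 0 := by
  have h := second_orth f (1 : Γ)
  rw [Finset.sum_congr rfl fun θ _ => by rw [irr_at_one hab θ, map_one, mul_one]] at h
  rw [h]
  have h1 : Nat.card {x : Γ // IsConj (1 : Γ) x} = 1 := by
    refine Nat.card_eq_one_iff_unique.2 ⟨⟨fun x y => Subtype.ext ?_⟩, ⟨⟨1, IsConj.refl _⟩⟩⟩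
    rw [isConj_one_right.1 x.2, isConj_one_right.1 y.2]
  by_cases hf : f = 1
  · rw [if_pos hf, if_pos (hf ▸ IsConj.refl _), h1, Nat.cast_one, div_one]
  · rw [if_neg hf, if_neg fun h => hf (isConj_one_left.1 h)]

end

/-- The orbit sum of a character of the torus at an element. -/
noncomputable def orbSum [Fintype Γ] [Fintype B] (θ : IrrCharacter Γ) (f : Γ) : ℂ :=
  ∑ b : B, (tw hF.norm b θ : Γ → ℂ) f

include hF hcard hab

/-- The values of the irreducible characters at a fixed element of the torus. -/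
theorem exists_values {γ : G} (hγ : γ ∈ Γ) (hγ1 : γ ≠ 1) {t : G} (ht : orderOf t = 2) (hr : 3 ≤ r) :
    ∃ (M : ℕ) (ε : ℤ) (μ : Fin M → IrrCharacter G) (S : Fin M → ℂ) (z v : IrrCharacter G → ℤ),
      2 * r * M + 2 = 2 ^ r ∧ 0 < M ∧ Function.Injective μ ∧
      ((M = 1 ∧ ε = 0) ∨ (2 ≤ M ∧ (ε = 1 ∨ ε = -1))) ∧
      ∑ i, S i = -1 ∧ ∑ i, S i * conj (S i) = (Nat.card Γ : ℂ) - 2 * r ∧
      (∀ χ : IrrCharacter G, (χ : G → ℂ) γ = z χ + ε * ∑ i, if μ i = χ then S i else 0) ∧
      (∀ χ : IrrCharacter G, (χ : G → ℂ) 1 =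
        z χ + v χ * (Nat.card Γ : ℂ) + ε * ∑ i, if μ i = χ then (2 * r : ℂ) else 0) ∧
      ∀ i j, (μ i : G → ℂ) 1 = (μ j : G → ℂ) 1 ∧ (μ i : G → ℂ) t = (μ j : G → ℂ) t ∧
        (μ i : G → ℂ) γ - (μ j : G → ℂ) γ = ε * (S i - S j) ∧
        ∀ P : G → ℂ, IsClassFunction G P → (∀ f ∈ Γ, f ≠ 1 → P f = -2) →
          classInner P (μ i : G → ℂ) = classInner P (μ j : G → ℂ) := by
  haveI := Fintype.ofFinite Γ
  haveI := Fintype.ofFinite B
  obtain ⟨M, lam, hM, hne, hinj, hsumθ⟩ := exists_reps hF hcard hab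
  have hM0 : 0 < M := by
    rcases Nat.eq_zero_or_pos M with rfl | h
    · have : 2 ^ 3 ≤ 2 ^ r := Nat.pow_le_pow_right (by norm_num) hr
      omega
    · exact h
  set g₀ : Γ := ⟨γ, hγ⟩ with hg₀
  have hg₀1 : g₀ ≠ 1 := fun e => hγ1 (congrArg Subtype.val e)
  set i₀ : Fin M := ⟨0, hM0⟩
  let S : Fin M → ℂ := fun i => orbSum hF (lam i) g₀
  have hcB : (Fintype.card B : ℂ) = 2 * r := by
    rw [← Nat.card_eq_fintype_card, hF.card]
    push_cast
    ring
  have hone : ∀ θ : IrrCharacter Γ, (θ : Γ → ℂ) 1 = 1 := irr_at_one hab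
  have hS1 : ∑ i, S i = -1 := by
    have h := hsumθ fun θ => (θ : Γ → ℂ) g₀
    rw [sum_irr hab, if_neg hg₀1] at h
    show ∑ i, ∑ b : B, (tw hF.norm b (lam i) : Γ → ℂ) g₀ = -1
    rw [show ((trivIrr Γ : IrrCharacter Γ) : Γ → ℂ) g₀ = 1 from rfl] at h
    linear_combination -h
  have hS2 : ∑ i, S i * conj (S i) = (Nat.card Γ : ℂ) - 2 * r := by
    let η : B → Γ := fun d => cjAut hF.norm d g₀ * g₀⁻¹
    have hterm : ∀ i, S i * conj (S i) =
        ∑ d : B, ∑ b : B, (tw hF.norm b (lam i) : Γ → ℂ) (η d) := by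
      intro i
      have hconj : conj (S i) = ∑ b : B, (tw hF.norm b (lam i) : Γ → ℂ) g₀⁻¹ := by
        show conj (∑ b : B, _) = _
        rw [map_sum]
        exact Finset.sum_congr rfl fun b _ => (char_inv (irr_isCharacter (tw hF.norm b (lam i)).2) g₀).symm
      rw [hconj, Finset.mul_sum, Finset.sum_comm (γ := B)]
      refine Finset.sum_congr rfl fun b _ => ?_
      show (∑ b' : B, _) * _ = _
      rw [Finset.sum_mul]
      refine (Fintype.sum_equiv (Equiv.mulLeft b) _ _ fun d => ?_).symm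
      show (tw hF.norm b (lam i) : Γ → ℂ) (η d) =
        (tw hF.norm (b * d) (lam i) : Γ → ℂ) g₀ * (tw hF.norm b (lam i) : Γ → ℂ) g₀⁻¹
      rw [irr_mul hab]
      congr 1
      rw [tw_apply, tw_apply]
      exact congrArg _ (Subtype.ext (by simp only [cjAut_apply, Subgroup.coe_mul]; group))
    rw [Finset.sum_congr rfl fun i _ => hterm i, Finset.sum_comm,
      Finset.sum_congr rfl (g := fun d : B => (if d = 1 then (Nat.card Γ : ℂ) else 0) - 1) fun d _ => ?_,
      Finset.sum_sub_distrib, Finset.sum_ite_eq', if_pos (Finset.mem_univ _), Finset.sum_const, Finset.card_univ,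
      nsmul_one, hcB]
    have h := hsumθ fun θ => (θ : Γ → ℂ) (η d)
    rw [sum_irr hab, show ((trivIrr Γ : IrrCharacter Γ) : Γ → ℂ) (η d) = 1 from rfl] at h
    have hd : η d = 1 ↔ d = 1 := by
      refine ⟨fun e => ?_, fun e => ?_⟩
      · rcases hF.free _ d.2 γ hγ (congrArg Subtype.val (mul_inv_eq_one.1 e)) with h1 | h1
        · exact Subtype.ext h1
        · exact absurd h1 hγ1
      · rw [e]
        exact mul_inv_eq_one.2 (Subtype.ext (by rw [cjAut_apply]; simp [hg₀]))
    rw [if_congr hd rfl rfl] at h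
    linear_combination -h
  -- multiplicities on the torus
  have hcl : ∀ f : Γ → ℂ, IsClassFunction Γ f := fun f x y => by
    rw [show y * x * y⁻¹ = x from Subtype.ext (by
      rw [Subgroup.coe_mul, Subgroup.coe_mul, Subgroup.coe_inv, hab _ y.2 _ x.2, mul_inv_cancel_right])]
  choose bn hbn using fun (χ : IrrCharacter G) (θ : IrrCharacter Γ) =>
    classInner_natCast (irr_isCharacter θ.2) (isCharacter_comp Γ.subtype (irr_isCharacter χ.2))
  have hinv : ∀ χ b θ, bn χ (tw hF.norm b θ) = bn χ θ := fun χ b θ => by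
    have h1 := hbn χ (tw hF.norm b θ)
    have h2 := hbn χ θ
    have h3 : classInner (tw hF.norm b θ : Γ → ℂ) (fun f : Γ => (χ : G → ℂ) (Γ.subtype f)) =
        classInner (θ : Γ → ℂ) (fun f : Γ => (χ : G → ℂ) (Γ.subtype f)) := by
      simp only [classInner]
      congr 1
      refine Fintype.sum_equiv (cjAut hF.norm b).toEquiv _ _ fun f => ?_
      rw [tw_apply]
      congr 2
      exact (isClassFunction_character (irr_isCharacter χ.2) f b).symm
    exact_mod_cast (h1.symm.trans h3).trans h2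
  have hexp : ∀ (χ : IrrCharacter G) (f : Γ), (χ : G → ℂ) f =
      (bn χ (trivIrr Γ) : ℂ) + ∑ i, (bn χ (lam i) : ℂ) * orbSum hF (lam i) f := by
    intro χ f
    have h := congrFun (char_expansion (isCharacter_comp Γ.subtype (irr_isCharacter χ.2))) f
    rw [Finset.sum_apply] at h
    refine h.trans ?_
    rw [hsumθ fun θ => (classInner _ (θ : Γ → ℂ) • (θ : Γ → ℂ)) f]
    have hb : ∀ θ : IrrCharacter Γ,
        classInner (fun f : Γ => (χ : G → ℂ) (Γ.subtype f)) (θ : Γ → ℂ) = (bn χ θ : ℂ) := fun θ => by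
      rw [← classInner_symm]
      exact (congrArg conj (hbn χ θ)).trans (map_natCast (starRingEnd ℂ) _)
    simp only [Pi.smul_apply, smul_eq_mul, orbSum, Finset.mul_sum]
    congr 1
    · exact (congrArg (· * (1 : ℂ)) (hb (trivIrr Γ))).trans (mul_one _)
    · refine Finset.sum_congr rfl fun i _ => Finset.sum_congr rfl fun b _ => ?_
      rw [← hinv χ b (lam i)]
      exact congrArg (· * _) (hb _)
  -- differences of orbit sums induced to the group
  let β : Fin M → Γ → ℂ := fun i => (lam i : Γ → ℂ) - (lam i₀ : Γ → ℂ)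
  let τ : Fin M → G → ℂ := fun i => indFun Γ (β i)
  have hτres : ∀ i (f : Γ), τ i f = orbSum hF (lam i) f - orbSum hF (lam i₀) f := by
    intro i f
    show _ = (∑ b : B, _) - ∑ b : B, _
    rw [← Finset.sum_sub_distrib]
    by_cases hf : f = 1
    · subst hf
      show indFun Γ (β i) (1 : G) = _
      rw [indFun_one, show β i 1 = 0 from sub_eq_zero.2 ((hone _).trans (hone _).symm), mul_zero]
      exact (Finset.sum_eq_zero fun b _ => sub_eq_zero.2 ((hone _).trans (hone _).symm)).symm
    · exact Endgame.res_indFun hF.norm hF.disj (β i) (hcl _)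
        fun g hg => hF.ti f f.2 (fun e => hf (Subtype.ext e)) g hg
  have hτ1 : ∀ i, τ i 1 = 0 := fun i => by
    show indFun Γ (β i) 1 = 0
    rw [indFun_one, show β i 1 = 0 from sub_eq_zero.2 ((hone _).trans (hone _).symm), mul_zero]
  have hτt : ∀ i, τ i t = 0 := fun i => by
    show indFun Γ (β i) t = 0
    rw [indFun, Finset.sum_eq_zero fun k _ => extendByZero_not_mem Γ _ fun hk => ?_, mul_zero]
    have h2 : orderOf (k⁻¹ * t * k) = 2 := by
      simpa using Cfsg.Agent.Fusion.SEPairs.conj_involution ht k⁻¹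
    refine even_of_invol_mem h2 hk ?_
    rw [hcard]
    exact Nat.Even.sub_odd Nat.one_le_two_pow (Nat.even_pow.2 ⟨even_two, by omega⟩) odd_one
  have hin : ∀ i (χ : IrrCharacter G), classInner (τ i) (χ : G → ℂ) = (bn χ (lam i) : ℂ) - bn χ (lam i₀) :=
    fun i χ => by
      show classInner (indFun Γ _) _ = _
      rw [frobenius Γ _ (isClassFunction_character (irr_isCharacter χ.2)), classInner_sub_left]
      exact congrArg₂ (· - ·) (hbn χ (lam i)) (hbn χ (lam i₀))
  -- the exceptional family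
  obtain ⟨ε, μ, hμinj, hcases, hrel⟩ : ∃ (ε : ℤ) (μ : Fin M → IrrCharacter G), Function.Injective μ ∧
      ((M = 1 ∧ ε = 0) ∨ (2 ≤ M ∧ (ε = 1 ∨ ε = -1))) ∧
      (∀ i, τ i = (ε : ℂ) • ((μ i : G → ℂ) - (μ i₀ : G → ℂ))) := by
    by_cases hM1 : M = 1
    · refine ⟨0, fun _ => trivIrr G, fun i j _ => ?_, Or.inl ⟨hM1, rfl⟩, fun i => ?_⟩
      · subst hM1
        exact Subsingleton.elim i j
      · have hi : i = i₀ := by
          subst hM1
          exact Subsingleton.elim i i₀
        subst hi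
        show indFun Γ (β i₀) = _
        rw [show β i₀ = 0 from sub_self _, indFun_zero]
        simp
    · have hgram : ∀ i j, i ≠ i₀ → j ≠ i₀ → classInner (τ i) (τ j) = if i = j then 2 else 1 := by
        intro i j hi hj
        show classInner (indFun Γ _) (τ j) = _
        rw [frobenius Γ _ (show IsClassFunction G (τ j) from isClassFunction_indFun _ _)]
        have hf : (fun f : Γ => τ j f) =
            ∑ b : B, ((tw hF.norm b (lam j) : Γ → ℂ) - (tw hF.norm b (lam i₀) : Γ → ℂ)) := by
          funext f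
          rw [hτres, Finset.sum_apply]
          simp only [orbSum, Pi.sub_apply, Finset.sum_sub_distrib]
        have hind : ∀ p q : Fin M, ∑ b : B, classInner (lam p : Γ → ℂ) (tw hF.norm b (lam q) : Γ → ℂ) =
            if p = q then 1 else 0 := by
          intro p q
          simp only [irrC_orth]
          split_ifs with hpq
          · subst hpq
            rw [Finset.sum_eq_single (1 : B) (fun b _ hb => if_neg fun e => hb (hinj _ _ _ e.symm).2)
              (fun h => absurd (Finset.mem_univ _) h), if_pos]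
            exact Subtype.ext (funext fun f => by
              have h1 : cjAut hF.norm (1 : B) f = f := Subtype.ext (by
                rw [cjAut_apply, OneMemClass.coe_one, one_mul, inv_one, mul_one])
              rw [tw_apply, h1])
          · exact Finset.sum_eq_zero fun b _ => if_neg fun e => hpq (hinj _ _ _ e.symm).1.symm
        rw [hf, classInner_sum_right]
        simp only [β, classInner_sub_left, classInner_sub_right, Finset.sum_sub_distrib, hind]
        rw [if_neg hi, if_pos trivial, if_neg (Ne.symm hj)]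
        split_ifs <;> norm_num
      obtain ⟨ε, hε, μ, hμ, hμinj, hτ⟩ := exists_exceptional M i₀ τ
        (show indFun Γ (β i₀) = 0 by rw [show β i₀ = 0 from sub_self _, indFun_zero])
        (fun i => ⟨_, _, isCharacter_indFun Γ (irr_isCharacter (lam i).2),
          isCharacter_indFun Γ (irr_isCharacter (lam i₀).2), indFun_sub Γ _ _⟩) hτ1 hgram
      obtain ⟨e, he, rfl⟩ : ∃ e : ℤ, (e = 1 ∨ e = -1) ∧ (e : ℂ) = ε := by
        rcases hε with rfl | rfl
        · exact ⟨1, Or.inl rfl, Int.cast_one⟩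
        · exact ⟨-1, Or.inr rfl, by push_cast; rfl⟩
      exact ⟨e, fun i => ⟨μ i, hμ i⟩, fun i j h => hμinj (congrArg Subtype.val h),
        Or.inr ⟨by omega, he⟩, hτ⟩
  let w : IrrCharacter G → ℤ := fun χ => (bn χ (lam i₀) : ℤ) - if μ i₀ = χ then ε else 0
  have hbw : ∀ (χ : IrrCharacter G) i, (bn χ (lam i) : ℤ) = w χ + if μ i = χ then ε else 0 := by
    intro χ i
    have h := hin i χ
    rw [hrel, classInner_smul_left, classInner_sub_left, irrC_orth, irrC_orth] at h
    have h' : (((bn χ (lam i) : ℤ) - bn χ (lam i₀) : ℤ) : ℂ) =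
        ((ε * ((if μ i = χ then 1 else 0) - if μ i₀ = χ then 1 else 0) : ℤ) : ℂ) := by
      push_cast
      exact h.symm
    have h'' := Int.cast_injective h'
    simp only [w]
    split_ifs at h'' ⊢ <;> linarith
  refine ⟨M, ε, μ, S, fun χ => (bn χ (trivIrr Γ) : ℤ) - w χ, w, hM, hM0, hμinj, hcases, hS1, hS2,
    fun χ => ?_, fun χ => ?_, fun i j => ?_⟩
  · rw [show (χ : G → ℂ) γ = (χ : G → ℂ) (g₀ : G) from rfl, hexp,
      Finset.sum_congr rfl (g := fun i => (w χ : ℂ) * S i + ε * if μ i = χ then S i else 0) fun i _ => ?_,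
      Finset.sum_add_distrib, ← Finset.mul_sum, ← Finset.mul_sum, hS1]
    · push_cast
      ring
    · rw [show (bn χ (lam i) : ℂ) = ((bn χ (lam i) : ℤ) : ℂ) by norm_cast, hbw]
      show _ * S i = _
      split_ifs <;> push_cast <;> ring
  · have hm : (Nat.card Γ : ℂ) = 2 * r * M + 1 := by
      have : Nat.card Γ = 2 * r * M + 1 := by omega
      rw [this]
      push_cast
      ring
    have h1 : ∀ i, orbSum hF (lam i) (1 : Γ) = 2 * r := fun i => by
      rw [← hcB, orbSum, Finset.sum_congr rfl fun b _ => hone (tw hF.norm b (lam i)), Finset.sum_const,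
        Finset.card_univ, nsmul_one]
    rw [show (χ : G → ℂ) 1 = (χ : G → ℂ) ((1 : Γ) : G) from rfl, hexp,
      Finset.sum_congr rfl (g := fun i => (w χ : ℂ) * (2 * r) + ε * if μ i = χ then (2 * r : ℂ) else 0)
        fun i _ => ?_,
      Finset.sum_add_distrib, Finset.sum_const, Finset.card_univ, Fintype.card_fin,
      nsmul_eq_mul, hm, ← Finset.mul_sum]
    · push_cast
      ring
    · rw [h1, show (bn χ (lam i) : ℂ) = ((bn χ (lam i) : ℤ) : ℂ) by norm_cast, hbw]
      split_ifs <;> push_cast <;> ring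
  · rcases hcases with ⟨hM1, -⟩ | ⟨-, hε⟩
    · subst hM1
      obtain rfl : i = j := Subsingleton.elim i j
      exact ⟨rfl, rfl, by ring, fun _ _ _ => rfl⟩
    have hεε : (ε : ℂ) * ε = 1 := by rcases hε with rfl | rfl <;> norm_num
    have hd : ∀ (k : Fin M) (g : G), (μ k : G → ℂ) g - (μ i₀ : G → ℂ) g = ε * τ k g := fun k g => by
      rw [hrel, Pi.smul_apply, Pi.sub_apply, smul_eq_mul, ← mul_assoc, hεε, one_mul]
    refine ⟨?_, ?_, ?_, fun P hPc hP => ?_⟩
    · linear_combination hd i 1 - hd j 1 + (ε : ℂ) * hτ1 i - (ε : ℂ) * hτ1 j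
    · linear_combination hd i t - hd j t + (ε : ℂ) * hτt i - (ε : ℂ) * hτt j
    · have ei : τ i γ = S i - S i₀ := hτres i g₀
      have ej : τ j γ = S j - S i₀ := hτres j g₀
      linear_combination hd i γ - hd j γ + (ε : ℂ) * ei - (ε : ℂ) * ej
    · have hP0 : ∀ k, classInner P (τ k) = 0 := fun k => by
        rw [← classInner_symm]
        show conj (classInner (indFun Γ (β k)) P) = 0
        rw [frobenius Γ _ hPc, classInner]
        have hterm : ∀ f : Γ, β k f * conj (P f) = β k f * -2 := fun f => by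
          by_cases hf : f = 1
          · rw [hf, show β k 1 = 0 from sub_eq_zero.2 ((hone _).trans (hone _).symm), zero_mul, zero_mul]
          · rw [hP _ f.2 fun e => hf (Subtype.ext e), map_neg, map_ofNat]
        have hz : ∀ θ : IrrCharacter Γ, θ ≠ trivIrr Γ → ∑ f : Γ, (θ : Γ → ℂ) f = 0 := fun θ hθ => by
          have h := irrC_orth θ (trivIrr Γ)
          rw [if_neg hθ, classInner, mul_eq_zero] at h
          refine (Finset.sum_congr rfl fun f _ => ?_).trans
            (h.resolve_left (inv_ne_zero (Nat.cast_ne_zero.2 Nat.card_pos.ne')))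
          show _ = _ * conj (1 : ℂ)
          rw [map_one, mul_one]
        have hne1 : ∀ k, lam k ≠ trivIrr Γ := fun k e => hne k 1 (by rw [e]; rfl)
        rw [Finset.sum_congr rfl fun f _ => hterm f, ← Finset.sum_mul]
        simp only [β, Pi.sub_apply, Finset.sum_sub_distrib, hz _ (hne1 _)]
        simp
      have he : (μ i : G → ℂ) - (μ j : G → ℂ) = (ε : ℂ) • (τ i - τ j) := funext fun g => by
        simp only [Pi.sub_apply, Pi.smul_apply, smul_eq_mul]
        linear_combination hd i g - hd j g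
      have h := congrArg (classInner P) he
      rw [classInner_sub_right, classInner_smul_right, classInner_sub_right, hP0, hP0, sub_self, mul_zero] at h
      exact sub_eq_zero.1 h

end Cfsg.Agent.SEB
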