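import Cfsg.Agent.Lib.Bender.Solvable.ElementaryInduced
import Cfsg.Agent.Lib.Bender.Solvable.ElementaryExceptional
import Cfsg.Agent.Lib.Bender.ElementaryArith
import Cfsg.Agent.Lib.Char.Convolution

/-!
# Solvability of a strongly embedded subgroup: no doubly transitive action on the involutions

In the elementary case the point stabiliser is not doubly transitive on its involutions: the
constituents of the induced character would contradict the arithmetic of `ElementaryArith`.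
-/

set_option autoImplicit false
set_option linter.style.haveILetI false
set_option linter.unusedSectionVars false
set_option maxHeartbeats 1000000

open scoped ComplexConjugate

attribute [local instance] Classical.propDecidable

namespace Cfsg.Agent.SEB

open Cfsg Cfsg.Agent.Char
open Cfsg.Agent.Fusion.SEPairs

universe u

/-- The value of a character at an involution is an integer. -/
theorem char_invol_int {G : Type u} [Group G] [Fintype G] {χ : G → ℂ} (h : IsCharacter G χ) {t : G}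
    (ht : t ^ 2 = 1) : ∃ z : ℤ, χ t = z := by
  obtain ⟨n, ρ, rfl⟩ := h
  obtain ⟨μ, hμ, htr, -⟩ := exists_eigenvalues ρ t
  have h1 : ρ.character t = ∑ i, μ i := by simpa using htr 1
  have hi : ∀ i, ∃ z : ℤ, μ i = z := fun i => by
    have h2 : μ i ^ 2 = 1 := by
      obtain ⟨k, hk⟩ := orderOf_dvd_of_pow_eq_one ht
      rw [hk, pow_mul, hμ i, one_pow]
    rcases sq_eq_one_iff.1 h2 with e | e
    · exact ⟨1, by simp [e]⟩
    · exact ⟨-1, by simp [e]⟩
  choose z hz using hi
  exact ⟨∑ i, z i, by rw [h1]; simp [hz]⟩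

/-- A sum over a type split along the image of an injective family. -/
theorem sum_split_image {ι κ R : Type*} [Fintype ι] [DecidableEq ι] [Fintype κ] [AddCommMonoid R] (μ : κ → ι)
    (hμ : Function.Injective μ) (f : ι → R) :
    ∑ χ, f χ = ∑ χ ∈ (Finset.univ.image μ)ᶜ, f χ + ∑ i, f (μ i) := by
  rw [← Finset.sum_compl_add_sum (Finset.univ.image μ), Finset.sum_image fun a _ b _ e => hμ e]

variable {G : Type u} [Group G] [Finite G] {H : Subgroup G} {c a : G ⧸ H} {Γ : Subgroup G} {x t : G} {r : ℕ}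
  (hT : Torus H c a Γ x t r)
include hT

namespace Torus

/-- **The stabiliser of `t` is not transitive on the other involutions at `c`.** -/
theorem false_of_transitive (htr : ∀ e : G ⧸ H, e ≠ c → ∃ k : G, k • c = c ∧ k • a = e)
    (htrans : ∀ s s' : G, orderOf s = 2 → orderOf s' = 2 → s • c = c → s' • c = c → s ≠ t →
      s' ≠ t → ∃ g : G, g • c = c ∧ g * t * g⁻¹ = t ∧ g * s * g⁻¹ = s') : False := by
  haveI := Fintype.ofFinite G
  haveI := Fintype.ofFinite ↥(St c)
  haveI := Fintype.ofFinite Γ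
  obtain ⟨u, B, hu, huc, -, hF⟩ := hT.exists_frob
  obtain ⟨hψc, hψn, hψ1⟩ := hT.psi_irr htrans
  obtain ⟨γ, hγ, hγ1⟩ := hT.exists_ne_one
  obtain ⟨M, ε, μ, S, z, v, hM, hM0, hμinj, hcases, hS1, hS2, hval, hdeg, hμeq⟩ :=
    exists_values hF hT.hcard hT.hab hγ hγ1 hT.ht hT.r_ge
  have hmN : Nat.card Γ = 2 * r * M + 1 := by have := hT.hcard; omega
  have hm : (Nat.card Γ : ℂ) = 2 * r * M + 1 := by rw [hmN]; push_cast; ring
  -- the expansion of the induced character
  have hPc : IsCharacter G (bigP c) := isCharacter_indFun (St c) hψc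
  choose cm hcm using fun χ : IrrCharacter G => classInner_natCast hPc (irr_isCharacter χ.2)
  have hexp : ∀ g : G, bigP c g = ∑ χ : IrrCharacter G, (cm χ : ℂ) * (χ : G → ℂ) g := fun g => by
    conv_lhs => rw [char_expansion hPc]
    rw [Finset.sum_apply]
    exact Finset.sum_congr rfl fun χ _ => by rw [Pi.smul_apply, smul_eq_mul, hcm]
  have hnorm : ∑ χ : IrrCharacter G, (cm χ : ℤ) ^ 2 = 1 + 2 * M := by
    have h1 := classInner_int_combination (θ := bigP c) (z := fun χ => (cm χ : ℤ)) (funext fun g => by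
      rw [hexp, Finset.sum_apply]
      exact Finset.sum_congr rfl fun χ _ => by rw [Pi.smul_apply, smul_eq_mul]; push_cast; rfl)
    have h2 := hT.bigP_norm hu huc htr hψn
    rw [h1, hm] at h2
    have h3 : (r : ℤ) * ∑ χ : IrrCharacter G, (cm χ : ℤ) * cm χ = r * (1 + 2 * M) := by
      have h4 : (r : ℂ) * ((∑ χ : IrrCharacter G, (cm χ : ℤ) * cm χ : ℤ) : ℂ) = r * (1 + 2 * M) := by
        rw [h2]; ring
      exact_mod_cast h4
    simp only [pow_two]
    exact mul_left_cancel₀ (by have := hT.r_ge; omega) h3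
  choose X hX using fun χ : IrrCharacter G =>
    char_invol_int (irr_isCharacter χ.2) (t := t) (by rw [pow_two]; exact sq_one hT.ht)
  set N := Nat.card (G ⧸ H)
  have hN : 0 < N := Nat.card_pos
  have hd : ∑ χ : IrrCharacter G, (cm χ : ℤ) * X χ = 2 * r * M := by
    have h := hT.bigP_t
    rw [hexp, Finset.sum_congr rfl fun χ _ => by rw [hX], hm, add_sub_cancel_right] at h
    exact_mod_cast h
  have hv : ∑ χ : IrrCharacter G, (cm χ : ℂ) * (χ : G → ℂ) γ = -2 := by
    rw [← hexp]; exact hT.bigP_gamma hu huc hγ hγ1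
  have hy : ∑ χ : IrrCharacter G, (cm χ : ℂ) * (χ : G → ℂ) 1 = (N : ℂ) * (2 * r * M) := by
    rw [← hexp, hT.bigP_one, hm, add_sub_cancel_right]
  -- equality in the Cauchy inequality
  have hprop : ∀ χ : IrrCharacter G, cm χ ≠ 0 → (deg (χ : G → ℂ) : ℤ) = (N : ℤ) * X χ := by
    have hpair : ∑ χ : IrrCharacter G, (cm χ : ℂ) * (X χ : ℂ) ^ 2 / (deg (χ : G → ℂ) : ℂ) =
        (2 * r * M : ℂ) / N := by
      have hχsum : ∀ χ : IrrCharacter G, ∑ g : G, ∑ h : G, (χ : G → ℂ) (g * t * g⁻¹ * (h * t * h⁻¹)) =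
          (Nat.card G : ℂ) ^ 2 * ((X χ : ℂ) ^ 2 / (deg (χ : G → ℂ) : ℂ)) := fun χ => by
        have hd0 : (deg (χ : G → ℂ) : ℂ) ≠ 0 := Nat.cast_ne_zero.2 (deg_pos χ.2).ne'
        have e : ∀ g : G, ∑ h : G, (χ : G → ℂ) (g * t * g⁻¹ * (h * t * h⁻¹)) =
            (Nat.card G : ℂ) * ((X χ : ℂ) ^ 2 / (deg (χ : G → ℂ) : ℂ)) := fun g => by
          have h := sum_conj_mul χ.2 (g * t * g⁻¹) t
          rw [char_one_eq_deg (irr_isCharacter χ.2), isClassFunction_character (irr_isCharacter χ.2) t g, hX] at h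
          field_simp
          linear_combination h
        rw [Finset.sum_congr rfl fun g _ => e g, Finset.sum_const, Finset.card_univ, nsmul_eq_mul,
          ← Nat.card_eq_fintype_card]
        ring
      have h := hT.pair_sum hu huc htr
      rw [Finset.sum_congr rfl fun g _ => Finset.sum_congr rfl fun h _ => hexp _,
        Finset.sum_congr rfl fun g _ => Finset.sum_comm, Finset.sum_comm] at h
      simp only [← Finset.mul_sum, hχsum] at h
      rw [hm, add_sub_cancel_right, card_group c, Nat.cast_mul] at h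
      have hA0 : (Nat.card ↥(St c) : ℂ) ≠ 0 := Nat.cast_ne_zero.2 Nat.card_pos.ne'
      have hN0 : (N : ℂ) ≠ 0 := Nat.cast_ne_zero.2 hN.ne'
      have h' : (N : ℂ) ^ 2 * (Nat.card ↥(St c) : ℂ) ^ 2 *
          ∑ χ : IrrCharacter G, (cm χ : ℂ) * (X χ : ℂ) ^ 2 / (deg (χ : G → ℂ) : ℂ) =
          (N : ℂ) * (Nat.card ↥(St c) : ℂ) ^ 2 * (2 * r * M) := by
        rw [← h, Finset.mul_sum]
        exact Finset.sum_congr rfl fun χ _ => by ring
      field_simp
      refine mul_left_cancel₀ (mul_ne_zero hN0 (pow_ne_zero 2 hA0)) ?_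
      linear_combination h'
    intro χ₀ hχ₀
    let f : IrrCharacter G → ℝ := fun χ =>
      (cm χ : ℝ) * (deg (χ : G → ℂ) : ℝ) * ((X χ : ℝ) / (deg (χ : G → ℂ) : ℝ) - 1 / N) ^ 2
    have hsum : ∑ χ, f χ = 0 := by
      have hd0 : ∀ χ : IrrCharacter G, (deg (χ : G → ℂ) : ℝ) ≠ 0 := fun χ =>
        Nat.cast_ne_zero.2 (deg_pos χ.2).ne'
      have h1 : ∑ χ : IrrCharacter G, (cm χ : ℝ) * (X χ : ℝ) ^ 2 / (deg (χ : G → ℂ) : ℝ) =
          (2 * r * M : ℝ) / N := by
        refine Complex.ofReal_injective ?_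
        push_cast
        exact hpair
      have h2 : ∑ χ : IrrCharacter G, (cm χ : ℝ) * (X χ : ℝ) = 2 * r * M := by exact_mod_cast hd
      have h3 : ∑ χ : IrrCharacter G, (cm χ : ℝ) * (deg (χ : G → ℂ) : ℝ) = N * (2 * r * M) := by
        refine Complex.ofReal_injective ?_
        push_cast
        rw [← hy]
        exact Finset.sum_congr rfl fun χ _ => by rw [char_one_eq_deg (irr_isCharacter χ.2)]
      rw [Finset.sum_congr rfl (g := fun χ : IrrCharacter G => (cm χ : ℝ) * (X χ : ℝ) ^ 2 / (deg (χ : G → ℂ) : ℝ) -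
        2 / N * ((cm χ : ℝ) * (X χ : ℝ)) + 1 / (N : ℝ) ^ 2 * ((cm χ : ℝ) * (deg (χ : G → ℂ) : ℝ))) fun χ _ => by
          have := hd0 χ
          simp only [f]
          field_simp
          ring,
        Finset.sum_add_distrib, Finset.sum_sub_distrib, ← Finset.mul_sum, ← Finset.mul_sum, h1, h2, h3]
      have : (N : ℝ) ≠ 0 := Nat.cast_ne_zero.2 hN.ne'
      field_simp
      ring
    have hnn : ∀ χ ∈ Finset.univ, 0 ≤ f χ := fun χ _ =>
      mul_nonneg (mul_nonneg (Nat.cast_nonneg _) (Nat.cast_nonneg _)) (sq_nonneg _)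
    have hz0 : f χ₀ = 0 := (Finset.sum_eq_zero_iff_of_nonneg hnn).1 hsum χ₀ (Finset.mem_univ _)
    have hd0 : (deg (χ₀ : G → ℂ) : ℝ) ≠ 0 := Nat.cast_ne_zero.2 (deg_pos χ₀.2).ne'
    have hN0 : (N : ℝ) ≠ 0 := Nat.cast_ne_zero.2 hN.ne'
    simp only [f, mul_eq_zero, pow_eq_zero_iff two_ne_zero, hd0, Nat.cast_ne_zero.2 hχ₀, false_or,
      sub_eq_zero] at hz0
    rw [div_eq_div_iff hd0 hN0, one_mul] at hz0
    have h' : (deg (χ₀ : G → ℂ) : ℝ) = N * X χ₀ := by rw [← hz0, mul_comm]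
    exact_mod_cast h'
  have hXpos : ∀ χ : IrrCharacter G, cm χ ≠ 0 → 1 ≤ X χ := fun χ hχ => by
    by_contra hlt
    push Not at hlt
    have h1 := hprop χ hχ
    have h2 : (0 : ℤ) < deg (χ : G → ℂ) := by exact_mod_cast deg_pos χ.2
    nlinarith
  -- the number of points modulo the order of the torus
  obtain ⟨q, hq⟩ : ∃ q : ℤ, (N : ℤ) = 2 + (Nat.card Γ : ℤ) * q := by
    haveI := Fintype.ofFinite (G ⧸ H)
    haveI := Fintype.ofFinite (MulAction.orbitRel.Quotient Γ (G ⧸ H))
    have h := MulAction.sum_card_fixedBy_eq_card_orbits_mul_card_group Γ (G ⧸ H)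
    have hfix : ∀ g : Γ, g ≠ 1 → Fintype.card (MulAction.fixedBy (G ⧸ H) g) = 2 := fun g hg => by
      have hg' : (g : G) ≠ 1 := fun e => hg (Subtype.ext e)
      rw [← Nat.card_eq_fintype_card]
      have e : MulAction.fixedBy (G ⧸ H) g = ({c, a} : Set (G ⧸ H)) := hT.hfix g g.2 hg'
      rw [e, Nat.card_coe_set_eq, Set.ncard_pair hT.hca.symm]
    rw [← Finset.add_sum_erase _ _ (Finset.mem_univ (1 : Γ)),
      Finset.sum_congr rfl fun g hg => hfix g (Finset.ne_of_mem_erase hg), Finset.sum_const,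
      Finset.card_erase_of_mem (Finset.mem_univ _), Finset.card_univ, smul_eq_mul,
      ← Nat.card_eq_fintype_card, ← Nat.card_eq_fintype_card, ← Nat.card_eq_fintype_card,
      MulAction.fixedBy_one_eq_univ, Nat.card_univ] at h
    have h' : (N : ℤ) + ((Nat.card Γ : ℤ) - 1) * 2 =
        (Nat.card (MulAction.orbitRel.Quotient Γ (G ⧸ H)) : ℤ) * Nat.card Γ := by
      have h'' : N + (Nat.card Γ - 1) * 2 = Nat.card (MulAction.orbitRel.Quotient Γ (G ⧸ H)) * Nat.card Γ := h
      have hpos : 1 ≤ Nat.card Γ := Nat.card_pos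
      have := congrArg (fun n : ℕ => (n : ℤ)) h''
      push_cast [Nat.cast_sub hpos] at this
      linarith
    exact ⟨(Nat.card (MulAction.orbitRel.Quotient Γ (G ⧸ H)) : ℤ) - 2, by linear_combination h'⟩
  -- the trivial character
  have hcO : cm (trivIrr G) = 0 := by
    have h := hcm (trivIrr G)
    rw [show bigP c = indFun (St c) (psi c) from rfl,
      frobenius (St c) _ (isClassFunction_character (irr_isCharacter (trivIrr G).2))] at h
    have h' : ((0 : ℕ) : ℂ) = cm (trivIrr G) := by rw [Nat.cast_zero, ← hψ1]; exact h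
    exact_mod_cast h'.symm
  -- column orthogonality
  have hcol : ∑ χ : IrrCharacter G, (χ : G → ℂ) γ * conj ((χ : G → ℂ) γ) = (Nat.card Γ : ℂ) := by
    rw [second_orth, if_pos (IsConj.refl γ)]
    have hC : Subgroup.centralizer ({γ} : Set G) = Γ := by
      refine le_antisymm (fun g hg => ?_) fun g hg => Subgroup.mem_centralizer_singleton_iff.2 (hT.hab g hg γ hγ)
      have hgc : g * γ * g⁻¹ = γ := by rw [Subgroup.mem_centralizer_singleton_iff.1 hg, mul_inv_cancel_right]
      obtain ⟨δ, hδ, b, hb, rfl⟩ := hF.ti γ hγ hγ1 g (by rw [hgc]; exact hγ)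
      have hb1 : b * γ * b⁻¹ = γ := by
        calc b * γ * b⁻¹ = δ⁻¹ * (δ * b * γ * (δ * b)⁻¹) * δ := by group
          _ = δ⁻¹ * γ * δ := by rw [hgc]
          _ = γ := by rw [mul_assoc, hT.hab γ hγ δ hδ, inv_mul_cancel_left]
      rw [(hF.free b hb γ hγ hb1).resolve_right hγ1, mul_one]
      exact hδ
    rw [← card_conjClass_mul_centralizer γ, hC, Nat.cast_mul]
    exact mul_div_cancel_left₀ _ (Nat.cast_ne_zero.2 (card_conjClass_ne_zero γ))
  set T₀ := (Finset.univ.image μ)ᶜ with hT₀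
  have hsplit : ∀ f : IrrCharacter G → ℂ, ∑ χ, f χ = ∑ χ ∈ T₀, f χ + ∑ i, f (μ i) := fun f =>
    sum_split_image μ hμinj f
  have hout : ∀ χ ∈ T₀, (χ : G → ℂ) γ = z χ ∧ (χ : G → ℂ) 1 = z χ + v χ * (Nat.card Γ : ℂ) := fun χ hχ => by
    have hne : ∀ i, μ i ≠ χ := fun i e =>
      Finset.mem_compl.1 hχ (Finset.mem_image.2 ⟨i, Finset.mem_univ _, e⟩)
    refine ⟨?_, ?_⟩
    · rw [hval, Finset.sum_eq_zero fun i _ => if_neg (hne i), mul_zero, add_zero]
    · rw [hdeg, Finset.sum_eq_zero fun i _ => if_neg (hne i), mul_zero, add_zero]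
  have hin : ∀ i, (μ i : G → ℂ) γ = z (μ i) + ε * S i ∧
      (μ i : G → ℂ) 1 = z (μ i) + v (μ i) * (Nat.card Γ : ℂ) + ε * (2 * r) := fun i => by
    refine ⟨?_, ?_⟩
    · rw [hval, Finset.sum_eq_single i (fun j _ hj => if_neg fun e => hj (hμinj e))
        (fun h => absurd (Finset.mem_univ _) h), if_pos rfl]
    · rw [hdeg, Finset.sum_eq_single i (fun j _ hj => if_neg fun e => hj (hμinj e))
        (fun h => absurd (Finset.mem_univ _) h), if_pos rfl]
  set i₀ : Fin M := ⟨0, hM0⟩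
  set e := z (μ i₀)
  have hze : ∀ i, z (μ i) = e := fun i => by
    have h := (hμeq i i₀).2.2.1
    rw [(hin i).1, (hin i₀).1] at h
    exact Int.cast_injective (α := ℂ) (by linear_combination h)
  have hcμ : ∀ i, cm (μ i) = cm (μ i₀) := fun i => by
    have h := (hμeq i i₀).2.2.2 (bigP c) (isClassFunction_indFun _ _) fun f hf hf1 => hT.bigP_gamma hu huc hf hf1
    rw [hcm, hcm] at h
    exact_mod_cast h
  have hXμ : ∀ i, X (μ i) = X (μ i₀) := fun i => by
    have h := (hμeq i i₀).2.1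
    rw [hX, hX] at h
    exact_mod_cast h
  have hsq : ∑ χ ∈ T₀, z χ ^ 2 + (M * e ^ 2 - 2 * ε * e) + ε ^ 2 * (2 * r * M + 1 - 2 * r) = 2 * r * M + 1 := by
    have hS1' : ∑ i, conj (S i) = -1 := by rw [← map_sum, hS1, map_neg, map_one]
    have h := hcol
    rw [hsplit, Finset.sum_congr rfl (g := fun χ => (z χ : ℂ) ^ 2) fun χ hχ => by
        rw [(hout χ hχ).1, map_intCast, pow_two],
      Finset.sum_congr rfl (g := fun i => (e : ℂ) ^ 2 + (e : ℂ) * ε * S i + (e : ℂ) * ε * conj (S i) +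
        (ε : ℂ) ^ 2 * (S i * conj (S i))) fun i _ => by
        rw [(hin i).1, hze, map_add, map_mul, map_intCast, map_intCast]; ring,
      Finset.sum_add_distrib, Finset.sum_add_distrib, Finset.sum_add_distrib, ← Finset.mul_sum, ← Finset.mul_sum,
      ← Finset.mul_sum, hS1, hS1', hS2, Finset.sum_const, Finset.card_univ, Fintype.card_fin, nsmul_eq_mul,
      hm] at h
    refine Int.cast_injective (α := ℂ) ?_
    push_cast
    linear_combination h
  have hvz : ∑ χ ∈ T₀, (cm χ : ℤ) * z χ + cm (μ i₀) * (M * e - ε) = -2 := by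
    have h := hv
    rw [hsplit, Finset.sum_congr rfl (g := fun χ => (cm χ : ℂ) * (z χ : ℂ)) fun χ hχ => by rw [(hout χ hχ).1],
      Finset.sum_congr rfl (g := fun i => (cm (μ i₀) : ℂ) * e + (cm (μ i₀) : ℂ) * ε * S i) fun i _ => by
        rw [(hin i).1, hze, hcμ]; ring,
      Finset.sum_add_distrib, Finset.sum_const, Finset.card_univ, Fintype.card_fin, nsmul_eq_mul,
      ← Finset.mul_sum, hS1] at h
    refine Int.cast_injective (α := ℂ) ?_
    push_cast
    linear_combination h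
  have hdk : ∑ χ ∈ T₀, (cm χ : ℤ) * X χ + M * cm (μ i₀) * X (μ i₀) = 2 * r * M := by
    have h := hd
    rw [sum_split_image μ hμinj, ← hT₀,
      Finset.sum_congr (s₁ := (Finset.univ : Finset (Fin M))) rfl (g := fun _ => (cm (μ i₀) : ℤ) * X (μ i₀)) fun i _ => by rw [hcμ, hXμ],
      Finset.sum_const, Finset.card_univ, Fintype.card_fin, nsmul_eq_mul] at h
    linear_combination h
  have hnn' : ∑ χ ∈ T₀, (cm χ : ℤ) ^ 2 + M * (cm (μ i₀) : ℤ) ^ 2 = 1 + 2 * M := by
    have h := hnorm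
    rw [sum_split_image μ hμinj, ← hT₀,
      Finset.sum_congr (s₁ := (Finset.univ : Finset (Fin M))) rfl (g := fun _ => (cm (μ i₀) : ℤ) ^ 2) fun i _ => by
        rw [hcμ],
      Finset.sum_const, Finset.card_univ, Fintype.card_fin, nsmul_eq_mul] at h
    exact h
  -- the congruences
  set m : ℤ := (Nat.card Γ : ℤ) with hmdef
  have hm2 : m = 2 ^ r - 1 := by
    rw [hmdef, hT.hcard, Nat.cast_sub Nat.one_le_two_pow]
    push_cast
    rfl
  have hm' : m = 2 * r * M + 1 := by rw [hmdef, hmN]; push_cast; ring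
  set T := T₀.filter fun χ => cm χ ≠ 0 with hTdef
  have hTsum : ∀ f : IrrCharacter G → ℤ, (∀ χ, cm χ = 0 → f χ = 0) → ∑ χ ∈ T, f χ = ∑ χ ∈ T₀, f χ :=
    fun f hf => Finset.sum_filter_of_ne fun χ _ h h0 => h (hf χ h0)
  have hmemT : ∀ χ, χ ∈ T → χ ∈ T₀ ∧ cm χ ≠ 0 := fun χ h => Finset.mem_filter.1 h
  have hcT : ∀ χ ∈ T, 1 ≤ cm χ := fun χ h => Nat.one_le_iff_ne_zero.2 (hmemT χ h).2
  let k : IrrCharacter G → ℕ := fun χ => (X χ).toNat
  have hkT : ∀ χ, cm χ ≠ 0 → (k χ : ℤ) = X χ := fun χ h => Int.toNat_of_nonneg (by linarith [hXpos χ h])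
  have hk1 : ∀ χ ∈ T, 1 ≤ k χ := fun χ h => by
    have h1 := hXpos χ (hmemT χ h).2
    have h2 := hkT χ (hmemT χ h).2
    omega
  let j : IrrCharacter G → ℤ := fun χ => v χ - q * X χ
  have hjT : ∀ χ ∈ T, 2 * (k χ : ℤ) = z χ + m * j χ := fun χ h => by
    obtain ⟨h0, hc0⟩ := hmemT χ h
    have h1 := (hout χ h0).2
    rw [char_one_eq_deg (irr_isCharacter χ.2)] at h1
    have h2 : (deg (χ : G → ℂ) : ℤ) = z χ + v χ * m := by
      refine Int.cast_injective (α := ℂ) ?_
      rw [hmdef]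
      push_cast
      exact h1
    rw [hkT χ hc0]
    simp only [j]
    linear_combination h2 - hprop χ hc0 - X χ * hq
  have hcz : ∑ χ ∈ T, (cm χ : ℤ) * z χ = ∑ χ ∈ T₀, (cm χ : ℤ) * z χ := hTsum _ fun χ h => by simp [h]
  have hck : ∑ χ ∈ T, (cm χ : ℤ) * k χ = ∑ χ ∈ T₀, (cm χ : ℤ) * X χ := by
    rw [← hTsum (fun χ => (cm χ : ℤ) * X χ) fun χ h => by simp [h]]
    exact Finset.sum_congr rfl fun χ hχ => by rw [hkT χ (hmemT χ hχ).2]
  have hcc : ∑ χ ∈ T, (cm χ : ℤ) ^ 2 = ∑ χ ∈ T₀, (cm χ : ℤ) ^ 2 := hTsum _ fun χ h => by simp [h]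
  have hzsum : ∑ χ ∈ T, z χ ^ 2 ≤ ∑ χ ∈ T₀, z χ ^ 2 :=
    Finset.sum_le_sum_of_subset_of_nonneg (Finset.filter_subset _ _) fun χ _ _ => sq_nonneg _
  have hTO : trivIrr G ∈ T₀ → ∑ χ ∈ T, z χ ^ 2 + 1 ≤ ∑ χ ∈ T₀, z χ ^ 2 := fun hO => by
    have hz1 : z (trivIrr G) = 1 := by
      refine Int.cast_injective (α := ℂ) ?_
      rw [← (hout _ hO).1, Int.cast_one]
      rfl
    have hsub : T ⊆ T₀.erase (trivIrr G) := fun χ hχ =>
      Finset.mem_erase.2 ⟨fun e => (hmemT χ hχ).2 (e ▸ hcO), (hmemT χ hχ).1⟩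
    rw [← Finset.add_sum_erase _ _ hO, hz1, one_pow, add_comm (1 : ℤ)]
    exact add_le_add_left (Finset.sum_le_sum_of_subset_of_nonneg hsub fun χ _ _ => sq_nonneg _) _
  rcases hcases with ⟨hM1, hε⟩ | ⟨hM2, hε⟩
  · -- a single orbit
    subst hε
    have hall : ∀ χ : IrrCharacter G, (χ : G → ℂ) γ = z χ ∧ (χ : G → ℂ) 1 = z χ + v χ * (Nat.card Γ : ℂ) :=
      fun χ => ⟨by rw [hval, Int.cast_zero, zero_mul, add_zero], by rw [hdeg, Int.cast_zero, zero_mul, add_zero]⟩
    set U := (Finset.univ : Finset (IrrCharacter G)).filter fun χ => cm χ ≠ 0 with hU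
    have hUsum : ∀ f : IrrCharacter G → ℤ, (∀ χ, cm χ = 0 → f χ = 0) → ∑ χ ∈ U, f χ = ∑ χ, f χ :=
      fun f hf => Finset.sum_filter_of_ne fun χ _ h h0 => h (hf χ h0)
    refine Elementary.false_of_plain (T := U) (c := cm) (k := k) (z := z) (j := j) hT.r_ge hT.hodd hM
      (fun χ h => Nat.one_le_iff_ne_zero.2 (Finset.mem_filter.1 h).2) ?_ ?_ hm2 ?_ ?_ ?_ ?_
    · intro χ h
      have h1 := hXpos χ (Finset.mem_filter.1 h).2
      have h2 := hkT χ (Finset.mem_filter.1 h).2
      omega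
    · intro χ h
      have hc0 := (Finset.mem_filter.1 h).2
      have h1 := (hall χ).2
      rw [char_one_eq_deg (irr_isCharacter χ.2)] at h1
      have h2 : (deg (χ : G → ℂ) : ℤ) = z χ + v χ * m := by
        refine Int.cast_injective (α := ℂ) ?_
        rw [hmdef]
        push_cast
        exact h1
      rw [hkT χ hc0]
      simp only [j]
      linear_combination h2 - hprop χ hc0 - X χ * hq
    · rw [hUsum _ fun χ h => by simp [h]]
      refine Int.cast_injective (α := ℂ) ?_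
      push_cast
      rw [← hv]
      exact Finset.sum_congr rfl fun χ _ => by rw [(hall χ).1]
    · rw [Finset.sum_congr rfl (g := fun χ => (cm χ : ℤ) * X χ) fun χ hχ => by
          rw [hkT χ (Finset.mem_filter.1 hχ).2], hUsum _ fun χ h => by simp [h], hd, hm']
      ring
    · rw [hUsum _ fun χ h => by simp [h], hnorm]
    · have hsub : U ⊆ Finset.univ.erase (trivIrr G) := fun χ hχ =>
        Finset.mem_erase.2 ⟨fun e => (Finset.mem_filter.1 hχ).2 (e ▸ hcO), Finset.mem_univ _⟩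
      refine (Finset.sum_le_sum_of_subset_of_nonneg hsub fun χ _ _ => sq_nonneg _).trans ?_
      have hz1 : z (trivIrr G) = 1 := by
        refine Int.cast_injective (α := ℂ) ?_
        rw [← (hall _).1, Int.cast_one]
        rfl
      have h := sum_split_image μ hμinj fun χ => z χ ^ 2
      rw [← hT₀, Finset.sum_congr (s₁ := (Finset.univ : Finset (Fin M))) rfl (g := fun _ => e ^ 2) fun i _ => by rw [hze i],
        Finset.sum_const, Finset.card_univ, Fintype.card_fin, nsmul_eq_mul,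
        ← Finset.add_sum_erase _ _ (Finset.mem_univ (trivIrr G)), hz1] at h
      rw [hM1] at hsq h
      push_cast at hsq h
      linarith
  have hB0 : ∑ χ ∈ T₀, z χ ^ 2 + (M * e ^ 2 - 2 * ε * e) = 2 * r := by
    have hε2 : ε ^ 2 = 1 := by rcases hε with rfl | rfl <;> norm_num
    rw [hε2] at hsq
    linarith
  by_cases hμ0 : cm (μ i₀) = 0
  · -- no exceptional constituent
    rw [hμ0] at hvz hdk hnn'
    refine Elementary.false_of_plain (T := T) (c := cm) (k := k) (z := z) (j := j) hT.r_ge hT.hodd hM hcT hk1 hjT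
      hm2 ?_ ?_ ?_ ?_
    · rw [hcz]; simpa using hvz
    · rw [hck, hm']
      push_cast at hdk
      linarith
    · rw [hcc]
      push_cast at hnn'
      linarith
    · have hpos : 0 ≤ M * e ^ 2 - 2 * ε * e := by
        have hM2' : (2 : ℤ) ≤ M := by exact_mod_cast hM2
        have h1 : 2 * e ^ 2 ≤ M * e ^ 2 := mul_le_mul_of_nonneg_right hM2' (sq_nonneg e)
        have h2 : 0 ≤ e ^ 2 - ε * e := by
          rcases hε with rfl | rfl
          · rcases le_or_gt e 0 with h | h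
            · nlinarith only [h, sq_nonneg e]
            · nlinarith only [show 1 ≤ e by omega]
          · rcases le_or_gt 0 e with h | h
            · nlinarith only [h, sq_nonneg e]
            · nlinarith only [show e ≤ -1 by omega]
        linarith
      linarith
  · have hO : trivIrr G ∈ T₀ := by
      rw [hT₀, Finset.mem_compl, Finset.mem_image]
      rintro ⟨i, -, hi⟩
      exact hμ0 (by rw [← hcμ i, hi, hcO])
    have hXk := hkT _ hμ0
    refine Elementary.false_of_exceptional (T := T) (c := cm) (k := k) (z := z) (j := j) (μ := cm (μ i₀))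
      (k0 := k (μ i₀)) (j0 := v (μ i₀) - q * X (μ i₀)) (e := e) (ε := ε) hT.r_ge hT.hodd hM hM2 hcT hk1 hjT hm2
      (Nat.one_le_iff_ne_zero.2 hμ0) ?_ hε ?_ ?_ ?_ ?_ ?_
    · have := hXpos _ hμ0
      omega
    · have h1 := (hin i₀).2
      rw [char_one_eq_deg (irr_isCharacter (μ i₀).2)] at h1
      have h2 : (deg (μ i₀ : G → ℂ) : ℤ) = e + v (μ i₀) * m + ε * (2 * r) := by
        refine Int.cast_injective (α := ℂ) ?_
        rw [hmdef]
        push_cast
        exact h1
      rw [hXk]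
      linear_combination h2 - hprop _ hμ0 - X (μ i₀) * hq
    · rw [hcz]; exact hvz
    · rw [hck, hXk, hm']
      linarith
    · rw [hcc]; exact hnn'
    · have := hTO hO
      linarith

end Torus

end Cfsg.Agent.SEB
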