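import Cfsg.Agent.Lib.Bender.Solvable.ElementaryBase

/-!
# Solvability of a strongly embedded subgroup: small suborbits in the elementary case

If the stabiliser of `t` has the orbits of `⟨x⟩` on the involutions at `c`, an element fixing `t` and
one more involution fixes more than half of them, hence all.
-/

set_option autoImplicit false
set_option linter.style.haveILetI false
set_option linter.unusedSectionVars false

namespace Cfsg.Agent.SEB

open Cfsg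
open Cfsg.Agent.Fusion.SEPairs

universe u

theorem pair_count_lt {r : ℕ} (hr : 3 ≤ r) : (r - 1) * (r - 2) < 2 ^ (r - 1) := by
  induction r, hr using Nat.le_induction with
  | base => norm_num
  | succ n hn ih =>
    obtain ⟨k, rfl⟩ : ∃ k, n = k + 3 := ⟨n - 3, by omega⟩
    rw [show k + 3 + 1 - 1 = k + 2 + 1 by omega, show k + 3 + 1 - 2 = k + 2 by omega, pow_succ]
    rw [show k + 3 - 1 = k + 2 by omega, show k + 3 - 2 = k + 1 by omega] at ih
    rcases Nat.lt_or_ge k 1 with hk | hk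
    · interval_cases k; norm_num
    · nlinarith

variable {G : Type u} [Group G] [Finite G] {H : Subgroup G} {c a : G ⧸ H} {Γ : Subgroup G} {x t : G} {r : ℕ}
  (hT : Torus H c a Γ x t r)
include hT

/-- An element fixing `t` and a second involution, with small suborbits, fixes all. -/
theorem fix_all (horb : ∀ g : G, g • c = c → g * t * g⁻¹ = t → ∀ s : G, orderOf s = 2 → s • c = c →
      ∃ z ∈ Subgroup.zpowers x, z * s * z⁻¹ = g * s * g⁻¹)
    {g ω : G} (hω : ω ∈ Γ) (hω1 : ω ≠ 1) (hgc : g • c = c) (hgt : g * t * g⁻¹ = t)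
    (hgω : g * (ω * t * ω⁻¹) * g⁻¹ = ω * t * ω⁻¹) {s : G} (hs : orderOf s = 2) (hsc : s • c = c) :
    Commute g s := by
  classical
  set C := Subgroup.zpowers x with hC
  have hinj : ∀ γ ∈ Γ, ∀ δ ∈ Γ, γ * t * γ⁻¹ = δ * t * δ⁻¹ → γ = δ := by
    intro γ hγ δ hδ e
    refine (inv_mul_eq_one.1 ?_).symm
    by_contra hne
    refine hT.hfree _ (Γ.mul_mem (Γ.inv_mem hδ) hγ) hne t hT.ht hT.htc ?_
    show δ⁻¹ * γ * t = t * (δ⁻¹ * γ)
    calc δ⁻¹ * γ * t = δ⁻¹ * (γ * t * γ⁻¹) * γ := by group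
      _ = δ⁻¹ * (δ * t * δ⁻¹) * γ := by rw [e]
      _ = _ := by group
  have hCD : C ≤ St2 c a := Subgroup.zpowers_le.2 hT.x_mem
  have hzt : ∀ z ∈ C, z⁻¹ * t * z = t := fun z hz => by
    rw [mul_assoc, ← (hT.zpowers_comm hz).eq, inv_mul_cancel_left]
  have hconj : ∀ z ∈ C, ∀ γ : G, z * (γ * t * γ⁻¹) * z⁻¹ = z * γ * z⁻¹ * t * (z * γ * z⁻¹)⁻¹ := fun z hz γ => by
    calc z * (γ * t * γ⁻¹) * z⁻¹ = z * γ * z⁻¹ * (z * t * z⁻¹) * (z * γ * z⁻¹)⁻¹ := by group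
      _ = _ := by rw [(hT.zpowers_comm hz).eq, mul_inv_cancel_right]
  have hωc : ω • c = c := (hT.gamma_le hω).1
  have hδc : ∀ δ : Γ, orderOf ((δ : G) * t * (δ : G)⁻¹) = 2 ∧ ((δ : G) * t * (δ : G)⁻¹) • c = c := fun δ =>
    smul_involSet (hT.gamma_le δ.2).1 ⟨hT.ht, hT.htc⟩
  -- each involution moved by `g` comes from a pair of distinct non-trivial powers
  have hpair : ∀ δ : Γ, g * ((δ : G) * t * (δ : G)⁻¹) * g⁻¹ ≠ (δ : G) * t * (δ : G)⁻¹ →
      ∃ σ τ : C, σ ≠ 1 ∧ τ ≠ 1 ∧ σ ≠ τ ∧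
        ω⁻¹ * ((σ : G) * δ * (σ : G)⁻¹) = (τ : G) * (ω⁻¹ * δ) * (τ : G)⁻¹ := by
    intro δ hne
    obtain ⟨σ, hσ, eσ⟩ := horb g hgc hgt _ (hδc δ).1 (hδc δ).2
    rw [hconj σ hσ] at eσ
    have hk : ω⁻¹ * g * ω * t * (ω⁻¹ * g * ω)⁻¹ = t := by
      calc ω⁻¹ * g * ω * t * (ω⁻¹ * g * ω)⁻¹ = ω⁻¹ * (g * (ω * t * ω⁻¹) * g⁻¹) * ω := by group
        _ = ω⁻¹ * (ω * t * ω⁻¹) * ω := by rw [hgω]
        _ = t := by group
    have hkc : (ω⁻¹ * g * ω) • c = c := by rw [mul_smul, mul_smul, hωc, hgc, inv_smul_eq_iff.2 hωc.symm]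
    have hδ' : ω⁻¹ * (δ : G) ∈ Γ := Γ.mul_mem (Γ.inv_mem hω) δ.2
    obtain ⟨τ, hτ, eτ⟩ := horb _ hkc hk _ (hδc ⟨_, hδ'⟩).1 (hδc ⟨_, hδ'⟩).2
    rw [hconj τ hτ] at eτ
    have e1 : ω⁻¹ * g * ω * (ω⁻¹ * (δ : G) * t * (ω⁻¹ * (δ : G))⁻¹) * (ω⁻¹ * g * ω)⁻¹ =
        ω⁻¹ * (σ * δ * σ⁻¹) * t * (ω⁻¹ * (σ * δ * σ⁻¹))⁻¹ := by
      calc _ = ω⁻¹ * (g * ((δ : G) * t * (δ : G)⁻¹) * g⁻¹) * ω := by group
        _ = ω⁻¹ * (σ * δ * σ⁻¹ * t * (σ * δ * σ⁻¹)⁻¹) * ω := by rw [eσ]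
        _ = _ := by group
    have hσδ : σ * (δ : G) * σ⁻¹ ∈ Γ := hT.conj_mem (hCD hσ) δ.2
    have key : ω⁻¹ * (σ * δ * σ⁻¹) = τ * (ω⁻¹ * δ) * τ⁻¹ :=
      hinj _ (Γ.mul_mem (Γ.inv_mem hω) hσδ) _ (hT.conj_mem (hCD hτ) hδ') (by rw [← e1]; exact eτ.symm)
    have hσ1 : σ ≠ 1 := fun e => hne (by rw [← eσ, e, one_mul, inv_one, mul_one])
    refine ⟨⟨σ, hσ⟩, ⟨τ, hτ⟩, fun e => hσ1 (congrArg Subtype.val e), fun e => ?_, fun e => ?_, key⟩
    · have hτ1 : τ = 1 := congrArg Subtype.val e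
      rw [hτ1, one_mul, inv_one, mul_one] at key
      rcases hT.fpf hσ δ.2 (mul_left_cancel key) with h | h
      · exact hσ1 h
      · refine hne ?_
        rw [h, one_mul, inv_one, mul_one, hgt]
    · have e' : σ = τ := congrArg Subtype.val e
      rw [e'] at key
      have h1 : τ * ω⁻¹ * τ⁻¹ = ω⁻¹ := by
        have h2 : τ * ω⁻¹ * τ⁻¹ * (τ * δ * τ⁻¹) = ω⁻¹ * (τ * δ * τ⁻¹) := by
          rw [key]; group
        exact mul_right_cancel h2
      rcases hT.fpf hτ (Γ.inv_mem hω) h1 with h | h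
      · exact hσ1 (e'.trans h)
      · exact hω1 (inv_eq_one.1 h)
  set B := {δ : Γ // g * ((δ : G) * t * (δ : G)⁻¹) * g⁻¹ ≠ (δ : G) * t * (δ : G)⁻¹}
  choose σ τ hσ1 hτ1 hστ hkey using fun δ : B => hpair δ.1 δ.2
  haveI := Fintype.ofFinite C
  have hB : Nat.card B ≤ (r - 1) * (r - 2) := by
    have hoff : ((Finset.univ : Finset C).erase 1).offDiag.card = (r - 1) * (r - 2) := by
      rw [Finset.offDiag_card, Finset.card_erase_of_mem (Finset.mem_univ _), Finset.card_univ,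
        ← Nat.card_eq_fintype_card, Nat.card_zpowers, hT.hxo, show r - 2 = r - 1 - 1 by omega]
      generalize r - 1 = q
      rw [Nat.mul_sub, mul_one]
    rw [← hoff, ← Fintype.card_coe, ← Nat.card_eq_fintype_card]
    refine Nat.card_le_card_of_injective (fun δ : B => (⟨(σ δ, τ δ), Finset.mem_offDiag.2
      ⟨Finset.mem_erase.2 ⟨hσ1 δ, Finset.mem_univ _⟩, Finset.mem_erase.2 ⟨hτ1 δ, Finset.mem_univ _⟩,
        hστ δ⟩⟩ : {p // p ∈ ((Finset.univ : Finset C).erase 1).offDiag})) fun δ δ' e => ?_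
    have eσ : σ δ = σ δ' := congrArg (fun p => p.1.1) e
    have eτ : τ δ = τ δ' := congrArg (fun p => p.1.2) e
    have k1 := hkey δ
    have k2 := hkey δ'
    rw [← eσ, ← eτ] at k2
    set s₀ := (σ δ : G)
    set t₀ := (τ δ : G)
    have h1 : (t₀⁻¹ * s₀) * ((δ.1 : G) * (δ'.1 : G)⁻¹) * (t₀⁻¹ * s₀)⁻¹ = (δ.1 : G) * (δ'.1 : G)⁻¹ := by
      calc (t₀⁻¹ * s₀) * ((δ.1 : G) * (δ'.1 : G)⁻¹) * (t₀⁻¹ * s₀)⁻¹
          = t₀⁻¹ * (ω * (ω⁻¹ * (s₀ * δ.1 * s₀⁻¹)) * (ω⁻¹ * (s₀ * δ'.1 * s₀⁻¹))⁻¹ * ω⁻¹) * t₀ := by group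
        _ = t₀⁻¹ * (ω * (t₀ * (ω⁻¹ * δ.1) * t₀⁻¹) * (t₀ * (ω⁻¹ * δ'.1) * t₀⁻¹)⁻¹ * ω⁻¹) * t₀ := by rw [k1, k2]
        _ = (t₀⁻¹ * ω * t₀) * (ω⁻¹ * ((δ.1 : G) * (δ'.1 : G)⁻¹) * ω) * (t₀⁻¹ * ω * t₀)⁻¹ := by group
        _ = _ := by
          have hω' : t₀⁻¹ * ω * t₀ ∈ Γ := by
            have := hT.conj_mem ((St2 c a).inv_mem (hCD (τ δ).2)) hω
            rwa [inv_inv] at this
          have hp : (δ.1 : G) * (δ'.1 : G)⁻¹ ∈ Γ := Γ.mul_mem δ.1.2 (Γ.inv_mem δ'.1.2)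
          rw [show ω⁻¹ * ((δ.1 : G) * (δ'.1 : G)⁻¹) * ω = (δ.1 : G) * (δ'.1 : G)⁻¹ by
              rw [mul_assoc, hT.hab _ hp ω hω, inv_mul_cancel_left],
            hT.hab _ hω' _ hp, mul_inv_cancel_right]
    rcases hT.fpf (C.mul_mem (C.inv_mem (τ δ).2) (σ δ).2) (Γ.mul_mem δ.1.2 (Γ.inv_mem δ'.1.2)) h1 with h | h
    · exact absurd (Subtype.ext (inv_mul_eq_one.1 h).symm) (hστ δ)
    · exact Subtype.ext (Subtype.ext (mul_inv_eq_one.1 h))
  set F₀ := Ec c ⊓ Subgroup.centralizer ({g} : Set G)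
  have hEc : ∀ p q : G, orderOf p = 2 → orderOf q = 2 → p • c = c → q • c = c → Commute p q := hT.hcomm
  have hEcard : Nat.card ↥(Ec c) ≤ 2 ^ r := by
    haveI : Finite {s : G // orderOf s = 2 ∧ s • c = c} := inferInstance
    let f : ↥(Ec c) → Option {s : G // orderOf s = 2 ∧ s • c = c} := fun z =>
      if h : (z : G) = 1 then none else some ⟨z, orderOf_eq_prime (by
        rw [pow_two]; exact ((mem_Ec hEc).1 z.2).2) h, ((mem_Ec hEc).1 z.2).1⟩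
    have hf : Function.Injective f := fun z w e => by
      simp only [f] at e
      split_ifs at e with h1 h2
      · exact Subtype.ext (h1.trans h2.symm)
      · exact Subtype.ext (congrArg (fun s => s.1) (Option.some.inj e))
    refine (Nat.card_le_card_of_injective f hf).trans ?_
    rw [Finite.card_option, Bender.card_fixing c, hT.hnum]
    have := Nat.one_le_two_pow (n := r)
    omega
  have hF0 : 1 + (Nat.card Γ - Nat.card B) ≤ Nat.card F₀ := by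
    set Gd := {δ : Γ // ¬ g * ((δ : G) * t * (δ : G)⁻¹) * g⁻¹ ≠ (δ : G) * t * (δ : G)⁻¹}
    have hGd : Nat.card Gd + Nat.card B = Nat.card Γ := by
      rw [add_comm, ← Nat.card_sum, Nat.card_congr (Equiv.sumCompl _)]
    let f : Option Gd → F₀ := fun o => o.elim 1 fun δ =>
      ⟨(δ.1 : G) * t * (δ.1 : G)⁻¹, Subgroup.subset_closure (hδc δ.1),
        Subgroup.mem_centralizer_singleton_iff.2 (mul_inv_eq_iff_eq_mul.1 (not_not.1 δ.2)).symm⟩
    have hf : Function.Injective f := by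
      rintro (_ | δ) (_ | δ') e
      · rfl
      · exact absurd (congrArg Subtype.val e).symm (ne_one_of_invol (hδc δ'.1).1)
      · exact absurd (congrArg Subtype.val e) (ne_one_of_invol (hδc δ.1).1)
      · exact congrArg some (Subtype.ext (Subtype.ext (hinj _ δ.1.2 _ δ'.1.2 (congrArg Subtype.val e))))
    have h1 := Nat.card_le_card_of_injective f hf
    rw [Finite.card_option] at h1
    omega
  have hle : Ec c ≤ F₀ := by
    by_contra hnot
    have hd : Nat.card ↥F₀ ∣ Nat.card ↥(Ec c) := Subgroup.card_dvd_of_le inf_le_left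
    have hlt : Nat.card F₀ < Nat.card ↥(Ec c) := (Subgroup.card_le_of_le inf_le_left).lt_of_ne fun e =>
      hnot (Subgroup.eq_of_le_of_card_ge inf_le_left e.ge).ge
    obtain ⟨k, hk⟩ := hd
    have hk2 : 2 ≤ k := by
      rcases k with _ | _ | k
      · rw [hk] at hlt; omega
      · rw [hk] at hlt; omega
      · omega
    have h2 : 2 * Nat.card F₀ ≤ 2 ^ r := le_trans (le_trans (by rw [mul_comm]; exact Nat.mul_le_mul_left _ hk2)
      hk.ge) hEcard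
    have hr3 : 3 ≤ r := by
      obtain ⟨i, hi⟩ := hT.hodd
      have := hT.hr.two_le
      omega
    have h3 := pair_count_lt hr3
    have hpow : 2 ^ r = 2 * 2 ^ (r - 1) := by rw [← pow_succ', show r - 1 + 1 = r by omega]
    rw [hT.hcard] at hF0
    omega
  exact (Subgroup.mem_centralizer_singleton_iff.1
    (hle (Subgroup.subset_closure (show orderOf s = 2 ∧ s • c = c from ⟨hs, hsc⟩))).2).symm

/-- Small suborbits, or transitive on the involutions different from `t`. -/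
theorem image_or_transitive :
    (∀ h ∈ St c, ∃ d ∈ St2 c a, ∀ s : G, orderOf s = 2 → s • c = c → Commute (d⁻¹ * h) s) ∨
      ∀ s s' : G, orderOf s = 2 → orderOf s' = 2 → s • c = c → s' • c = c → s ≠ t → s' ≠ t →
        ∃ g : G, g • c = c ∧ g * t * g⁻¹ = t ∧ g * s * g⁻¹ = s' := by
  classical
  let Ωc := {s : G // orderOf s = 2 ∧ s • c = c}
  letI : MulAction ↥(St c) Ωc :=
    { smul := fun w s => ⟨(w : G) * s.1 * (w : G)⁻¹, smul_involSet w.2 s.2⟩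
      one_smul := fun s => Subtype.ext (by show (1 : G) * s.1 * (1 : G)⁻¹ = s.1; group)
      mul_smul := fun w v s => Subtype.ext (by
        show (w : G) * v * s.1 * ((w : G) * v)⁻¹ = w * (v * s.1 * (v : G)⁻¹) * (w : G)⁻¹; group) }
  have hsm : ∀ (w : ↥(St c)) (s : Ωc), ((w • s : Ωc) : G) = (w : G) * s.1 * (w : G)⁻¹ := fun _ _ => rfl
  set p : Ωc := ⟨t, hT.ht, hT.htc⟩
  set D' := (St2 c a).subgroupOf (St c)
  set F' := Γ.subgroupOf (St c)
  have hfixp : ∀ d : ↥(St c), d • p = p → (d : G) * t * (d : G)⁻¹ = t := fun d h => by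
    rw [← hsm d p, h]
  have hstab : ∀ d : ↥(St c), (d : G) ∈ St2 c a → d • p = p → (d : G) ∈ Subgroup.zpowers x := by
    intro d hd h
    obtain ⟨γ, hγ, z, hz, e⟩ := hT.decomp hd
    have h' := hfixp d h
    rw [e, show γ * z * t * (γ * z)⁻¹ = γ * (z * t * z⁻¹) * γ⁻¹ by group,
      (hT.zpowers_comm hz).eq, mul_inv_cancel_right] at h'
    have hγ1 : γ = 1 := by
      by_contra hne
      exact hT.hfree γ hγ hne t hT.ht hT.htc (mul_inv_eq_iff_eq_mul.1 h')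
    rw [e, hγ1, one_mul]
    exact hz
  have hFD : F' ≤ D' := fun f hf => hT.gamma_le hf
  have hres := dichotomy ↥(St c) Ωc p D' F' hFD
    (fun d hd => by
      refine Fusion.mem_normalizer_of_cj_le ?_
      rintro _ ⟨f, hf, rfl⟩
      exact hT.conj_mem hd hf)
    ⟨⟨fun f f' => Subtype.ext (Subtype.ext (hT.hab _ f.2 _ f'.2))⟩⟩
    (fun s => by
      obtain ⟨γ, hγ, e⟩ := hT.exists_gamma s.2.1 s.2.2
      exact ⟨⟨γ, (hT.gamma_le hγ).1⟩, hγ, Subtype.ext e⟩)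
    (fun f hf h => by
      by_contra hne
      exact hT.hfree f hf (fun e => hne (Subtype.ext e)) t hT.ht hT.htc (mul_inv_eq_iff_eq_mul.1 (hfixp f h)))
    (fun d hd hdp f hf e => by
      rcases hT.fpf (hstab d hd hdp) hf (congrArg Subtype.val e) with h | h
      · exact Or.inl (Subtype.ext h)
      · exact Or.inr (Subtype.ext h))
    (fun f hf hf1 h hD => by
      refine ⟨h.2, ?_⟩
      have hf1' : (f : G) ≠ 1 := fun e => hf1 (Subtype.ext e)
      have hd' : (h : G) * f * (h : G)⁻¹ ∈ St2 c a := hD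
      have hh' : ∀ e : G ⧸ H, ((h : G) * f * (h : G)⁻¹) • e = e → e = (h : G) • c ∨ e = (h : G) • a := by
        intro e he
        rw [mul_smul, mul_smul] at he
        rcases hT.two_of_mem hf hf1' _ (eq_inv_smul_iff.2 he) with h' | h'
        · exact Or.inl (inv_smul_eq_iff.1 h')
        · exact Or.inr (inv_smul_eq_iff.1 h')
      show (h : G) • a = a
      rcases hh' a hd'.2 with h' | h'
      · rw [show (h : G) • c = c from h.2] at h'
        exact absurd h' hT.hca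
      · exact h'.symm)
  rcases hres with hsmall | htrans
  · left
    have horb : ∀ g : G, g • c = c → g * t * g⁻¹ = t → ∀ s : G, orderOf s = 2 → s • c = c →
        ∃ z ∈ Subgroup.zpowers x, z * s * z⁻¹ = g * s * g⁻¹ := by
      intro g hgc hgt s hs hsc
      obtain ⟨d, hd, hdp, hds⟩ := hsmall ⟨g, hgc⟩ (Subtype.ext hgt) ⟨s, hs, hsc⟩
      exact ⟨d, hstab d hd hdp, congrArg Subtype.val hds⟩
    intro h hh
    obtain ⟨γ, hγ, hγe⟩ := hT.exists_gamma (conj_involution hT.ht h) (smul_involSet hh ⟨hT.ht, hT.htc⟩).2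
    have hg₀t : γ⁻¹ * h * t * (γ⁻¹ * h)⁻¹ = t := by
      calc γ⁻¹ * h * t * (γ⁻¹ * h)⁻¹ = γ⁻¹ * (h * t * h⁻¹) * γ := by group
        _ = γ⁻¹ * (γ * t * γ⁻¹) * γ := by rw [hγe]
        _ = t := by group
    have hg₀c : (γ⁻¹ * h) • c = c := (St c).mul_mem ((St c).inv_mem (hT.gamma_le hγ).1) hh
    haveI : Nontrivial Γ := Finite.one_lt_card_iff_nontrivial.1 (by
      rw [hT.hcard]
      have : 2 ^ 2 ≤ 2 ^ r := Nat.pow_le_pow_right (by norm_num) hT.hr.two_le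
      omega)
    obtain ⟨ω, hω1⟩ := exists_ne (1 : Γ)
    have hω1' : (ω : G) ≠ 1 := fun e => hω1 (Subtype.ext e)
    obtain ⟨z, hz, hze⟩ := horb _ hg₀c hg₀t _ (conj_involution hT.ht (ω : G))
      (smul_involSet (hT.gamma_le ω.2).1 ⟨hT.ht, hT.htc⟩).2
    refine ⟨γ * z, mul_mem (hT.gamma_le hγ) ((Subgroup.zpowers_le.2 hT.x_mem) hz), fun s hs hsc => ?_⟩
    rw [show (γ * z)⁻¹ * h = z⁻¹ * (γ⁻¹ * h) by group]
    have hzc : z • c = c := ((Subgroup.zpowers_le.2 hT.x_mem) hz).1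
    refine fix_all hT horb ω.2 hω1' (by rw [mul_smul, hg₀c, inv_smul_eq_iff, hzc]) ?_ ?_ hs hsc
    · calc z⁻¹ * (γ⁻¹ * h) * t * (z⁻¹ * (γ⁻¹ * h))⁻¹ = z⁻¹ * (γ⁻¹ * h * t * (γ⁻¹ * h)⁻¹) * z := by group
        _ = z⁻¹ * t * z := by rw [hg₀t]
        _ = t := by rw [mul_assoc, ← (hT.zpowers_comm hz).eq, inv_mul_cancel_left]
    · calc z⁻¹ * (γ⁻¹ * h) * ((ω : G) * t * (ω : G)⁻¹) * (z⁻¹ * (γ⁻¹ * h))⁻¹
          = z⁻¹ * (γ⁻¹ * h * ((ω : G) * t * (ω : G)⁻¹) * (γ⁻¹ * h)⁻¹) * z := by group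
        _ = z⁻¹ * (z * ((ω : G) * t * (ω : G)⁻¹) * z⁻¹) * z := by rw [hze]
        _ = _ := by group
  · right
    intro s s' hs hs' hsc hs'c hne hne'
    obtain ⟨g, hgp, hge⟩ := htrans ⟨s, hs, hsc⟩ ⟨s', hs', hs'c⟩
      (fun e => hne (congrArg Subtype.val e)) (fun e => hne' (congrArg Subtype.val e))
    exact ⟨g, g.2, hfixp g hgp, congrArg Subtype.val hge⟩

end Cfsg.Agent.SEB
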