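import Cfsg.Agent.Lib.Bender.Solvable.Pre
import Cfsg.Agent.Lib.Bender.Solvable.ElementaryOrbit
import Cfsg.Agent.Lib.Bender.Solvable.ElementaryChar

/-!
# Solvability of a strongly embedded subgroup: the elementary case
-/

set_option autoImplicit false
set_option linter.style.haveILetI false

namespace Cfsg.Agent.SEB

open Cfsg
open Cfsg.Agent.Fusion.SEPairs

universe u

/-- The point stabiliser is transitive on the other points. -/
theorem Min.exists_move {G : Type u} [Group G] [Finite G] {H : Subgroup G} (hM : Min H) {p : ℕ}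
    [Fact p.Prime] (hp : p ∣ Bender.numInv H) {c a e : G ⧸ H} (hca : a ≠ c) (hce : e ≠ c) :
    ∃ k : G, k • c = c ∧ k • a = e := by
  obtain ⟨g, hg⟩ := exists_smul_eq' (QuotientGroup.mk 1 : G ⧸ H) c
  obtain ⟨g₁, h₁⟩ := QuotientGroup.mk_surjective (g⁻¹ • a)
  obtain ⟨g₂, h₂⟩ := QuotientGroup.mk_surjective (g⁻¹ • e)
  have hnot : ∀ (y : G) (z : G ⧸ H), QuotientGroup.mk y = g⁻¹ • z → z ≠ c → y ∉ H := by
    intro y z hy hz hyH
    refine hz ?_
    rw [← hg, ← inv_smul_eq_iff, ← hy, QuotientGroup.eq]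
    simpa using inv_mem hyH
  obtain ⟨h, hh, hk⟩ := Bender.transitive_of_noInside hM.hse hp (hM.noInside hp) g₁ g₂
    (hnot g₁ a h₁ hca) (hnot g₂ e h₂ hce)
  have hfix : h • (QuotientGroup.mk 1 : G ⧸ H) = QuotientGroup.mk 1 := by
    rw [MulAction.Quotient.smul_mk, smul_eq_mul, mul_one, QuotientGroup.eq, mul_one]
    exact inv_mem hh
  refine ⟨g * h * g⁻¹, ?_, ?_⟩
  · rw [mul_smul, mul_smul, ← hg, inv_smul_smul, hfix]
  · rw [mul_smul, mul_smul, ← h₁, MulAction.Quotient.smul_mk, smul_eq_mul,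
      show (QuotientGroup.mk (h * g₁) : G ⧸ H) = QuotientGroup.mk g₂ from (QuotientGroup.eq.2 hk).symm, h₂,
      smul_inv_smul]

/-- **The elementary case.** -/
theorem elementary : ElementaryStatement.{u} := by
  intro G _ _ H hM _ c a Γ x t r hca hr hodd hxo ht htc hnum hcard hcyc hD hn hcomm hx hfix hfree
  have hab : ∀ γ ∈ Γ, ∀ δ ∈ Γ, γ * δ = δ * γ := fun γ hγ δ hδ => by
    obtain ⟨g, hg⟩ := hcyc.exists_generator
    obtain ⟨i, hi⟩ := Subgroup.mem_zpowers_iff.1 (hg ⟨γ, hγ⟩)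
    obtain ⟨j, hj⟩ := Subgroup.mem_zpowers_iff.1 (hg ⟨δ, hδ⟩)
    have e : (⟨γ, hγ⟩ : Γ) * ⟨δ, hδ⟩ = ⟨δ, hδ⟩ * ⟨γ, hγ⟩ := by
      rw [← hi, ← hj, ← zpow_add, ← zpow_add, add_comm]
    exact congrArg Subtype.val e
  have hT : Torus H c a Γ x t r :=
    ⟨hM.hse, hca, hr, hodd, hxo, ht, htc, hnum, hcard, hab, hD, hn, hcomm, hx, hfix, hfree⟩
  rcases image_or_transitive hT with h | h
  · exact h
  exfalso
  obtain ⟨p, hp, hdvd⟩ := Nat.exists_prime_and_dvd (n := Bender.numInv H) (by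
    rw [hnum]
    have : 2 ^ 2 ≤ 2 ^ r := Nat.pow_le_pow_right (by norm_num) hr.two_le
    omega)
  haveI := Fact.mk hp
  exact hT.false_of_transitive (fun e he => hM.exists_move hdvd hca he) h

end Cfsg.Agent.SEB
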