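import Cfsg.Agent.Lib.Bender.Solvable.CharPieces

/-!
# Solvability of a strongly embedded subgroup: the torus of the elementary case
-/

set_option autoImplicit false
set_option linter.style.haveILetI false
set_option linter.unusedSectionVars false

namespace Cfsg.Agent.SEB

open Cfsg
open Cfsg.Agent.Fusion.SEPairs

universe u

/-- Commuting involutions at `c`, a pair stabiliser `Γ ⋊ ⟨x⟩` and `t` fixed by `x`. -/
structure Torus {G : Type u} [Group G] (H : Subgroup G) (c a : G ⧸ H) (Γ : Subgroup G) (x t : G) (r : ℕ) :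
    Prop where
  hse : Cfsg.IsStronglyEmbedded H
  hca : a ≠ c
  hr : r.Prime
  hodd : Odd r
  hxo : orderOf x = r
  ht : orderOf t = 2
  htc : t • c = c
  hnum : Bender.numInv H = 2 ^ r - 1
  hcard : Nat.card Γ = 2 ^ r - 1
  hab : ∀ γ ∈ Γ, ∀ δ ∈ Γ, γ * δ = δ * γ
  hD : St2 c a = Γ ⊔ Subgroup.zpowers x
  hn : St2 c a ≤ Subgroup.normalizer (Γ : Set G)
  hcomm : ∀ s s' : G, orderOf s = 2 → orderOf s' = 2 → s • c = c → s' • c = c → Commute s s'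
  hx : ∀ s : G, orderOf s = 2 → s • c = c → (Commute x s ↔ s = t)
  hfix : ∀ γ ∈ Γ, γ ≠ 1 → {e : G ⧸ H | γ • e = e} = {c, a}
  hfree : ∀ γ ∈ Γ, γ ≠ 1 → ∀ s : G, orderOf s = 2 → s • c = c → ¬ Commute γ s

variable {G : Type u} [Group G] [Finite G] {H : Subgroup G} {c a : G ⧸ H} {Γ : Subgroup G} {x t : G} {r : ℕ}
  (hT : Torus H c a Γ x t r)
include hT

namespace Torus

theorem gamma_le : Γ ≤ St2 c a := hT.hD ▸ le_sup_left

theorem x_mem : x ∈ St2 c a := hT.hD ▸ Subgroup.mem_sup_right (Subgroup.mem_zpowers x)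

theorem conj_mem {d γ : G} (hd : d ∈ St2 c a) (hγ : γ ∈ Γ) : d * γ * d⁻¹ ∈ Γ :=
  Solv.conj_mem_of_mem_normalizer (hT.hn hd) hγ

theorem decomp {d : G} (hd : d ∈ St2 c a) : ∃ γ ∈ Γ, ∃ z ∈ Subgroup.zpowers x, d = γ * z := by
  rw [hT.hD] at hd
  have h : d ∈ ((Γ ⊔ Subgroup.zpowers x : Subgroup G) : Set G) := hd
  rw [Subgroup.coe_mul_of_right_le_normalizer_left Γ (Subgroup.zpowers x)
    (Subgroup.zpowers_le.2 (hT.hn hT.x_mem))] at h
  obtain ⟨γ, hγ, z, hz, e⟩ := h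
  exact ⟨γ, hγ, z, hz, e.symm⟩

theorem zpowers_comm {z : G} (hz : z ∈ Subgroup.zpowers x) : Commute z t := by
  obtain ⟨i, rfl⟩ := Subgroup.mem_zpowers_iff.1 hz
  exact ((hT.hx t hT.ht hT.htc).2 rfl).zpow_left i

/-- Non-trivial powers of `x` centralise no non-trivial element of `Γ`. -/
theorem fpf {z γ : G} (hz : z ∈ Subgroup.zpowers x) (hγ : γ ∈ Γ) (h : z * γ * z⁻¹ = γ) : z = 1 ∨ γ = 1 := by
  by_cases hz1 : z = 1
  · exact Or.inl hz1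
  right
  haveI := Fact.mk hT.hr
  have hgen : Subgroup.zpowers z = Subgroup.zpowers x := by
    refine Subgroup.eq_of_le_of_card_ge (Subgroup.zpowers_le.2 hz) ?_
    have hdvd : orderOf z ∣ r := by
      obtain ⟨i, rfl⟩ := Subgroup.mem_zpowers_iff.1 hz
      exact orderOf_dvd_of_pow_eq_one (by
        rw [← zpow_natCast, ← zpow_mul, mul_comm, zpow_mul, zpow_natCast, ← hT.hxo, pow_orderOf_eq_one, one_zpow])
    rw [Nat.card_zpowers, Nat.card_zpowers, hT.hxo,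
      ((Nat.dvd_prime hT.hr).1 hdvd).resolve_left (fun h => hz1 (orderOf_eq_one_iff.1 h))]
  obtain ⟨i, hi⟩ := Subgroup.mem_zpowers_iff.1 (hgen.symm ▸ Subgroup.mem_zpowers x)
  have hxγ : Commute x γ := hi ▸ (show Commute z γ from mul_inv_eq_iff_eq_mul.1 h).zpow_left i
  by_contra hne
  have hγc : γ • c = c := (hT.gamma_le hγ).1
  have hs : orderOf (γ * t * γ⁻¹) = 2 := conj_involution hT.ht γ
  have hsc : (γ * t * γ⁻¹) • c = c := by
    rw [mul_smul, mul_smul, inv_smul_eq_iff.2 hγc.symm, hT.htc, hγc]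
  have h1 : Commute x (γ * t * γ⁻¹) := (hxγ.mul_right ((hT.hx t hT.ht hT.htc).2 rfl)).mul_right hxγ.inv_right
  exact hT.hfree γ hγ hne t hT.ht hT.htc (mul_inv_eq_iff_eq_mul.1 ((hT.hx _ hs hsc).1 h1))

theorem zpowers_inf {z : G} (hz : z ∈ Subgroup.zpowers x) (hzΓ : z ∈ Γ) : z = 1 := by
  by_contra h
  exact hT.hfree z hzΓ h t hT.ht hT.htc (hT.zpowers_comm hz)

/-- `Γ` is regular on the involutions at `c`. -/
theorem exists_gamma {s : G} (hs : orderOf s = 2) (hsc : s • c = c) : ∃ γ ∈ Γ, γ * t * γ⁻¹ = s := by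
  have hmem : ∀ γ : Γ, orderOf ((γ : G) * t * (γ : G)⁻¹) = 2 ∧ ((γ : G) * t * (γ : G)⁻¹) • c = c :=
    fun γ => smul_involSet (hT.gamma_le γ.2).1 ⟨hT.ht, hT.htc⟩
  let f : Γ → {s : G // orderOf s = 2 ∧ s • c = c} := fun γ => ⟨_, hmem γ⟩
  have hf : Function.Injective f := fun γ δ e => by
    have e' : (γ : G) * t * (γ : G)⁻¹ = (δ : G) * t * (δ : G)⁻¹ := congrArg Subtype.val e
    refine Subtype.ext (inv_mul_eq_one.1 ?_).symm
    by_contra hne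
    refine hT.hfree _ (Γ.mul_mem (Γ.inv_mem δ.2) γ.2) hne t hT.ht hT.htc ?_
    show (δ : G)⁻¹ * γ * t = t * ((δ : G)⁻¹ * γ)
    calc (δ : G)⁻¹ * γ * t = (δ : G)⁻¹ * ((γ : G) * t * (γ : G)⁻¹) * γ := by group
      _ = (δ : G)⁻¹ * ((δ : G) * t * (δ : G)⁻¹) * γ := by rw [e']
      _ = _ := by group
  obtain ⟨γ, hγ⟩ := (hf.bijective_of_nat_card_le (by rw [Bender.card_fixing c, hT.hnum, hT.hcard])).2 ⟨s, hs, hsc⟩
  exact ⟨γ, γ.2, congrArg Subtype.val hγ⟩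

theorem third_point : (t • a) ≠ c ∧ (t • a) ≠ a ∧ ∀ z ∈ Subgroup.zpowers x, z • (t • a) = t • a := by
  refine ⟨fun h => hT.hca (smul_left_cancel t (h.trans hT.htc.symm)),
    fun h => hT.hca (fixed_unique hT.hse hT.ht h hT.htc), fun z hz => ?_⟩
  have hza : z • a = a := ((Subgroup.zpowers_le.2 hT.x_mem) hz).2
  rw [smul_smul, (hT.zpowers_comm hz).eq, ← smul_smul, hza]

/-- An element of the pair stabiliser outside `Γ` is conjugate to a power of `x`. -/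
theorem exists_conj {d : G} (hd : d ∈ St2 c a) (hdΓ : d ∉ Γ) :
    ∃ δ ∈ Γ, ∃ z ∈ Subgroup.zpowers x, z ≠ 1 ∧ d = δ⁻¹ * z * δ := by
  obtain ⟨γ, hγ, z, hz, rfl⟩ := hT.decomp hd
  have hz1 : z ≠ 1 := fun e => hdΓ (by rwa [e, mul_one])
  have hzD : z ∈ St2 c a := (Subgroup.zpowers_le.2 hT.x_mem) hz
  let g : Γ → Γ := fun δ => ⟨(δ : G)⁻¹ * (z * δ * z⁻¹), Γ.mul_mem (Γ.inv_mem δ.2) (hT.conj_mem hzD δ.2)⟩
  have hg : Function.Injective g := fun δ δ' e => by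
    have e' : (δ : G)⁻¹ * (z * δ * z⁻¹) = (δ' : G)⁻¹ * (z * δ' * z⁻¹) := congrArg Subtype.val e
    have h1 : z * ((δ' : G) * (δ : G)⁻¹) * z⁻¹ = (δ' : G) * (δ : G)⁻¹ := by
      calc z * ((δ' : G) * (δ : G)⁻¹) * z⁻¹
          = (δ' : G) * ((δ' : G)⁻¹ * (z * δ' * z⁻¹)) * (z * δ * z⁻¹)⁻¹ := by group
        _ = (δ' : G) * ((δ : G)⁻¹ * (z * δ * z⁻¹)) * (z * δ * z⁻¹)⁻¹ := by rw [e']
        _ = _ := by group
    exact Subtype.ext (mul_inv_eq_one.1 ((hT.fpf hz (Γ.mul_mem δ'.2 (Γ.inv_mem δ.2)) h1).resolve_left hz1)).symm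
  obtain ⟨δ, hδ⟩ := Finite.injective_iff_surjective.1 hg ⟨γ, hγ⟩
  refine ⟨δ, δ.2, z, hz, hz1, ?_⟩
  rw [← show (δ : G)⁻¹ * (z * δ * z⁻¹) = γ from congrArg Subtype.val hδ]
  group

theorem mem_gamma_of_two {d : G} (hd : d ∈ St2 c a) (hfix : ∀ e : G ⧸ H, d • e = e → e = c ∨ e = a) :
    d ∈ Γ := by
  by_contra hdΓ
  obtain ⟨δ, hδ, z, hz, -, rfl⟩ := hT.exists_conj hd hdΓ
  obtain ⟨h1, h2, h3⟩ := hT.third_point
  have hδc : δ • c = c := (hT.gamma_le hδ).1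
  have hδa : δ • a = a := (hT.gamma_le hδ).2
  have hfixed : (δ⁻¹ * z * δ) • (δ⁻¹ • (t • a)) = δ⁻¹ • (t • a) := by
    rw [mul_smul, smul_inv_smul, mul_smul, h3 z hz]
  rcases hfix _ hfixed with h | h
  · exact h1 (by rw [inv_smul_eq_iff] at h; rw [h, hδc])
  · exact h2 (by rw [inv_smul_eq_iff] at h; rw [h, hδa])

/-- The set of two points is preserved by an element fusing `Γ`. -/
theorem image_points {γ g : G} (hγ : γ ∈ Γ) (hγ1 : γ ≠ 1) (hfix : ∀ e : G ⧸ H, (g * γ * g⁻¹) • e = e → e = c ∨ e = a) :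
    (g • c = c ∨ g • c = a) ∧ (g • a = c ∨ g • a = a) := by
  have h : ∀ e : G ⧸ H, γ • e = e → (g * γ * g⁻¹) • g • e = g • e := fun e he => by
    rw [mul_smul, mul_smul, inv_smul_smul, he]
  exact ⟨hfix _ (h c (hT.gamma_le hγ).1), hfix _ (h a (hT.gamma_le hγ).2)⟩

theorem two_of_mem {γ : G} (hγ : γ ∈ Γ) (hγ1 : γ ≠ 1) (e : G ⧸ H) (he : γ • e = e) : e = c ∨ e = a := by
  have : e ∈ ({c, a} : Set (G ⧸ H)) := hT.hfix γ hγ hγ1 ▸ he
  exact this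

end Torus

end Cfsg.Agent.SEB
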