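import Cfsg.Agent.Lib.Bender.Solvable.ElementaryBase

/-!
# Solvability of a strongly embedded subgroup: the normaliser of the torus in the elementary case

A swapper `u` of the two points inverts `Γ` and centralises an element `w` acting on `Γ` as `x`; the
cyclic group `⟨w u⟩` of order `2 r` is free on `Γ` and controls its fusion.
-/

set_option autoImplicit false
set_option linter.style.haveILetI false
set_option linter.unusedSectionVars false

namespace Cfsg.Agent.SEB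

open Cfsg
open Cfsg.Agent.Fusion.SEPairs

universe u

/-- A cyclic group of order `2 r` free on `Γ` and controlling its fusion. -/
structure Frob {G : Type u} [Group G] (Γ B : Subgroup G) (r : ℕ) : Prop where
  card : Nat.card B = 2 * r
  norm : ∀ b ∈ B, ∀ γ ∈ Γ, b * γ * b⁻¹ ∈ Γ
  free : ∀ b ∈ B, ∀ γ ∈ Γ, b * γ * b⁻¹ = γ → b = 1 ∨ γ = 1
  disj : Γ ⊓ B = ⊥
  ti : ∀ γ ∈ Γ, γ ≠ 1 → ∀ g : G, g * γ * g⁻¹ ∈ Γ → ∃ δ ∈ Γ, ∃ b ∈ B, g = δ * b

variable {G : Type u} [Group G] [Finite G] {H : Subgroup G} {c a : G ⧸ H} {Γ : Subgroup G} {x t : G} {r : ℕ}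
  (hT : Torus H c a Γ x t r)
include hT

namespace Torus

theorem r_ge : 3 ≤ r := by
  obtain ⟨i, hi⟩ := hT.hodd
  have := hT.hr.two_le
  omega

theorem two_lt_card : 2 < Nat.card Γ := by
  rw [hT.hcard]
  have : 2 ^ 3 ≤ 2 ^ r := Nat.pow_le_pow_right (by norm_num) hT.r_ge
  omega

theorem exists_ne_one : ∃ γ ∈ Γ, γ ≠ 1 := by
  haveI : Nontrivial Γ := Finite.one_lt_card_iff_nontrivial.1 (by have := hT.two_lt_card; omega)
  obtain ⟨γ, hγ⟩ := exists_ne (1 : Γ)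
  exact ⟨γ, γ.2, fun e => hγ (Subtype.ext e)⟩

theorem gamma_odd : Odd (Nat.card Γ) :=
  (St2_odd hT.hse hT.hca.symm).of_dvd_nat (Subgroup.card_dvd_of_le hT.gamma_le)

theorem eq_one_of_sq {γ : G} (hγ : γ ∈ Γ) (h : γ * γ = 1) : γ = 1 := by
  by_contra hne
  exact even_of_invol_mem (orderOf_eq_prime (by rwa [pow_two]) hne) hγ hT.gamma_odd

theorem card_pairStab : Nat.card ↥(St2 c a) = Nat.card Γ * r := by
  rw [← hT.hxo, ← Nat.card_zpowers, ← Nat.card_prod]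
  refine (Nat.card_eq_of_bijective (fun q : Γ × Subgroup.zpowers x =>
    (⟨(q.1 : G) * q.2, mul_mem (hT.gamma_le q.1.2) ((Subgroup.zpowers_le.2 hT.x_mem) q.2.2)⟩ :
      ↥(St2 c a))) ⟨?_, ?_⟩).symm
  · rintro ⟨γ, z⟩ ⟨γ', z'⟩ e
    have e' : (γ : G) * z = γ' * z' := congrArg Subtype.val e
    have h : (z' : G) * (z : G)⁻¹ = 1 := hT.zpowers_inf (mul_mem z'.2 (inv_mem z.2)) (by
      rw [show (z' : G) * (z : G)⁻¹ = (γ' : G)⁻¹ * γ by
        calc (z' : G) * (z : G)⁻¹ = (γ' : G)⁻¹ * (γ' * z') * (z : G)⁻¹ := by group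
          _ = (γ' : G)⁻¹ * (γ * z) * (z : G)⁻¹ := by rw [e']
          _ = _ := by group]
      exact mul_mem (inv_mem γ'.2) γ.2)
    obtain rfl : z' = z := Subtype.ext (mul_inv_eq_one.1 h)
    exact Prod.ext (Subtype.ext (mul_right_cancel e')) rfl
  · rintro ⟨d, hd⟩
    obtain ⟨γ, hγ, z, hz, rfl⟩ := hT.decomp hd
    exact ⟨⟨⟨γ, hγ⟩, ⟨z, hz⟩⟩, rfl⟩

theorem swap_mem {u γ : G} (hu : orderOf u = 2) (huc : u • c = a) (hγ : γ ∈ Γ) :
    u * γ * u⁻¹ ∈ Γ := by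
  by_cases hγ1 : γ = 1
  · rw [hγ1, mul_one, mul_inv_cancel]
    exact one_mem _
  have hua : u • a = c := by rw [← huc, smul_smul_self hu]
  refine hT.mem_gamma_of_two (Solv.conj_mem_of_mem_normalizer (normalizes_pair huc hua) (hT.gamma_le hγ))
    fun e he => ?_
  rw [mul_smul, mul_smul] at he
  rcases hT.two_of_mem hγ hγ1 _ (eq_inv_smul_iff.2 he) with h | h
  · exact Or.inr ((inv_smul_eq_iff.1 h).trans huc)
  · exact Or.inl ((inv_smul_eq_iff.1 h).trans hua)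

theorem not_commute_swap {u γ : G} (hu : orderOf u = 2) (huc : u • c = a) (hγ : γ ∈ Γ)
    (h : Commute u γ) : γ = 1 := by
  by_contra hγ1
  obtain ⟨e, he⟩ := exists_fixed hT.hse hu
  have h1 : γ • e = e :=
    fixed_unique hT.hse hu (by rw [smul_smul, h.eq, ← smul_smul, he]) he
  rcases hT.two_of_mem hγ hγ1 e h1 with rfl | rfl
  · exact hT.hca (huc.symm.trans he)
  · exact hT.hca (smul_left_cancel u (huc.trans he.symm)).symm

/-- A swapper inverts `Γ`. -/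
theorem swap_inverts {u γ : G} (hu : orderOf u = 2) (huc : u • c = a) (hγ : γ ∈ Γ) :
    u * γ * u⁻¹ = γ⁻¹ := by
  have hm := hT.swap_mem hu huc hγ
  have h : γ * (u * γ * u⁻¹) = 1 := by
    refine hT.not_commute_swap hu huc (Γ.mul_mem hγ hm) (mul_inv_eq_iff_eq_mul.1 ?_)
    calc u * (γ * (u * γ * u⁻¹)) * u⁻¹ = u * γ * u⁻¹ * ((u * u) * γ * (u * u)⁻¹) := by group
      _ = _ := by rw [sq_one hu, one_mul, inv_one, mul_one, hT.hab _ hm _ hγ]
  exact eq_inv_of_mul_eq_one_right h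

/-- The swappers of the two points form `u Γ`. -/
theorem exists_swap_eq {u : G} (hu : orderOf u = 2) (huc : u • c = a) {i : G} (hi : orderOf i = 2)
    (hic : i • c = a) : ∃ γ ∈ Γ, i = u * γ := by
  have hmem : ∀ γ : Γ, orderOf (u * γ) = 2 ∧ (u * (γ : G)) • c = a := fun γ => by
    refine ⟨orderOf_eq_prime ?_ fun e => hT.hca ?_, by rw [mul_smul, (hT.gamma_le γ.2).1, huc]⟩
    · calc (u * (γ : G)) ^ 2 = u * γ * u⁻¹ * (u * u) * γ := by rw [pow_two]; group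
        _ = 1 := by rw [hT.swap_inverts hu huc γ.2, sq_one hu, mul_one, inv_mul_cancel]
    · have h := congrArg (· • c) e
      simp only [mul_smul, one_smul] at h
      rwa [(hT.gamma_le γ.2).1, huc] at h
  let f : Γ → {i : G // orderOf i = 2 ∧ i • c = a} := fun γ => ⟨_, hmem γ⟩
  have hf : Function.Injective f := fun γ δ e =>
    Subtype.ext (mul_left_cancel (congrArg Subtype.val e : u * (γ : G) = u * δ))
  obtain ⟨γ, hγ⟩ := (hf.bijective_of_nat_card_le (by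
    rw [card_swappers hT.hse hT.hca.symm, Bender.card_fixing c, hT.hnum, hT.hcard])).2 ⟨i, hi, hic⟩
  exact ⟨γ, γ.2, (congrArg Subtype.val hγ).symm⟩

/-- An element acting on `Γ` as `x` and centralising `u`. -/
theorem exists_commuting {u : G} (hu : orderOf u = 2) (huc : u • c = a) :
    ∃ w ∈ St2 c a, orderOf w = r ∧ Commute w u ∧ (∀ γ ∈ Γ, w * γ * w⁻¹ = x * γ * x⁻¹) ∧
      St2 c a = Γ ⊔ Subgroup.zpowers w := by
  have hxc : x • c = c := hT.x_mem.1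
  have hxa : x • a = a := hT.x_mem.2
  obtain ⟨γ₁, hγ₁, e₁⟩ := hT.exists_swap_eq hu huc (conj_involution hu x) (by
    rw [mul_smul, mul_smul, inv_smul_eq_iff.2 hxc.symm, huc, hxa])
  let g : Γ → Γ := fun δ => ⟨x * ((δ : G) * δ) * x⁻¹, hT.conj_mem hT.x_mem (Γ.mul_mem δ.2 δ.2)⟩
  have hg : Function.Injective g := fun δ δ' e => by
    have e' : x * ((δ : G) * δ) * x⁻¹ = x * ((δ' : G) * δ') * x⁻¹ := congrArg Subtype.val e
    have e2 : (δ : G) * δ = δ' * δ' := mul_left_cancel (mul_right_cancel e')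
    refine Subtype.ext (mul_inv_eq_one.1 (hT.eq_one_of_sq (Γ.mul_mem δ.2 (Γ.inv_mem δ'.2)) ?_))
    calc (δ : G) * (δ' : G)⁻¹ * ((δ : G) * (δ' : G)⁻¹) = (δ : G) * ((δ' : G)⁻¹ * δ) * (δ' : G)⁻¹ := by group
      _ = (δ : G) * δ * ((δ' : G) * δ')⁻¹ := by rw [hT.hab _ (Γ.inv_mem δ'.2) _ δ.2]; group
      _ = 1 := by rw [e2, mul_inv_cancel]
  obtain ⟨δ, hδ⟩ := Finite.injective_iff_surjective.1 hg ⟨γ₁, hγ₁⟩
  have hδe : x * ((δ : G) * δ) * x⁻¹ = γ₁ := congrArg Subtype.val hδ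
  have hw : x * (δ : G) ∈ St2 c a := mul_mem hT.x_mem (hT.gamma_le δ.2)
  have hwΓ : x * (δ : G) ∉ Γ := fun h => by
    have h1 := hT.zpowers_inf (Subgroup.mem_zpowers x) (by simpa using Γ.mul_mem h (Γ.inv_mem δ.2))
    have h2 := hT.hxo
    rw [h1, orderOf_one] at h2
    exact hT.hr.one_lt.ne h2
  refine ⟨x * δ, hw, ?_, ?_, ?_, ?_⟩
  · obtain ⟨δ', hδ', z, hz, hz1, e⟩ := hT.exists_conj hw hwΓ
    haveI := Fact.mk hT.hr
    rw [e, show orderOf (δ'⁻¹ * z * δ') = orderOf z by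
      simpa using orderOf_injective (MulAut.conj δ'⁻¹).toMonoidHom (MulAut.conj δ'⁻¹).injective z]
    obtain ⟨i, rfl⟩ := Subgroup.mem_zpowers_iff.1 hz
    refine orderOf_eq_prime ?_ hz1
    rw [← zpow_natCast, ← zpow_mul, mul_comm, zpow_mul, zpow_natCast, ← hT.hxo, pow_orderOf_eq_one, one_zpow]
  · refine mul_inv_eq_iff_eq_mul.1 ?_
    have hinv := hT.swap_inverts hu huc δ.2
    have h : (δ : G) * u * (δ : G)⁻¹ = u * ((δ : G)⁻¹ * (δ : G)⁻¹) := by
      calc (δ : G) * u * (δ : G)⁻¹ = u * (u⁻¹ * δ * u⁻¹⁻¹) * (δ : G)⁻¹ := by group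
        _ = u * (δ : G)⁻¹ * (δ : G)⁻¹ := by rw [inv_self hu]; rw [inv_self hu] at hinv ⊢; rw [hinv]
        _ = _ := by group
    calc x * δ * u * (x * δ)⁻¹ = x * ((δ : G) * u * (δ : G)⁻¹) * x⁻¹ := by group
      _ = x * u * x⁻¹ * (x * ((δ : G) * δ) * x⁻¹)⁻¹ := by rw [h]; group
      _ = u := by rw [e₁, hδe, mul_inv_cancel_right]
  · intro γ hγ
    calc x * δ * γ * (x * δ)⁻¹ = x * ((δ : G) * γ * (δ : G)⁻¹) * x⁻¹ := by group
      _ = _ := by rw [hT.hab _ δ.2 _ hγ, mul_inv_cancel_right]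
  · refine le_antisymm ?_ (sup_le hT.gamma_le (Subgroup.zpowers_le.2 hw))
    rw [hT.hD]
    refine sup_le le_sup_left (Subgroup.zpowers_le.2 ?_)
    have h : x * δ * (δ : G)⁻¹ ∈ Γ ⊔ Subgroup.zpowers (x * (δ : G)) :=
      mul_mem (Subgroup.mem_sup_right (Subgroup.mem_zpowers _)) (Subgroup.mem_sup_left (Γ.inv_mem δ.2))
    rwa [mul_inv_cancel_right] at h

/-- The Frobenius complement of `Γ` in its normaliser. -/
theorem exists_frob : ∃ u : G, ∃ B : Subgroup G, orderOf u = 2 ∧ u • c = a ∧ u ∈ B ∧ Frob Γ B r := by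
  obtain ⟨u, hu, huc⟩ := exists_swapper hT.hse hT.hca.symm
  obtain ⟨w, hw, hwo, hwu, hwx, hwD⟩ := hT.exists_commuting hu huc
  haveI := Fact.mk hT.hr
  set B := Subgroup.zpowers (w * u) with hB
  have hcop : Nat.Coprime (orderOf w) (orderOf u) := by
    rw [hwo, hu]
    exact (Nat.coprime_two_right).2 hT.hodd
  have huB : u ∈ B := by
    have h : (w * u) ^ r = u := by
      rw [hwu.mul_pow, ← hwo, pow_orderOf_eq_one, one_mul]
      obtain ⟨i, hi⟩ := hT.hodd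
      rw [hwo, hi, pow_succ, pow_mul, pow_two, sq_one hu, one_pow, one_mul]
    exact h ▸ Subgroup.pow_mem _ (Subgroup.mem_zpowers _) _
  have hwB : w ∈ B := by
    have h := B.mul_mem (Subgroup.mem_zpowers (w * u)) huB
    rwa [mul_assoc, sq_one hu, mul_one] at h
  have hwle : Subgroup.zpowers w ≤ B := Subgroup.zpowers_le.2 hwB
  have hparity : ∀ b ∈ B, ∃ z ∈ Subgroup.zpowers w, b = z ∨ b = z * u := fun b hb => by
    obtain ⟨i, rfl⟩ := Subgroup.mem_zpowers_iff.1 hb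
    refine ⟨w ^ i, Subgroup.zpow_mem _ (Subgroup.mem_zpowers w) _, ?_⟩
    rw [hwu.mul_zpow]
    rcases Int.even_or_odd i with ⟨j, rfl⟩ | ⟨j, rfl⟩
    · left
      rw [← two_mul, zpow_mul u, zpow_two, sq_one hu, one_zpow, mul_one]
    · right
      rw [zpow_add u, zpow_mul u, zpow_two, sq_one hu, one_zpow, one_mul, zpow_one]
  have hzΓ : ∀ z ∈ Subgroup.zpowers w, ∀ γ ∈ Γ, z * γ * z⁻¹ ∈ Γ := fun z hz γ hγ =>
    hT.conj_mem ((Subgroup.zpowers_le.2 hw) hz) hγ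
  have hnorm : ∀ b ∈ B, ∀ γ ∈ Γ, b * γ * b⁻¹ ∈ Γ := fun b hb γ hγ => by
    obtain ⟨z, hz, rfl | rfl⟩ := hparity b hb
    · exact hzΓ _ hz γ hγ
    · rw [show z * u * γ * (z * u)⁻¹ = z * (u * γ * u⁻¹) * z⁻¹ by group]
      exact hzΓ _ hz _ (hT.swap_mem hu huc hγ)
  have hzfree : ∀ z ∈ Subgroup.zpowers w, ∀ γ ∈ Γ, z * γ * z⁻¹ = γ → z = 1 ∨ γ = 1 := by
    intro z hz γ hγ e
    by_cases hz1 : z = 1
    · exact Or.inl hz1
    have hgen : Subgroup.zpowers z = Subgroup.zpowers w := by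
      refine Subgroup.eq_of_le_of_card_ge (Subgroup.zpowers_le.2 hz) ?_
      have hdvd : orderOf z ∣ r := by
        obtain ⟨i, rfl⟩ := Subgroup.mem_zpowers_iff.1 hz
        exact orderOf_dvd_of_pow_eq_one (by
          rw [← zpow_natCast, ← zpow_mul, mul_comm, zpow_mul, zpow_natCast, ← hwo, pow_orderOf_eq_one, one_zpow])
      rw [Nat.card_zpowers, Nat.card_zpowers, hwo,
        ((Nat.dvd_prime hT.hr).1 hdvd).resolve_left (fun h => hz1 (orderOf_eq_one_iff.1 h))]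
    obtain ⟨i, hi⟩ := Subgroup.mem_zpowers_iff.1 (hgen.symm ▸ Subgroup.mem_zpowers w)
    have hwγ : Commute w γ := hi ▸ (show Commute z γ from mul_inv_eq_iff_eq_mul.1 e).zpow_left i
    refine Or.inr ((hT.fpf (Subgroup.mem_zpowers x) hγ ?_).resolve_left fun h => hT.hr.one_lt.ne ?_)
    · rw [← hwx γ hγ, hwγ.eq, mul_inv_cancel_right]
    · rw [← hT.hxo, h, orderOf_one]
  have hfree : ∀ b ∈ B, ∀ γ ∈ Γ, b * γ * b⁻¹ = γ → b = 1 ∨ γ = 1 := fun b hb γ hγ e => by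
    obtain ⟨z, hz, rfl | rfl⟩ := hparity b hb
    · exact hzfree _ hz γ hγ e
    by_cases hγ1 : γ = 1
    · exact Or.inr hγ1
    exfalso
    have e1 : z * γ⁻¹ * z⁻¹ = γ := by
      rw [← hT.swap_inverts hu huc hγ]
      conv_rhs => rw [← e]
      group
    have e2 : (z * z) * γ * (z * z)⁻¹ = γ := by
      calc (z * z) * γ * (z * z)⁻¹ = z * (z * γ⁻¹ * z⁻¹)⁻¹ * z⁻¹ := by group
        _ = z * γ⁻¹ * z⁻¹ := by rw [e1]; exact e1
        _ = γ := e1
    have hz2 := (hzfree _ (mul_mem hz hz) γ hγ e2).resolve_right hγ1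
    have hz1 : z = 1 := by
      rw [← orderOf_eq_one_iff]
      refine Nat.eq_one_of_dvd_coprimes ((Nat.coprime_two_right).2 hT.hodd) ?_
        (orderOf_dvd_of_pow_eq_one (by rw [pow_two]; exact hz2))
      rw [← hwo]
      exact orderOf_dvd_of_mem_zpowers hz
    rw [hz1, one_mul, inv_one, mul_one] at e1
    exact hγ1 (hT.eq_one_of_sq hγ (by nth_rewrite 1 [← e1]; rw [inv_mul_cancel]))
  refine ⟨u, B, hu, huc, huB, ?_, hnorm, hfree, ?_, ?_⟩
  · rw [Nat.card_zpowers, hwu.orderOf_mul_eq_mul_orderOf_of_coprime hcop, hwo, hu, mul_comm]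
  · refine eq_bot_iff.2 fun b hb => ?_
    obtain ⟨γ, hγ, hγ1⟩ := hT.exists_ne_one
    exact Subgroup.mem_bot.2 ((hfree b hb.2 γ hγ (by
      rw [hT.hab _ hb.1 _ hγ, mul_inv_cancel_right])).resolve_right hγ1)
  · intro γ hγ hγ1 g hg
    have hne : g * γ * g⁻¹ ≠ 1 := fun e => hγ1 (by rwa [mul_inv_eq_one, mul_eq_left] at e)
    obtain ⟨hc, ha⟩ := hT.image_points hγ hγ1 (fun e he => hT.two_of_mem hg hne e he)
    have hdec : ∀ d ∈ St2 c a, ∃ δ ∈ Γ, ∃ z ∈ Subgroup.zpowers w, d = δ * z := fun d hd => by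
      rw [hwD] at hd
      have h : d ∈ ((Γ ⊔ Subgroup.zpowers w : Subgroup G) : Set G) := hd
      rw [Subgroup.coe_mul_of_right_le_normalizer_left Γ (Subgroup.zpowers w)
        (Subgroup.zpowers_le.2 (hT.hn hw))] at h
      obtain ⟨δ, hδ, z, hz, e⟩ := h
      exact ⟨δ, hδ, z, hz, e.symm⟩
    have hua : u • a = c := by rw [← huc, smul_smul_self hu]
    rcases hc with hc | hc
    · have ha' : g • a = a := ha.resolve_left fun h => hT.hca (smul_left_cancel g (h.trans hc.symm))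
      obtain ⟨δ, hδ, z, hz, e⟩ := hdec g ⟨hc, ha'⟩
      exact ⟨δ, hδ, z, hwle hz, e⟩
    · have ha' : g • a = c := ha.resolve_right fun h => hT.hca (smul_left_cancel g (h.trans hc.symm))
      obtain ⟨δ, hδ, z, hz, e⟩ := hdec (g * u)
        ⟨by show (g * u) • c = c; rw [mul_smul, huc, ha'], by show (g * u) • a = a; rw [mul_smul, hua, hc]⟩
      refine ⟨δ, hδ, z * u, B.mul_mem (hwle hz) huB, ?_⟩
      rw [← mul_assoc, ← e, mul_assoc, sq_one hu, mul_one]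

end Torus

end Cfsg.Agent.SEB
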