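import Cfsg.Agent.Lib.Bender.Solvable.ElementaryPerm
import Cfsg.Agent.Lib.Bender.Solvable.ElementarySwap

/-!
# Solvability of a strongly embedded subgroup: the induced character of the elementary case

Values and norm of `psi` induced to the group, and the sum over the pairs of involutions.
-/

set_option autoImplicit false
set_option linter.style.haveILetI false
set_option linter.unusedSectionVars false

open scoped ComplexConjugate

namespace Cfsg.Agent.SEB

open Cfsg Cfsg.Agent.Char
open Cfsg.Agent.Fusion.SEPairs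

universe u

section
variable {G : Type u} [Group G] [Fintype G] {H : Subgroup G}

/-- `psi` induced to the group. -/
noncomputable def bigP (c : G ⧸ H) : G → ℂ := indFun (St c) (psi c)

theorem bigP_apply (c : G ⧸ H) (g : G) :
    bigP c g = (Nat.card ↥(St c) : ℂ)⁻¹ * ∑ k : G, psiG c (k⁻¹ * g * k) := rfl

theorem conj_psiG (c : G ⧸ H) (g : G) : conj (psiG c g) = psiG c g := by
  by_cases hg : g • c = c
  · rw [psiG_mem hg, map_sub, map_natCast, map_one]
  · rw [psiG_not_mem hg, map_zero]

/-- A function vanishing outside a subgroup. -/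
theorem sum_on_subgroup (K : Subgroup G) [Fintype K] (f : G → ℂ) (h : ∀ g, g ∉ K → f g = 0) :
    ∑ g : G, f g = ∑ k : K, f k := by
  classical
  rw [← Finset.sum_subtype (Finset.univ.filter fun g => g ∈ K) (fun g => by simp) f]
  exact (Finset.sum_filter_of_ne fun g _ hne => by_contra fun hg => hne (h g hg)).symm

theorem card_move (c e : G ⧸ H) :
    Nat.card {k : G // k • c = e} = Nat.card ↥(St c) := by
  obtain ⟨g, hg⟩ := exists_smul_eq' c e
  exact Nat.card_congr ((Equiv.mulLeft g⁻¹).subtypeEquiv fun k => by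
    show k • c = e ↔ (g⁻¹ * k) • c = c
    rw [mul_smul, inv_smul_eq_iff, hg])

theorem card_group (c : G ⧸ H) : Nat.card G = Nat.card (G ⧸ H) * Nat.card ↥(St c) := by
  rw [← MulAction.index_stabilizer_of_transitive G c, Subgroup.index_mul_card]

end

variable {G : Type u} [Group G] [Fintype G] {H : Subgroup G} {c a : G ⧸ H} {Γ : Subgroup G} {x t : G} {r : ℕ}
  (hT : Torus H c a Γ x t r)
include hT

namespace Torus

theorem bigP_one : bigP c 1 = (Nat.card (G ⧸ H) : ℂ) * ((Nat.card Γ : ℂ) - 1) := by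
  rw [bigP_apply, Finset.sum_congr rfl (g := fun _ : G => (Nat.card Γ : ℂ) - 1) fun k _ => by
    rw [mul_one, inv_mul_cancel, hT.psiG_one], Finset.sum_const, Finset.card_univ, nsmul_eq_mul,
    ← Nat.card_eq_fintype_card, card_group c, Nat.cast_mul]
  have hA0 : (Nat.card ↥(St c) : ℂ) ≠ 0 := Nat.cast_ne_zero.2 Nat.card_pos.ne'
  field_simp

theorem bigP_t : bigP c t = (Nat.card Γ : ℂ) - 1 := by
  classical
  have hk : ∀ k : G, psiG c (k⁻¹ * t * k) = if k • c = c then (Nat.card Γ : ℂ) - 1 else 0 := fun k => by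
    split_ifs with h
    · rw [show k⁻¹ * t * k = k⁻¹ * t * k⁻¹⁻¹ by group, psi_class c ((St c).inv_mem h),
        hT.psiG_comm hT.htc fun s hs hsc => hT.hcomm t s hT.ht hs hT.htc hsc]
    · refine psiG_not_mem fun he => h ?_
      rw [mul_smul, mul_smul, inv_smul_eq_iff] at he
      exact fixed_unique hT.hse hT.ht he hT.htc
  rw [bigP_apply, Finset.sum_congr rfl fun k _ => hk k, Finset.sum_ite, Finset.sum_const, Finset.sum_const_zero,
    add_zero, ← Fintype.card_subtype, ← Nat.card_eq_fintype_card, card_move c c, nsmul_eq_mul]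
  have hA0 : (Nat.card ↥(St c) : ℂ) ≠ 0 := Nat.cast_ne_zero.2 Nat.card_pos.ne'
  field_simp

variable {u : G} (hu : orderOf u = 2) (huc : u • c = a)
include hu huc

theorem bigP_gamma {γ : G} (hγ : γ ∈ Γ) (hγ1 : γ ≠ 1) : bigP c γ = -2 := by
  classical
  have hk : ∀ k : G, psiG c (k⁻¹ * γ * k) =
      (if k • c = c then (-1 : ℂ) else 0) + if k • c = a then -1 else 0 := fun k => by
    by_cases h1 : k • c = c
    · rw [if_pos h1, if_neg fun h2 => hT.hca (h2.symm.trans h1), add_zero,
        show k⁻¹ * γ * k = k⁻¹ * γ * k⁻¹⁻¹ by group, psi_class c ((St c).inv_mem h1), hT.psiG_gamma hγ hγ1]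
    by_cases h2 : k • c = a
    · rw [if_neg h1, if_pos h2, zero_add]
      have hs : (u⁻¹ * k) • c = c := by rw [mul_smul, h2, inv_smul_eq_iff, huc]
      rw [show k⁻¹ * γ * k = (u⁻¹ * k)⁻¹ * (u⁻¹ * γ * u) * (u⁻¹ * k)⁻¹⁻¹ by group,
        psi_class c ((St c).inv_mem hs)]
      have e : u⁻¹ * γ * u = γ⁻¹ := by
        rw [inv_self hu, ← hT.swap_inverts hu huc hγ, inv_self hu]
      rw [e, hT.psiG_gamma (Γ.inv_mem hγ) (fun h => hγ1 (inv_eq_one.1 h))]
    rw [if_neg h1, if_neg h2, add_zero]
    refine psiG_not_mem fun he => ?_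
    rw [mul_smul, mul_smul, inv_smul_eq_iff] at he
    rcases hT.two_of_mem hγ hγ1 _ he with h | h
    · exact h1 h
    · exact h2 h
  rw [bigP_apply, Finset.sum_congr rfl fun k _ => hk k, Finset.sum_add_distrib, Finset.sum_ite, Finset.sum_ite]
  simp only [Finset.sum_const_zero, add_zero, Finset.sum_const, nsmul_eq_mul]
  rw [← Fintype.card_subtype, ← Fintype.card_subtype, ← Nat.card_eq_fintype_card, ← Nat.card_eq_fintype_card,
    card_move c c, card_move c a]
  have hA0 : (Nat.card ↥(St c) : ℂ) ≠ 0 := Nat.cast_ne_zero.2 Nat.card_pos.ne'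
  field_simp
  norm_num

variable (htr : ∀ e : G ⧸ H, e ≠ c → ∃ k : G, k • c = c ∧ k • a = e)
include htr

theorem card_others : Nat.card ↥(St c) = (Nat.card (G ⧸ H) - 1) * (Nat.card Γ * r) := by
  classical
  haveI := Fintype.ofFinite (G ⧸ H)
  have horb : MulAction.orbit ↥(St c) a = {e : G ⧸ H | e ≠ c} := by
    ext e
    constructor
    · rintro ⟨k, rfl⟩ h
      exact hT.hca (smul_left_cancel (k : G) ((show (k : G) • a = c from h).trans k.2.symm))
    · intro he
      obtain ⟨k, hk, hka⟩ := htr e he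
      exact ⟨⟨k, hk⟩, hka⟩
  have h1 := MulAction.index_stabilizer ↥(St c) a
  have h2 : Nat.card ↥(MulAction.stabilizer ↥(St c) a) = Nat.card Γ * r := by
    rw [← hT.card_pairStab]
    exact Nat.card_congr
      { toFun := fun k => ⟨((k : ↥(St c)) : G), (k : ↥(St c)).2, k.2⟩
        invFun := fun d => ⟨⟨d, d.2.1⟩, d.2.2⟩
        left_inv := fun _ => rfl
        right_inv := fun _ => rfl }
  rw [← Subgroup.index_mul_card (MulAction.stabilizer ↥(St c) a), h1, h2, horb]
  congr 1
  rw [← Nat.card_coe_set_eq, Nat.card_eq_fintype_card, Nat.card_eq_fintype_card]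
  exact (Fintype.card_subtype_compl fun e => e = c).trans (by rw [Fintype.card_subtype_eq])

theorem bigP_norm [Fintype ↥(St c)] (hnorm : classInner (psi c) (psi c) = 1) :
    (r : ℂ) * classInner (bigP c) (bigP c) = (r : ℂ) + ((Nat.card Γ : ℂ) - 1) := by
  classical
  set A : ℂ := (Nat.card ↥(St c) : ℂ) with hA
  set m : ℂ := (Nat.card Γ : ℂ) with hm
  let F : G → ℂ := fun k => ∑ h : G, psiG c h * psiG c (k⁻¹ * h * k)
  have hsq : ∑ h : G, psiG c h * psiG c h = A := by
    rw [sum_on_subgroup (St c) _ fun g hg => by rw [psiG_not_mem hg, zero_mul]]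
    have hA0 : A ≠ 0 := Nat.cast_ne_zero.2 Nat.card_pos.ne'
    have h := hnorm
    rw [classInner, ← hA, inv_mul_eq_one₀ hA0] at h
    refine (Finset.sum_congr rfl fun g _ => ?_).trans h.symm
    rw [show psi c g = psiG c g from (extendByZero_mem (St c) (psi c) g.2).symm, conj_psiG]
  have hI : ∑ h : G, psiG c h * psiG c (u⁻¹ * h * u) = (m - 1) * m := by
    haveI := Fintype.ofFinite Γ
    rw [sum_on_subgroup Γ _ fun g hg => ?_]
    · rw [Finset.sum_congr rfl (g := fun γ : Γ => if γ = 1 then (m - 1) * (m - 1) else 1) fun γ _ => by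
        split_ifs with h1
        · subst h1
          rw [OneMemClass.coe_one, mul_one, inv_mul_cancel, hT.psiG_one]
        · have h1' : (γ : G) ≠ 1 := fun e => h1 (Subtype.ext e)
          rw [hT.psiG_gamma γ.2 h1',
            show u⁻¹ * (γ : G) * u = (γ : G)⁻¹ by rw [inv_self hu, ← hT.swap_inverts hu huc γ.2, inv_self hu],
            hT.psiG_gamma (Γ.inv_mem γ.2) fun e => h1' (inv_eq_one.1 e)]
          norm_num,
        ← Finset.add_sum_erase _ _ (Finset.mem_univ (1 : Γ)), if_pos rfl,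
        Finset.sum_congr rfl (g := fun _ : Γ => (1 : ℂ)) fun γ hγ => if_neg (Finset.ne_of_mem_erase hγ),
        Finset.sum_const, Finset.card_erase_of_mem (Finset.mem_univ _), Finset.card_univ, nsmul_eq_mul,
        mul_one, ← Nat.card_eq_fintype_card, Nat.cast_sub Nat.card_pos, Nat.cast_one, ← hm]
      ring
    · by_cases hgc : g • c = c
      · by_cases hga : g • a = a
        · rw [hT.psiG_outside ⟨hgc, hga⟩ hg, zero_mul]
        · refine mul_eq_zero_of_right _ (psiG_not_mem fun he => hga ?_)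
          rw [mul_smul, mul_smul, huc, inv_smul_eq_iff, huc] at he
          exact he
      · rw [psiG_not_mem hgc, zero_mul]
  have hF : ∀ k : G, F k = if k • c = c then A else (m - 1) * m := by
    intro k
    split_ifs with hk
    · refine (Finset.sum_congr rfl fun h _ => ?_).trans hsq
      rw [show k⁻¹ * h * k = k⁻¹ * h * k⁻¹⁻¹ by group, psi_class c ((St c).inv_mem hk)]
    · obtain ⟨k₁, hk₁, hk₁a⟩ := htr _ hk
      have hs : (u⁻¹ * (k₁⁻¹ * k)) • c = c := by
        rw [mul_smul, mul_smul, inv_smul_eq_iff, huc, inv_smul_eq_iff, hk₁a]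
      refine (Fintype.sum_equiv (MulAut.conj k₁⁻¹).toEquiv _
        (fun h => psiG c h * psiG c (u⁻¹ * h * u)) fun h => ?_).trans hI
      show psiG c h * psiG c (k⁻¹ * h * k) =
        psiG c (k₁⁻¹ * h * k₁⁻¹⁻¹) * psiG c (u⁻¹ * (k₁⁻¹ * h * k₁⁻¹⁻¹) * u)
      rw [psi_class c ((St c).inv_mem hk₁)]
      congr 1
      rw [show k⁻¹ * h * k = (u⁻¹ * (k₁⁻¹ * k))⁻¹ * (u⁻¹ * (k₁⁻¹ * h * k₁⁻¹⁻¹) * u) *
        (u⁻¹ * (k₁⁻¹ * k))⁻¹⁻¹ by group, psi_class c ((St c).inv_mem hs)]
  have hN : 1 ≤ Nat.card (G ⧸ H) := Nat.card_pos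
  have hco : (Finset.univ.filter fun k : G => k • c = c).card = Nat.card ↥(St c) := by
    rw [← Fintype.card_subtype, ← Nat.card_eq_fintype_card, card_move c c]
  have htot : ∑ k : G, F k = A * A + ((Nat.card (G ⧸ H) : ℂ) - 1) * A * ((m - 1) * m) := by
    rw [Finset.sum_congr rfl fun k _ => hF k, Finset.sum_ite, Finset.sum_const, Finset.sum_const,
      Finset.filter_not, Finset.card_sdiff_of_subset (Finset.filter_subset _ _), hco, Finset.card_univ,
      ← Nat.card_eq_fintype_card, card_group c,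
      show Nat.card (G ⧸ H) * Nat.card ↥(St c) - Nat.card ↥(St c) =
        (Nat.card (G ⧸ H) - 1) * Nat.card ↥(St c) by rw [Nat.sub_mul, one_mul]]
    simp only [nsmul_eq_mul, Nat.cast_mul, Nat.cast_sub hN, Nat.cast_one, ← hA]
  have hP : classInner (bigP c) (bigP c) = A⁻¹ * (A⁻¹ * ∑ k : G, F k) := by
    conv_lhs => arg 1; rw [bigP]
    rw [frobenius (St c) _ (show IsClassFunction G (bigP c) from isClassFunction_indFun _ _), classInner, ← hA]
    congr 1
    have e : ∀ h : ↥(St c), psi c h * conj (bigP c h) =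
        A⁻¹ * ∑ k : G, psiG c (h : G) * psiG c (k⁻¹ * h * k) := fun h => by
      rw [bigP_apply, show psi c h = psiG c h from (extendByZero_mem (St c) (psi c) h.2).symm, map_mul,
        map_inv₀, map_natCast, map_sum, ← hA]
      rw [Finset.sum_congr rfl fun k _ => conj_psiG c _, Finset.mul_sum, Finset.mul_sum, Finset.mul_sum]
      exact Finset.sum_congr rfl fun k _ => mul_left_comm _ _ _
    rw [Finset.sum_congr rfl fun h _ => e h, ← Finset.mul_sum, Finset.sum_comm]
    congr 1
    refine Finset.sum_congr rfl fun k _ => ?_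
    exact (sum_on_subgroup (St c) (fun g => psiG c g * psiG c (k⁻¹ * g * k)) fun g hg => by
      rw [psiG_not_mem hg, zero_mul]).symm
  have hcard : A = ((Nat.card (G ⧸ H) : ℂ) - 1) * (m * r) := by
    rw [hA, hT.card_others hu huc htr, Nat.cast_mul, Nat.cast_mul, Nat.cast_sub hN, Nat.cast_one]
  have hA0 : A ≠ 0 := Nat.cast_ne_zero.2 Nat.card_pos.ne'
  rw [hP, htot]
  field_simp
  rw [hcard]
  ring

theorem pair_sum : ∑ g : G, ∑ h : G, bigP c (g * t * g⁻¹ * (h * t * h⁻¹)) =
    (Nat.card (G ⧸ H) : ℂ) * (Nat.card ↥(St c) : ℂ) ^ 2 * ((Nat.card Γ : ℂ) - 1) := by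
  classical
  set A : ℂ := (Nat.card ↥(St c) : ℂ) with hA
  set m : ℂ := (Nat.card Γ : ℂ) with hm
  let i : G → G := fun g => g * t * g⁻¹
  have hinv : ∀ g, orderOf (i g) = 2 := fun g => conj_involution hT.ht g
  have hfix : ∀ g, (i g) • (g • c) = g • c := fun g => by
    rw [mul_smul, mul_smul, inv_smul_smul, hT.htc]
  let S : G → ℂ := fun g => ∑ h : G, psiG c (i g * i h)
  have hS : ∀ g, S g = if g • c = c then A * (m - 1) else 0 := by
    intro g
    split_ifs with hg
    · have hi : (i g) • c = c := by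
        have h := hfix g
        rwa [hg] at h
      have hh : ∀ h : G, psiG c (i g * i h) = if h • c = c then m - 1 else 0 := fun h => by
        split_ifs with hc
        · have hj : (i h) • c = c := by
            have h' := hfix h
            rwa [hc] at h'
          refine hT.psiG_comm (by rw [mul_smul, hj, hi]) fun s hs hsc => ?_
          exact (hT.hcomm _ _ (hinv g) hs hi hsc).mul_left (hT.hcomm _ _ (hinv h) hs hj hsc)
        · refine psiG_not_mem fun he => hc ?_
          have hj : (i h) • c = c := by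
            rw [mul_smul] at he
            exact smul_left_cancel (i g) (he.trans hi.symm)
          exact fixed_unique hT.hse (hinv h) (hfix h) hj
      show ∑ h : G, _ = _
      rw [Finset.sum_congr rfl fun h _ => hh h, Finset.sum_ite, Finset.sum_const, Finset.sum_const_zero, add_zero,
        ← Fintype.card_subtype, ← Nat.card_eq_fintype_card, card_move c c, nsmul_eq_mul]
    · have hd : (i g) • c ≠ c := fun e => hg (fixed_unique hT.hse (hinv g) (hfix g) e)
      obtain ⟨k, hk, hka⟩ := htr _ hd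
      -- move the pair to `(c, a)`
      have hswap : (k⁻¹ * i g * k) • c = a := by
        rw [mul_smul, mul_smul, hk, inv_smul_eq_iff, hka]
      obtain ⟨γ₁, hγ₁, e₁⟩ := hT.exists_swap_eq hu huc
        (by
          have h := conj_involution (hinv g) k⁻¹
          rwa [inv_inv] at h) hswap
      have hmove : ∀ h : G, psiG c (i g * i (k * h)) = psiG c (u * γ₁ * i h) := fun h => by
        rw [← e₁, ← psi_class c ((St c).inv_mem hk) (g := i g * i (k * h))]
        congr 1
        show k⁻¹ * (g * t * g⁻¹ * (k * h * t * (k * h)⁻¹)) * k⁻¹⁻¹ = k⁻¹ * (g * t * g⁻¹) * k * (h * t * h⁻¹)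
        group
      haveI := Fintype.ofFinite Γ
      have hγ₁c : γ₁ • c = c := (hT.gamma_le hγ₁).1
      have hpt : ∀ h : G, psiG c (u * γ₁ * i h) =
          ∑ δ : Γ, if i h = u * (δ : G) then psiG c (γ₁⁻¹ * δ) else 0 := fun h => by
        by_cases hj : (i h) • c = a
        · obtain ⟨δ, hδ, e⟩ := hT.exists_swap_eq hu huc (hinv h) hj
          rw [Finset.sum_eq_single (⟨δ, hδ⟩ : Γ)
            (fun δ' _ hne => if_neg fun e' => hne (Subtype.ext (mul_left_cancel (e'.symm.trans e))))
            (fun hn => absurd (Finset.mem_univ _) hn), if_pos e, e]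
          congr 1
          calc u * γ₁ * (u * δ) = u * γ₁ * u⁻¹ * (u * u) * δ := by group
            _ = _ := by rw [hT.swap_inverts hu huc hγ₁, sq_one hu, mul_one]
        · rw [Finset.sum_eq_zero fun (δ : Γ) _ => if_neg fun e => hj (by
            rw [e, mul_smul, (hT.gamma_le δ.2).1, huc])]
          refine psiG_not_mem fun he => hj ?_
          rw [mul_smul, mul_smul, ← eq_inv_smul_iff, ← eq_inv_smul_iff] at he
          rw [he, inv_self hu, huc, inv_smul_eq_iff, (hT.gamma_le hγ₁).2]
      have hK : ∀ δ : Γ, (Finset.univ.filter fun h : G => i h = u * (δ : G)).card =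
          (Finset.univ.filter fun h : G => i h = t).card := fun δ => by
        have hinvδ : orderOf (u * (δ : G)) = 2 := by
          refine orderOf_eq_prime ?_ fun e => hT.hca ?_
          · calc (u * (δ : G)) ^ 2 = u * δ * u⁻¹ * (u * u) * δ := by rw [pow_two]; group
              _ = 1 := by rw [hT.swap_inverts hu huc δ.2, sq_one hu, mul_one, inv_mul_cancel]
          · have h := congrArg (· • c) e
            simp only [mul_smul, one_smul] at h
            rwa [(hT.gamma_le δ.2).1, huc] at h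
        obtain ⟨h₀, hh₀⟩ := isConj_iff.1 (involutions_conj hT.hse hT.ht hinvδ)
        rw [← Fintype.card_subtype, ← Fintype.card_subtype]
        refine Fintype.card_congr ((Equiv.mulLeft h₀⁻¹).subtypeEquiv fun h => ?_)
        show h * t * h⁻¹ = u * (δ : G) ↔ h₀⁻¹ * h * t * (h₀⁻¹ * h)⁻¹ = t
        rw [← hh₀]
        constructor
        · intro e
          calc h₀⁻¹ * h * t * (h₀⁻¹ * h)⁻¹ = h₀⁻¹ * (h * t * h⁻¹) * h₀ := by group
            _ = t := by rw [e]; group
        · intro e
          calc h * t * h⁻¹ = h₀ * (h₀⁻¹ * h * t * (h₀⁻¹ * h)⁻¹) * h₀⁻¹ := by group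
            _ = _ := by rw [e]
      have hsum0 : ∑ δ : Γ, psiG c (γ₁⁻¹ * δ) = 0 := by
        rw [Fintype.sum_equiv (Equiv.mulLeft (⟨γ₁⁻¹, Γ.inv_mem hγ₁⟩ : Γ)) (fun δ : Γ => psiG c (γ₁⁻¹ * δ))
          (fun δ : Γ => psiG c δ) fun _ => rfl, ← Finset.add_sum_erase _ _ (Finset.mem_univ (1 : Γ)),
          Finset.sum_congr rfl (g := fun _ : Γ => (-1 : ℂ)) fun δ hδ =>
            hT.psiG_gamma δ.2 fun e => Finset.ne_of_mem_erase hδ (Subtype.ext e),
          Finset.sum_const, Finset.card_erase_of_mem (Finset.mem_univ _), Finset.card_univ,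
          OneMemClass.coe_one, hT.psiG_one, nsmul_eq_mul, ← Nat.card_eq_fintype_card,
          Nat.cast_sub Nat.card_pos, Nat.cast_one]
        ring
      show ∑ h : G, psiG c (i g * i h) = 0
      rw [← Fintype.sum_equiv (Equiv.mulLeft k) (fun h => psiG c (i g * i (k * h))) _ fun _ => rfl,
        Finset.sum_congr rfl fun h _ => (hmove h).trans (hpt h), Finset.sum_comm,
        Finset.sum_congr rfl (g := fun δ : Γ =>
          ((Finset.univ.filter fun h : G => i h = t).card : ℂ) * psiG c (γ₁⁻¹ * δ)) fun δ _ => by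
          rw [← Finset.sum_filter, Finset.sum_const, nsmul_eq_mul, hK δ],
        ← Finset.mul_sum, hsum0, mul_zero]
  have hshift : ∀ k g : G, ∑ h : G, psiG c (k⁻¹ * (i g * i h) * k) = S (k⁻¹ * g) := fun k g =>
    Fintype.sum_equiv (Equiv.mulLeft k⁻¹) _ (fun h => psiG c (i (k⁻¹ * g) * i h)) fun h => by
      congr 1
      show k⁻¹ * (g * t * g⁻¹ * (h * t * h⁻¹)) * k = k⁻¹ * g * t * (k⁻¹ * g)⁻¹ * (k⁻¹ * h * t * (k⁻¹ * h)⁻¹)
      group
  have hall : ∀ g, ∑ h : G, bigP c (i g * i h) = A⁻¹ * ∑ k : G, S (k⁻¹ * g) := fun g => by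
    simp only [bigP_apply, ← Finset.mul_sum, ← hA]
    rw [Finset.sum_comm, Finset.sum_congr rfl fun k _ => hshift k g]
  have hSsum : ∀ k : G, ∑ g : G, S (k⁻¹ * g) = A * (A * (m - 1)) := fun k => by
    rw [Fintype.sum_equiv (Equiv.mulLeft k⁻¹) (fun g => S (k⁻¹ * g)) S fun _ => rfl,
      Finset.sum_congr rfl fun g _ => hS g, Finset.sum_ite, Finset.sum_const, Finset.sum_const_zero, add_zero,
      ← Fintype.card_subtype, ← Nat.card_eq_fintype_card, card_move c c, nsmul_eq_mul]
  show ∑ g : G, ∑ h : G, bigP c (i g * i h) = _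
  rw [Finset.sum_congr rfl fun g _ => hall g, ← Finset.mul_sum, Finset.sum_comm,
    Finset.sum_congr rfl fun k _ => hSsum k, Finset.sum_const, Finset.card_univ, nsmul_eq_mul,
    ← Nat.card_eq_fintype_card, card_group c, Nat.cast_mul]
  have hA0 : A ≠ 0 := Nat.cast_ne_zero.2 Nat.card_pos.ne'
  rw [← hA]
  field_simp

end Torus

end Cfsg.Agent.SEB
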