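import Cfsg.Agent.Lib.Bender.EndgameKernel
import Cfsg.Agent.Lib.Bender.Solvable.ElementarySwap

/-!
# Solvability of a strongly embedded subgroup: the characters of the torus

The free group of order `2 r` splits the non-trivial characters of `Γ` into `M` orbits.
-/

set_option autoImplicit false
set_option linter.style.haveILetI false
set_option linter.unusedSectionVars false

namespace Cfsg.Agent.SEB

open Cfsg Cfsg.Agent.Char

universe u

variable {G : Type u} [Group G] {Γ B : Subgroup G}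

/-- Conjugation by `b` as an automorphism of `Γ`. -/
def cjAut (hn : ∀ b ∈ B, ∀ γ ∈ Γ, b * γ * b⁻¹ ∈ Γ) (b : B) : MulAut Γ where
  toFun f := ⟨(b : G) * f * (b : G)⁻¹, hn _ b.2 _ f.2⟩
  invFun f := ⟨(b : G)⁻¹ * f * (b : G), by
    have := hn _ (inv_mem b.2) _ f.2
    rwa [inv_inv] at this⟩
  left_inv f := Subtype.ext (by group)
  right_inv f := Subtype.ext (by group)
  map_mul' f f' := Subtype.ext (by simp only [Subgroup.coe_mul]; group)

theorem cjAut_apply (hn : ∀ b ∈ B, ∀ γ ∈ Γ, b * γ * b⁻¹ ∈ Γ) (b : B) (f : Γ) :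
    ((cjAut hn b f : Γ) : G) = (b : G) * f * (b : G)⁻¹ := rfl

/-- The trivial character. -/
def trivIrr (A : Type u) [Group A] [Finite A] : IrrCharacter A := ⟨fun _ => 1, isIrrCharacter_one⟩

/-- The twist of a character of `Γ` by an element of `B`. -/
noncomputable def tw [Fintype Γ] (hn : ∀ b ∈ B, ∀ γ ∈ Γ, b * γ * b⁻¹ ∈ Γ) (b : B) (θ : IrrCharacter Γ) :
    IrrCharacter Γ := irrComp (cjAut hn b) θ

theorem tw_apply [Fintype Γ] (hn : ∀ b ∈ B, ∀ γ ∈ Γ, b * γ * b⁻¹ ∈ Γ) (b : B) (θ : IrrCharacter Γ) (f : Γ) :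
    (tw hn b θ : Γ → ℂ) f = (θ : Γ → ℂ) (cjAut hn b f) := rfl

variable [Finite G] {r : ℕ}

/-- The orbits of `B` on the non-trivial characters. -/
theorem exists_reps [Fintype Γ] (hF : Frob Γ B r) (hcard : Nat.card Γ = 2 ^ r - 1)
    (hab : ∀ γ ∈ Γ, ∀ δ ∈ Γ, γ * δ = δ * γ) :
    ∃ (M : ℕ) (lam : Fin M → IrrCharacter Γ), 2 * r * M + 2 = 2 ^ r ∧
      (∀ i b, tw hF.norm b (lam i) ≠ trivIrr Γ) ∧
      (∀ i j b, tw hF.norm b (lam i) = lam j → i = j ∧ b = 1) ∧
      ∀ f : IrrCharacter Γ → ℂ, ∀ [Fintype B], ∑ θ, f θ = f (trivIrr Γ) + ∑ i, ∑ b : B, f (tw hF.norm b (lam i)) := by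
  classical
  have happ : ∀ b b' : B, ∀ f : Γ, cjAut hF.norm b (cjAut hF.norm b' f) = cjAut hF.norm (b * b') f := fun b b' f =>
    Subtype.ext (by rw [cjAut_apply, cjAut_apply, cjAut_apply, Subgroup.coe_mul]; group)
  have hone : ∀ f : Γ, cjAut hF.norm (1 : B) f = f := fun f => Subtype.ext (by rw [cjAut_apply]; simp)
  have htriv : ∀ b : B, tw hF.norm b (trivIrr Γ) = trivIrr Γ := fun b => rfl
  have hmul : ∀ (b b' : B) θ, tw hF.norm b (tw hF.norm b' θ) = tw hF.norm (b' * b) θ := fun b b' θ =>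
    Subtype.ext (funext fun f => by rw [tw_apply, tw_apply, tw_apply, happ])
  have htw1 : ∀ θ, tw hF.norm (1 : B) θ = θ := fun θ => Subtype.ext (funext fun f => by rw [tw_apply, hone])
  have hne : ∀ (b : B) θ, θ ≠ trivIrr Γ → tw hF.norm b θ ≠ trivIrr Γ := fun b θ hθ e => hθ (by
    rw [← htw1 θ, ← mul_inv_cancel b, ← hmul, e, htriv])
  let T := {θ : IrrCharacter Γ // θ ≠ trivIrr Γ}
  letI : MulAction B T :=
    { smul := fun b θ => ⟨tw hF.norm b⁻¹ θ.1, hne _ _ θ.2⟩
      one_smul := fun θ => Subtype.ext (by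
        show tw hF.norm (1 : B)⁻¹ θ.1 = θ.1
        rw [inv_one, htw1])
      mul_smul := fun b b' θ => Subtype.ext (by
        show tw hF.norm (b * b')⁻¹ θ.1 = tw hF.norm b⁻¹ (tw hF.norm b'⁻¹ θ.1)
        rw [hmul, mul_inv_rev]) }
  have hfree : ∀ (b : B) θ, θ ≠ trivIrr Γ → tw hF.norm b θ = θ → b = 1 := fun b θ hθ h => by
    by_contra hb
    refine hθ (Subtype.ext ((Endgame.eq_one_of_fixed (cjAut hF.norm b) (fun f hf => ?_) h)))
    rcases hF.free _ b.2 _ f.2 (congrArg Subtype.val hf) with h1 | h1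
    · exact absurd (Subtype.ext h1) hb
    · exact Subtype.ext h1
  let R := MulAction.orbitRel.Quotient B T
  haveI : Fintype R := Fintype.ofFinite R
  let e : Fin (Fintype.card R) ≃ R := (Fintype.equivFin R).symm
  let lam : Fin (Fintype.card R) → IrrCharacter Γ := fun i => (Quotient.out (e i)).1
  have hlam : ∀ i, lam i ≠ trivIrr Γ := fun i => (Quotient.out (e i)).2
  have hinj : ∀ i j b, tw hF.norm b (lam i) = lam j → i = j ∧ b = 1 := by
    intro i j b h
    have h1 : b⁻¹ • Quotient.out (e i) = Quotient.out (e j) := Subtype.ext (by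
      show tw hF.norm b⁻¹⁻¹ (lam i) = lam j
      rw [inv_inv, h])
    have hij : i = j := e.injective (by
      rw [← Quotient.out_eq (e i), ← Quotient.out_eq (e j)]
      exact Quotient.sound ⟨b, show b • Quotient.out (e j) = Quotient.out (e i) by rw [← h1, smul_inv_smul]⟩)
    subst hij
    exact ⟨rfl, hfree b _ (hlam i) h⟩
  let Φ : Fin (Fintype.card R) × B → T := fun q => ⟨tw hF.norm q.2 (lam q.1), hne _ _ (hlam q.1)⟩
  have hΦ : Function.Bijective Φ := by
    constructor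
    · rintro ⟨i, b⟩ ⟨j, b'⟩ h
      have h' : tw hF.norm b (lam i) = tw hF.norm b' (lam j) := congrArg Subtype.val h
      obtain ⟨rfl, hb⟩ := hinj i j (b * b'⁻¹) (by rw [← hmul, h', hmul, mul_inv_cancel, htw1])
      exact Prod.ext rfl (mul_inv_eq_one.1 hb)
    · intro θ
      obtain ⟨i, hi⟩ := e.surjective (Quotient.mk'' θ)
      obtain ⟨b, hb⟩ := MulAction.orbitRel_apply.1 (Quotient.mk_out (s := MulAction.orbitRel B T) θ)
      refine ⟨(i, b), Subtype.ext ?_⟩
      show tw hF.norm b (Quotient.out (e i)).1 = θ.1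
      rw [hi]
      show tw hF.norm b (Quotient.out (Quotient.mk (MulAction.orbitRel B T) θ)).1 = θ.1
      rw [← show b • θ = Quotient.out (Quotient.mk (MulAction.orbitRel B T) θ) from hb]
      show tw hF.norm b (tw hF.norm b⁻¹ θ.1) = θ.1
      rw [hmul, inv_mul_cancel, htw1]
  haveI := Fintype.ofFinite T
  have hIrr : Nat.card (IrrCharacter Γ) = Nat.card Γ :=
    (Endgame.irr_comm fun f f' : Γ => Subtype.ext (hab _ f.2 _ f'.2)).1
  have hcardT : Nat.card T = Nat.card Γ - 1 := by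
    rw [← hIrr, Nat.card_eq_fintype_card, Nat.card_eq_fintype_card, Fintype.card_subtype_compl,
      Fintype.card_subtype_eq]
  refine ⟨Fintype.card R, lam, ?_, fun i b => hne b _ (hlam i), hinj, ?_⟩
  · have h := Nat.card_eq_of_bijective Φ hΦ
    rw [Nat.card_prod, Nat.card_fin, hF.card, hcardT, hcard, mul_comm] at h
    have h2 : 2 ≤ 2 ^ r := by
      rcases Nat.eq_zero_or_pos r with rfl | hr
      · have := (Nat.card_pos (α := Γ))
        rw [hcard] at this
        simp at this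
      · exact le_self_pow₀ (by norm_num) (by omega)
    omega
  · intro f inst
    rw [← Finset.add_sum_erase _ _ (Finset.mem_univ (trivIrr Γ)), ← Fintype.sum_prod_type']
    congr 1
    rw [Finset.sum_subtype (Finset.univ.erase (trivIrr Γ)) (p := fun θ => θ ≠ trivIrr Γ) (fun θ => by simp) f]
    exact (Fintype.sum_bijective Φ hΦ _ _ fun q => rfl).symm

end Cfsg.Agent.SEB
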