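import Cfsg.Agent.Lib.Bender.Solvable.ElementaryBase
import Cfsg.Agent.Lib.Bender.EndgameKernel

/-!
# Solvability of a strongly embedded subgroup: the character of the involutions at a point

The point stabiliser is doubly transitive on its involutions; `psi` is the non-trivial constituent of
the permutation character.
-/

set_option autoImplicit false
set_option linter.style.haveILetI false
set_option linter.unusedSectionVars false

open scoped ComplexConjugate

namespace Cfsg.Agent.SEB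

open Cfsg Cfsg.Agent.Char
open Cfsg.Agent.Fusion.SEPairs

universe u

/-- The involutions at a point. -/
abbrev Invol {G : Type u} [Group G] {H : Subgroup G} (c : G ⧸ H) : Type u :=
  {s : G // orderOf s = 2 ∧ s • c = c}

section
variable {G : Type u} [Group G] [Finite G] {H : Subgroup G}

instance involAction (c : G ⧸ H) : MulAction ↥(St c) (Invol c) where
  smul w s := ⟨(w : G) * s.1 * (w : G)⁻¹, smul_involSet w.2 s.2⟩
  one_smul s := Subtype.ext (by show (1 : G) * s.1 * (1 : G)⁻¹ = s.1; group)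
  mul_smul w v s := Subtype.ext (by
    show (w : G) * v * s.1 * ((w : G) * v)⁻¹ = w * (v * s.1 * (v : G)⁻¹) * (w : G)⁻¹
    group)

/-- The permutation character minus one on the point stabiliser. -/
noncomputable def psi (c : G ⧸ H) : ↥(St c) → ℂ := fun g =>
  (Nat.card {s : Invol c // Commute (g : G) s.1} : ℂ) - 1

/-- `psi`, continued by zero. -/
noncomputable def psiG (c : G ⧸ H) : G → ℂ := extendByZero (St c) (psi c)

theorem psiG_mem {c : G ⧸ H} {g : G} (hg : g • c = c) :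
    psiG c g = (Nat.card {s : Invol c // Commute g s.1} : ℂ) - 1 :=
  extendByZero_mem (St c) (psi c) hg

theorem psiG_not_mem {c : G ⧸ H} {g : G} (hg : g • c ≠ c) : psiG c g = 0 :=
  extendByZero_not_mem (St c) (psi c) hg

theorem fixedBy_card (c : G ⧸ H) (g : ↥(St c)) :
    Nat.card (MulAction.fixedBy (Invol c) g) = Nat.card {s : Invol c // Commute (g : G) s.1} := by
  refine Nat.card_congr (Equiv.subtypeEquivRight fun s => ?_)
  rw [MulAction.mem_fixedBy, Subtype.ext_iff]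
  exact mul_inv_eq_iff_eq_mul

theorem psi_class (c : G ⧸ H) {g k : G} (hk : k • c = c) : psiG c (k * g * k⁻¹) = psiG c g := by
  by_cases hg : g • c = c
  · have hgk : (k * g * k⁻¹) • c = c := by
      rw [mul_smul, mul_smul, inv_smul_eq_iff.2 hk.symm, hg, hk]
    rw [psiG_mem hgk, psiG_mem hg]
    congr 2
    refine Nat.card_congr (((MulAction.toPerm (⟨k⁻¹, (St c).inv_mem hk⟩ : ↥(St c))) : Equiv.Perm (Invol c)).subtypeEquiv
      fun s => ?_)
    show Commute (k * g * k⁻¹) s.1 ↔ Commute g (k⁻¹ * s.1 * k⁻¹⁻¹)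
    rw [← Commute.conj_iff (k⁻¹)]
    rw [show k⁻¹ * (k * g * k⁻¹) * k⁻¹⁻¹ = g by group]
  · rw [psiG_not_mem hg, psiG_not_mem fun h => hg ?_]
    rw [mul_smul, mul_smul, inv_smul_eq_iff.2 hk.symm, smul_eq_iff_eq_inv_smul,
      inv_smul_eq_iff.2 hk.symm] at h
    exact h

end

variable {G : Type u} [Group G] [Fintype G] {H : Subgroup G} {c a : G ⧸ H} {Γ : Subgroup G} {x t : G} {r : ℕ}
  (hT : Torus H c a Γ x t r)
include hT

namespace Torus

theorem card_invol : Nat.card (Invol c) = 2 ^ r - 1 := by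
  rw [← hT.hnum]
  exact Bender.card_fixing c

theorem psiG_comm {g : G} (hg : g • c = c) (h : ∀ s : G, orderOf s = 2 → s • c = c → Commute g s) :
    psiG c g = (Nat.card Γ : ℂ) - 1 := by
  rw [psiG_mem hg, hT.hcard, ← hT.card_invol]
  congr 2
  exact Nat.card_congr (Equiv.subtypeUnivEquiv fun s => h s.1 s.2.1 s.2.2)

theorem psiG_one : psiG c 1 = (Nat.card Γ : ℂ) - 1 :=
  hT.psiG_comm (one_smul G c) fun s _ _ => Commute.one_left s

theorem psiG_gamma {γ : G} (hγ : γ ∈ Γ) (hγ1 : γ ≠ 1) : psiG c γ = -1 := by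
  rw [psiG_mem (hT.gamma_le hγ).1,
    Nat.card_eq_zero.2 (Or.inl ⟨fun s => hT.hfree γ hγ hγ1 s.1.1 s.1.2.1 s.1.2.2 s.2⟩), Nat.cast_zero,
    zero_sub]

theorem psiG_outside {d : G} (hd : d ∈ St2 c a) (hdΓ : d ∉ Γ) : psiG c d = 0 := by
  obtain ⟨δ, hδ, z, hz, hz1, rfl⟩ := hT.exists_conj hd hdΓ
  have hone : Nat.card {s : Invol c // Commute (δ⁻¹ * z * δ) s.1} = 1 := by
    have hgen : Subgroup.zpowers z = Subgroup.zpowers x := by
      haveI := Fact.mk hT.hr
      refine Subgroup.eq_of_le_of_card_ge (Subgroup.zpowers_le.2 hz) ?_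
      have hdvd : orderOf z ∣ r := hT.hxo ▸ orderOf_dvd_of_mem_zpowers hz
      rw [Nat.card_zpowers, Nat.card_zpowers, hT.hxo,
        ((Nat.dvd_prime hT.hr).1 hdvd).resolve_left (fun h => hz1 (orderOf_eq_one_iff.1 h))]
    have hδc : δ • c = c := (hT.gamma_le hδ).1
    have hkey : ∀ s : G, orderOf s = 2 → s • c = c → Commute (δ⁻¹ * z * δ) s → δ * s * δ⁻¹ = t := by
      intro s hs hsc h
      have h1 : Commute z (δ * s * δ⁻¹) := by
        have := (Commute.conj_iff δ).2 h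
        rwa [show δ * (δ⁻¹ * z * δ) * δ⁻¹ = z by group] at this
      obtain ⟨i, hi⟩ := Subgroup.mem_zpowers_iff.1 (hgen.symm ▸ Subgroup.mem_zpowers x)
      obtain ⟨hs', hsc'⟩ := smul_involSet hδc ⟨hs, hsc⟩
      exact (hT.hx _ hs' hsc').1 (hi ▸ h1.zpow_left i)
    refine Nat.card_eq_one_iff_unique.2 ⟨⟨fun s s' => ?_⟩, ⟨⟨⟨δ⁻¹ * t * δ⁻¹⁻¹,
      smul_involSet ((St c).inv_mem hδc) ⟨hT.ht, hT.htc⟩⟩, ?_⟩⟩⟩
    · refine Subtype.ext (Subtype.ext (mul_left_cancel (a := δ) (mul_right_cancel (b := δ⁻¹) ?_)))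
      rw [hkey _ s.1.2.1 s.1.2.2 s.2, hkey _ s'.1.2.1 s'.1.2.2 s'.2]
    · show Commute (δ⁻¹ * z * δ) (δ⁻¹ * t * δ⁻¹⁻¹)
      have h := (Commute.conj_iff δ⁻¹).2 (hT.zpowers_comm hz)
      rwa [show δ⁻¹ * z * δ⁻¹⁻¹ = δ⁻¹ * z * δ by group] at h
  rw [psiG_mem hd.1, hone, Nat.cast_one, sub_self]

/-- If the stabiliser of `t` is transitive on the other involutions, `psi` is irreducible. -/
theorem psi_irr (htrans : ∀ s s' : G, orderOf s = 2 → orderOf s' = 2 → s • c = c → s' • c = c → s ≠ t →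
      s' ≠ t → ∃ g : G, g • c = c ∧ g * t * g⁻¹ = t ∧ g * s * g⁻¹ = s') [Fintype ↥(St c)] :
    IsCharacter ↥(St c) (psi c) ∧ classInner (psi c) (psi c) = 1 ∧
      classInner (psi c) (fun _ => (1 : ℂ)) = 0 := by
  classical
  set p : Invol c := ⟨t, hT.ht, hT.htc⟩
  haveI : MulAction.IsPretransitive ↥(St c) (Invol c) := ⟨fun s s' => by
    obtain ⟨γ, hγ, e⟩ := hT.exists_gamma s.2.1 s.2.2
    obtain ⟨γ', hγ', e'⟩ := hT.exists_gamma s'.2.1 s'.2.2
    refine ⟨⟨γ' * γ⁻¹, (mul_mem (hT.gamma_le hγ') (inv_mem (hT.gamma_le hγ))).1⟩, Subtype.ext ?_⟩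
    show γ' * γ⁻¹ * s.1 * (γ' * γ⁻¹)⁻¹ = s'.1
    rw [← e, ← e']
    group⟩
  set S := MulAction.stabilizer ↥(St c) p
  haveI := Fintype.ofFinite S
  set φ : ↥(St c) → ℂ := fun g => (Nat.card (MulAction.fixedBy (Invol c) g) : ℂ) with hφdef
  have hψ : psi c = φ - fun _ => 1 := funext fun g => by
    show _ = (Nat.card (MulAction.fixedBy (Invol c) g) : ℂ) - 1
    rw [fixedBy_card]
    rfl
  have hφ : φ = indFun S (fun _ => 1) := funext fun g => card_fixedBy_eq_indFun p g
  have hφc : IsCharacter ↥(St c) φ := hφ ▸ isCharacter_indFun S isCharacter_one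
  have h1 : classInner φ (fun _ => (1 : ℂ)) = 1 := by
    rw [hφ, frobenius S _ (isClassFunction_character isCharacter_one)]
    exact irr_self isIrrCharacter_one
  have h1' : classInner (fun _ : ↥(St c) => (1 : ℂ)) φ = 1 := by rw [← classInner_symm, h1, map_one]
  have h11 : classInner (fun _ : ↥(St c) => (1 : ℂ)) (fun _ => (1 : ℂ)) = 1 := irr_self isIrrCharacter_one
  have h2 : classInner φ φ = 2 := by
    rw [Endgame.norm_perm p, ← Nat.cast_ofNat]
    congr 1
    obtain ⟨γ, hγ, hγ1⟩ : ∃ γ ∈ Γ, γ ≠ 1 := by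
      haveI : Nontrivial Γ := Finite.one_lt_card_iff_nontrivial.1 (by
        rw [hT.hcard]
        have : 2 ^ 2 ≤ 2 ^ r := Nat.pow_le_pow_right (by norm_num) hT.hr.two_le
        omega)
      obtain ⟨γ, hγ⟩ := exists_ne (1 : Γ)
      exact ⟨γ, γ.2, fun e => hγ (Subtype.ext e)⟩
    set q : Invol c := ⟨γ * t * γ⁻¹, smul_involSet (hT.gamma_le hγ).1 ⟨hT.ht, hT.htc⟩⟩
    have hqp : q.1 ≠ t := fun e => hT.hfree γ hγ hγ1 t hT.ht hT.htc (mul_inv_eq_iff_eq_mul.1 e)
    refine Nat.card_eq_two_iff.2 ⟨Quotient.mk'' p, Quotient.mk'' q, fun e => hqp ?_, Set.eq_univ_of_forall fun z => ?_⟩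
    · obtain ⟨g, hg⟩ := (MulAction.orbitRel_apply).1 (Quotient.eq''.1 e.symm)
      have hg' : g • p = q := hg
      rw [show g • p = p from g.2] at hg'
      exact congrArg Subtype.val hg'.symm
    · induction z using Quotient.inductionOn' with
      | h s =>
        by_cases hs : s.1 = t
        · exact Or.inl (congrArg Quotient.mk'' (Subtype.ext hs : s = p))
        · refine Or.inr (Quotient.eq''.2 (MulAction.orbitRel_apply.2 ?_))
          obtain ⟨g, hgc, hgt, hgs⟩ := htrans q.1 s.1 q.2.1 s.2.1 q.2.2 s.2.2 hqp hs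
          exact ⟨⟨⟨g, hgc⟩, Subtype.ext hgt⟩, Subtype.ext hgs⟩
  have hn : classInner (psi c) (psi c) = 1 := by
    rw [hψ, classInner_sub_left, classInner_sub_right, classInner_sub_right, h2, h1, h1', h11]
    norm_num
  refine ⟨?_, hn, by rw [hψ, classInner_sub_left, h1, h11, sub_self]⟩
  obtain ⟨e, χ, he, hχ⟩ := exists_sign_of_norm_one ⟨φ, _, hφc, isCharacter_one, hψ⟩ hn
  rcases he with rfl | rfl
  · rw [hχ, Int.cast_one, one_smul]
    exact irr_isCharacter χ.2
  · exfalso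
    have h := congrFun hχ 1
    rw [show psi c 1 = (Nat.card Γ : ℂ) - 1 from (psiG_mem (one_smul G c)).symm.trans hT.psiG_one,
      Pi.smul_apply, char_one_eq_deg (irr_isCharacter χ.2), smul_eq_mul] at h
    have hd := deg_pos χ.2
    have h' : ((Nat.card Γ + deg (χ : ↥(St c) → ℂ) : ℕ) : ℂ) = 1 := by
      push_cast
      push_cast at h
      linear_combination h
    have h'' : Nat.card Γ + deg (χ : ↥(St c) → ℂ) = 1 := by exact_mod_cast h'
    have hm : 0 < Nat.card Γ := Nat.card_pos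
    omega

end Torus

end Cfsg.Agent.SEB
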