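import Cfsg.Agent.Lib.Bender.Solvable.Control
import Cfsg.Agent.S0205

/-!
# Solvability of a strongly embedded subgroup: the subgroup generated by the `2`-elements

In the subgroup `T0` generated by the `2`-elements of a point stabiliser every conjugate of an
involution is a conjugate under the pair stabiliser.
-/

set_option autoImplicit false
set_option linter.style.haveILetI false
set_option linter.unusedSectionVars false

open scoped Pointwise

namespace Cfsg.Agent.SEB

open Cfsg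
open Cfsg.Agent.Fusion (SylIn cj)
open Cfsg.Agent.Fusion.SEPairs

universe u

variable {G : Type u} [Group G] [Finite G] {H : Subgroup G}

/-- The subgroup generated by the `2`-elements fixing `c`. -/
def T0 (c : G ⧸ H) : Subgroup G := TwoGen (⊤ : Subgroup G) c

/-- The pair stabiliser in `T0`. -/
def D1 (c a : G ⧸ H) : Subgroup G := T0 c ⊓ St2 c a

theorem T0_le (c : G ⧸ H) : T0 c ≤ St c := (TwoGen_le _ c).trans inf_le_right

theorem mem_T0 {c : G ⧸ H} {g : G} (hgc : g • c = c) {j : ℕ} (hj : g ^ 2 ^ j = 1) : g ∈ T0 c :=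
  mem_TwoGen (Subgroup.mem_top g) hgc hj

theorem invol_mem_T0 {c : G ⧸ H} {g : G} (hgc : g • c = c) (h2 : orderOf g = 2) : g ∈ T0 c :=
  invol_mem_TwoGen (Subgroup.mem_top g) hgc h2

theorem TwoGen_le_T0 (M : Subgroup G) (c : G ⧸ H) : TwoGen M c ≤ T0 c := TwoGen_mono le_top c

theorem St_le_normalizer_T0 (c : G ⧸ H) : St c ≤ Subgroup.normalizer (T0 c : Set G) := fun g hg =>
  TwoGen_normalizer (show g ∈ Subgroup.normalizer ((⊤ : Subgroup G) : Set G) by
    rw [Subgroup.normalizer_eq_top]; exact Subgroup.mem_top g) hg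

theorem D1_le_St2 (c a : G ⧸ H) : D1 c a ≤ St2 c a := inf_le_right

theorem St2_le_normalizer_D1 (c a : G ⧸ H) : St2 c a ≤ Subgroup.normalizer (D1 c a : Set G) := fun g hg => by
  refine Fusion.mem_normalizer_of_cj_le ?_
  rintro _ ⟨x, hx, rfl⟩
  exact ⟨Solv.conj_mem_of_mem_normalizer (St_le_normalizer_T0 c hg.1) hx.1,
    Subgroup.mul_mem _ (Subgroup.mul_mem _ hg hx.2) (Subgroup.inv_mem _ hg)⟩

/-- A normal subgroup of odd index in `T0` is everything. -/
theorem T0_le_of_odd_index {c : G ⧸ H} {K : Subgroup G} (hKn : T0 c ≤ Subgroup.normalizer (K : Set G))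
    (hK : Odd (K.relIndex (T0 c))) : T0 c ≤ K := by
  haveI : (K.subgroupOf (T0 c)).Normal := Subgroup.normal_subgroupOf_of_le_normalizer hKn
  refine (Subgroup.closure_le _).2 ?_
  rintro g ⟨-, hgc, j, hj⟩
  have hg : g ∈ T0 c := mem_T0 hgc hj
  have h1 : orderOf (QuotientGroup.mk (⟨g, hg⟩ : T0 c) : T0 c ⧸ K.subgroupOf (T0 c)) = 1 := by
    refine odd_two_pow (hK.of_dvd_nat ((orderOf_dvd_natCard _).trans (dvd_of_eq ?_))) (j := j) ?_
    · rw [← Subgroup.index_eq_card]; rfl
    · rw [← QuotientGroup.mk_pow, show (⟨g, hg⟩ : T0 c) ^ 2 ^ j = 1 from Subtype.ext hj,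
        QuotientGroup.mk_one]
  rw [orderOf_eq_one_iff, QuotientGroup.eq_one_iff, Subgroup.mem_subgroupOf] at h1
  exact h1

/-- A subgroup of the stabiliser containing `T0` has odd index over it. -/
theorem T0_relIndex_odd (c : G ⧸ H) {N : Subgroup G} (hTN : T0 c ≤ N) (hN : N ≤ St c) :
    Odd ((T0 c).relIndex N) := by
  haveI : Fact (Nat.Prime 2) := ⟨Nat.prime_two⟩
  haveI hn : ((T0 c).subgroupOf N).Normal :=
    Subgroup.normal_subgroupOf_of_le_normalizer (hN.trans (St_le_normalizer_T0 c))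
  refine Nat.not_even_iff_odd.1 fun he => ?_
  obtain ⟨S, -⟩ := (inferInstance : Nonempty (Sylow 2 N)).elim fun S => (⟨S, trivial⟩ : ∃ _ : Sylow 2 N, True)
  refine S.not_dvd_index ((even_iff_two_dvd.1 he).trans (Subgroup.index_dvd_of_le ?_))
  intro g hg
  obtain ⟨j, hj⟩ := S.isPGroup' ⟨g, hg⟩
  exact Subgroup.mem_subgroupOf.2 (mem_T0 (hN g.2) (congrArg (fun z : (S : Subgroup N) => ((z : N) : G)) hj))

/-- A quotient of exponent a prime has order a power of it. -/
theorem relIndex_pow {r : ℕ} [Fact r.Prime] {L X : Subgroup G} (hn : X ≤ Subgroup.normalizer (L : Set G))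
    (hp : ∀ g ∈ X, g ^ r ∈ L) : ∃ j, L.relIndex X = r ^ j := by
  haveI : (L.subgroupOf X).Normal := Subgroup.normal_subgroupOf_of_le_normalizer hn
  have h : IsPGroup r (X ⧸ L.subgroupOf X) := fun q => by
    obtain ⟨g, rfl⟩ := QuotientGroup.mk_surjective q
    exact ⟨1, by rw [pow_one, ← QuotientGroup.mk_pow, QuotientGroup.eq_one_iff]; exact hp g g.2⟩
  obtain ⟨j, hj⟩ := IsPGroup.iff_card.1 h
  exact ⟨j, by rw [Subgroup.relIndex, Subgroup.index_eq_card, hj]⟩

/-- A normal subgroup of `r`-power index and a subgroup of index prime to `r` generate. -/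
theorem exists_mul_of_index {r : ℕ} [Fact r.Prime] {L C X : Subgroup G} (hL : L ≤ X) (hC : C ≤ X)
    (hn : X ≤ Subgroup.normalizer (L : Set G)) (hp : ∀ g ∈ X, g ^ r ∈ L)
    (hr : ¬ r ∣ C.relIndex X) {g : G} (hg : g ∈ X) : ∃ l ∈ L, ∃ e ∈ C, g = l * e := by
  obtain ⟨j, hj⟩ := relIndex_pow hn hp
  have h1 : (L ⊔ C).relIndex X ∣ r ^ j := hj ▸ Subgroup.relIndex_dvd_of_le_left X le_sup_left
  have h2 : (L ⊔ C).relIndex X ∣ C.relIndex X := Subgroup.relIndex_dvd_of_le_left X le_sup_right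
  obtain ⟨i, -, hi⟩ := (Nat.dvd_prime_pow Fact.out).1 h1
  have hi0 : i = 0 := by
    by_contra h
    exact hr ((dvd_pow_self r h).trans (hi ▸ h2))
  have hX : X ≤ L ⊔ C := Subgroup.relIndex_eq_one.1 (by rw [hi, hi0, pow_zero])
  have h : g ∈ ((L ⊔ C : Subgroup G) : Set G) := hX hg
  rw [Subgroup.coe_mul_of_right_le_normalizer_left L C (hC.trans hn)] at h
  obtain ⟨l, hl, e, he, rfl⟩ := h
  exact ⟨l, hl, e, he, rfl⟩

namespace Min

variable (hM : Min H) {c a : G ⧸ H} (hca : a ≠ c) {t : G} (ht : orderOf t = 2) (htc : t • c = c)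
include hM hca ht htc

/-- The centraliser in the pair stabiliser has index the number of involutions. -/
theorem relIndex_cent_St2 : (St2 c a ⊓ Subgroup.centralizer {t}).relIndex (St2 c a) = Bender.numInv H := by
  have h := card_eq_orbit_mul (St2 c a) t {s | orderOf s = 2 ∧ s • c = c} fun s => by
    constructor
    · rintro ⟨hs, hsc⟩
      obtain ⟨d, hdc, hda, hd⟩ := pair_transitive hM.hse hca ht htc hs hsc
      exact ⟨d, ⟨hdc, hda⟩, hd⟩
    · rintro ⟨d, ⟨hdc, -⟩, rfl⟩
      exact smul_involSet hdc ⟨ht, htc⟩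
  rw [← Nat.card_coe_set_eq, show Nat.card ↥{s : G | orderOf s = 2 ∧ s • c = c} = Bender.numInv H from
    Bender.card_fixing c] at h
  have h1 := ((St2 c a ⊓ Subgroup.centralizer {t}).subgroupOf (St2 c a)).card_mul_index
  rw [Solv.card_subgroupOf inf_le_left, h, mul_comm] at h1
  exact Nat.eq_of_mul_eq_mul_right Nat.card_pos h1

/-- The centraliser of the involution is transitive on the other points. -/
theorem cent_transitive {x : G ⧸ H} (hx : x ≠ c) : ∃ g ∈ St c, Commute g t ∧ g • a = x := by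
  obtain ⟨k, hk, rfl⟩ := St_transitive hM.hse hM.hm hca hx
  have hk' := smul_involSet (hk : k • c = c) ⟨ht, htc⟩
  obtain ⟨d, hdc, hdx, hd⟩ := pair_transitive hM.hse hx hk'.1 hk'.2 ht htc
  refine ⟨d * k, mul_mem (hdc : d ∈ St c) hk, mul_inv_eq_iff_eq_mul.1 ?_, by rw [mul_smul, hdx]⟩
  calc d * k * t * (d * k)⁻¹ = d * (k * t * k⁻¹) * d⁻¹ := by group
    _ = t := hd

theorem relIndex_cent_point :
    (St c ⊓ Subgroup.centralizer {t} ⊓ St a).relIndex (St c ⊓ Subgroup.centralizer {t}) + 1 =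
      Nat.card (G ⧸ H) := by
  set A := St c ⊓ Subgroup.centralizer {t}
  rw [← ncard_orbit_sub A a, show MulAction.orbit A a = {c}ᶜ from Set.ext fun x => by
    constructor
    · rintro ⟨⟨g, hg⟩, rfl⟩
      intro h
      exact hca (smul_left_cancel g ((h : g • a = c).trans (hg.1 : g • c = c).symm))
    · intro hx
      obtain ⟨g, hg, hgt, hga⟩ := hM.cent_transitive hca ht htc (x := x) hx
      exact ⟨⟨g, hg, Subgroup.mem_centralizer_singleton_iff.2 hgt.eq⟩, hga⟩]
  rw [← Set.ncard_singleton c, add_comm]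
  exact Set.ncard_add_ncard_compl {c}

omit ht htc t in
/-- A prime dividing the number of involutions is prime to the number of other points. -/
theorem not_dvd_others {r : ℕ} [Fact r.Prime] (hr : r ∣ Bender.numInv H) {k : ℕ}
    (hk : k + 1 = Nat.card (G ⧸ H)) : ¬ r ∣ k := by
  obtain ⟨P, hP, hfix⟩ := hM.sylow_pair hr hca
  have h := (isSylIn_iff.1 hP).isPGroup.card_modEq_card_fixedPoints (G ⧸ H)
  rw [show MulAction.fixedPoints P (G ⧸ H) = {c, a} from hfix ▸ Set.ext fun x =>
    ⟨fun hx g hg => hx ⟨g, hg⟩, fun hx g => hx g.2⟩, Nat.card_coe_set_eq, Set.ncard_pair hca.symm, ← hk] at h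
  intro hd
  have h1 : 1 ≡ 2 [MOD r] := by
    refine Nat.ModEq.trans ?_ h
    simpa using ((Nat.modEq_zero_iff_dvd.2 hd).add_right 1).symm
  exact (Fact.out : r.Prime).not_dvd_one (by simpa using (Nat.modEq_iff_dvd' (by norm_num)).1 h1)

/-- One step of the descent. -/
theorem conj_descend {r : ℕ} [Fact r.Prime] {N M : Subgroup G} (hNc : N ≤ St c)
    (hNn : St c ≤ Subgroup.normalizer (N : Set G)) (hMN : M ≤ N)
    (hMn : St c ≤ Subgroup.normalizer (M : Set G)) (hp : ∀ g ∈ N, g ^ r ∈ M)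
    (hN : ∀ g ∈ N, ∃ d ∈ N ⊓ St2 c a, d * t * d⁻¹ = g * t * g⁻¹) :
    ∀ g ∈ M, ∃ d ∈ M ⊓ St2 c a, d * t * d⁻¹ = g * t * g⁻¹ := by
  intro g hg
  obtain ⟨d, hd, hdg⟩ := hN g (hMN hg)
  set Ct := Subgroup.centralizer ({t} : Set G)
  have hcen : ∀ e ∈ Ct, e * t * e⁻¹ = t := fun e he =>
    mul_inv_eq_iff_eq_mul.2 (Subgroup.mem_centralizer_singleton_iff.1 he)
  by_cases hrm : r ∣ Bender.numInv H
  · set X := N ⊓ Ct
    have hX : g⁻¹ * d ∈ X := ⟨Subgroup.mul_mem _ (Subgroup.inv_mem _ (hMN hg)) hd.1, Subgroup.mem_centralizer_singleton_iff.2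
      (mul_inv_eq_iff_eq_mul.1 (by
        calc g⁻¹ * d * t * (g⁻¹ * d)⁻¹ = g⁻¹ * (d * t * d⁻¹) * g := by group
          _ = g⁻¹ * (g * t * g⁻¹) * g := by rw [hdg]
          _ = t := by group))⟩
    have hr : ¬ r ∣ (X ⊓ St a).relIndex X := by
      intro h
      refine hM.not_dvd_others hca hrm (hM.relIndex_cent_point hca ht htc) (h.trans ?_)
      have hXA : X ≤ St c ⊓ Ct := inf_le_inf_right _ hNc
      have hn : St c ⊓ Ct ≤ Subgroup.normalizer (X : Set G) := fun e he => by
        refine Fusion.mem_normalizer_of_cj_le ?_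
        rintro _ ⟨z, hz, rfl⟩
        exact ⟨Solv.conj_mem_of_mem_normalizer (hNn he.1) hz.1, Subgroup.mul_mem _ (Subgroup.mul_mem _ he.2 hz.2) (Subgroup.inv_mem _ he.2)⟩
      refine dvd_trans (dvd_of_eq ?_)
        (relIndex_dvd_of_normalizes (A := St c ⊓ Ct ⊓ St a) inf_le_left hXA hn)
      rw [← Subgroup.inf_relIndex_right (St c ⊓ Ct ⊓ St a) X]
      congr 1
      exact le_antisymm (le_inf (le_inf (inf_le_left.trans hXA) inf_le_right) inf_le_left)
        (le_inf inf_le_right (inf_le_left.trans inf_le_right))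
    obtain ⟨l, hl, e, he, hle⟩ := exists_mul_of_index (L := M ⊓ Ct) (inf_le_inf_right _ hMN) inf_le_left
      (fun e he => by
        refine Fusion.mem_normalizer_of_cj_le ?_
        rintro _ ⟨z, hz, rfl⟩
        exact ⟨Solv.conj_mem_of_mem_normalizer (hMn (hNc he.1)) hz.1,
          Subgroup.mul_mem _ (Subgroup.mul_mem _ he.2 hz.2) (Subgroup.inv_mem _ he.2)⟩)
      (fun e he => ⟨hp e he.1, pow_mem he.2 r⟩) hr hX
    refine ⟨g * l, ⟨mul_mem hg hl.1, ?_⟩, ?_⟩
    · rw [show g * l = d * e⁻¹ by rw [eq_mul_inv_iff_mul_eq, mul_assoc, ← hle]; group]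
      exact Subgroup.mul_mem _ hd.2 (Subgroup.inv_mem _ ⟨hNc he.1.1, he.2⟩)
    · rw [show g * l * t * (g * l)⁻¹ = g * (l * t * l⁻¹) * g⁻¹ by group, hcen l hl.2]
  · set X := N ⊓ St2 c a
    have hr : ¬ r ∣ (X ⊓ Ct).relIndex X := by
      intro h
      refine hrm (h.trans ?_)
      have hn : St2 c a ≤ Subgroup.normalizer (X : Set G) := fun e he => by
        refine Fusion.mem_normalizer_of_cj_le ?_
        rintro _ ⟨z, hz, rfl⟩
        exact ⟨Solv.conj_mem_of_mem_normalizer (hNn he.1) hz.1, Subgroup.mul_mem _ (Subgroup.mul_mem _ he hz.2) (Subgroup.inv_mem _ he)⟩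
      rw [← hM.relIndex_cent_St2 hca ht htc]
      refine dvd_trans (dvd_of_eq ?_) (relIndex_dvd_of_normalizes (A := St2 c a ⊓ Ct) inf_le_left inf_le_right hn)
      rw [← Subgroup.inf_relIndex_right (St2 c a ⊓ Ct) X]
      congr 1
      exact le_antisymm (le_inf (le_inf (inf_le_left.trans inf_le_right) inf_le_right) inf_le_left)
        (le_inf inf_le_right (inf_le_left.trans inf_le_right))
    obtain ⟨l, hl, e, he, rfl⟩ := exists_mul_of_index (L := M ⊓ St2 c a) (inf_le_inf_right _ hMN) inf_le_left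
      (fun e he => by
        refine Fusion.mem_normalizer_of_cj_le ?_
        rintro _ ⟨z, hz, rfl⟩
        exact ⟨Solv.conj_mem_of_mem_normalizer (hMn he.2.1) hz.1,
          Subgroup.mul_mem _ (Subgroup.mul_mem _ he.2 hz.2) (Subgroup.inv_mem _ he.2)⟩)
      (fun e he => ⟨hp e he.1, pow_mem he.2 r⟩) hr hd
    refine ⟨l, hl, ?_⟩
    rw [← hdg, show l * e * t * (l * e)⁻¹ = l * (e * t * e⁻¹) * l⁻¹ by group, hcen e he.2]

/-- Conjugates of an involution in `T0` are conjugates under the pair stabiliser in it. -/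
theorem conj_D1 {g : G} (hg : g ∈ T0 c) : ∃ d ∈ D1 c a, d * t * d⁻¹ = g * t * g⁻¹ := by
  suffices key : ∀ (n : ℕ) (N : Subgroup G), Nat.card N = n → T0 c ≤ N → N ≤ St c →
      St c ≤ Subgroup.normalizer (N : Set G) → (∀ g ∈ N, ∃ d ∈ N ⊓ St2 c a, d * t * d⁻¹ = g * t * g⁻¹) →
      ∀ g ∈ T0 c, ∃ d ∈ T0 c ⊓ St2 c a, d * t * d⁻¹ = g * t * g⁻¹ from
    key _ (St c) rfl (T0_le c) le_rfl Subgroup.le_normalizer (fun g hg => by
      obtain ⟨d, hdc, hda, hd⟩ := pair_transitive hM.hse hca ht htc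
        (smul_involSet (hg : g • c = c) ⟨ht, htc⟩).1 (smul_involSet (hg : g • c = c) ⟨ht, htc⟩).2
      exact ⟨d, ⟨hdc, hdc, hda⟩, hd⟩) g hg
  intro n
  induction n using Nat.strong_induction_on with
  | _ n ih =>
    intro N hn hTN hNc hNn hN
    by_cases hle : N ≤ T0 c
    · obtain rfl : N = T0 c := le_antisymm hle hTN
      exact hN
    set P := T0 c ⊔ ⁅N, N⁆ with hP
    have hPN : P ≤ N := sup_le hTN (Subgroup.commutator_le.2 fun x hx y hy =>
      mul_mem (mul_mem (mul_mem hx hy) (inv_mem hx)) (inv_mem hy))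
    have hPn : St c ≤ Subgroup.normalizer (P : Set G) := fun e he => by
      refine Fusion.mem_normalizer_of_cj_le ?_
      rw [hP, Fusion.cj_sup, Fusion.cj_commutator, Fusion.cj_eq_self (St_le_normalizer_T0 c he),
        Fusion.cj_eq_self (hNn he)]
    haveI hTnn : ((T0 c).subgroupOf N).Normal :=
      Subgroup.normal_subgroupOf_of_le_normalizer (hNc.trans (St_le_normalizer_T0 c))
    haveI hPnn : (P.subgroupOf N).Normal := Subgroup.normal_subgroupOf_of_le_normalizer (hNc.trans hPn)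
    -- `P` is proper
    have hne : P.relIndex N ≠ 1 := by
      intro h1
      have hNP := Subgroup.relIndex_eq_one.1 h1
      haveI : Group.IsSolvable (N ⧸ (T0 c).subgroupOf N) := S0205.result (by
        rw [← Subgroup.index_eq_card]; exact T0_relIndex_odd c hTN hNc)
      have hntq : Nontrivial (N ⧸ (T0 c).subgroupOf N) := by
        rw [← Finite.one_lt_card_iff_nontrivial, ← Subgroup.index_eq_card]
        have h0 : ((T0 c).subgroupOf N).index ≠ 0 := Subgroup.index_ne_zero_of_finite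
        have h1 : ((T0 c).subgroupOf N).index ≠ 1 := fun h => hle (Subgroup.relIndex_eq_one.1 h)
        omega
      refine (Group.IsSolvable.commutator_lt_top_of_nontrivial (N ⧸ (T0 c).subgroupOf N)).ne ?_
      rw [eq_top_iff]
      rintro q -
      obtain ⟨⟨z, hz⟩, rfl⟩ := QuotientGroup.mk_surjective q
      have hz' : (⟨z, hz⟩ : N) ∈ ((T0 c).subgroupOf N) ⊔ commutator N := by
        have h2 : z ∈ ((T0 c).subgroupOf N ⊔ commutator N).map N.subtype := by
          rw [Subgroup.map_sup, Subgroup.subgroupOf_map_subtype, inf_eq_left.2 hTN,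
            Subgroup.map_subtype_commutator]
          exact hNP hz
        obtain ⟨w, hw, hwz⟩ := h2
        exact (Subtype.ext hwz : w = ⟨z, hz⟩) ▸ hw
      have h3 := Subgroup.mem_map_of_mem (QuotientGroup.mk' ((T0 c).subgroupOf N)) hz'
      rw [Subgroup.map_sup, QuotientGroup.map_mk'_self, bot_sup_eq, commutator_def, Subgroup.map_commutator,
        ← MonoidHom.range_eq_map, QuotientGroup.range_mk'] at h3
      exact h3
    obtain ⟨r, hr, hrdvd⟩ := Nat.exists_prime_and_dvd hne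
    haveI := Fact.mk hr
    set M := P ⊔ Subgroup.closure {z : G | ∃ g ∈ N, g ^ r = z} with hMdef
    have hMN : M ≤ N := sup_le hPN ((Subgroup.closure_le _).2 fun z ⟨g, hg, e⟩ => e ▸ pow_mem hg r)
    have hMn : St c ≤ Subgroup.normalizer (M : Set G) := fun e he => by
      refine Fusion.mem_normalizer_of_cj_le ?_
      rw [hMdef, Fusion.cj_sup, Fusion.cj_eq_self (hPn he)]
      refine sup_le_sup_left ?_ _
      rw [Fusion.cj, MonoidHom.map_closure, Subgroup.closure_le]
      rintro _ ⟨z, ⟨g, hg, rfl⟩, rfl⟩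
      exact Subgroup.subset_closure ⟨e * g * e⁻¹, Solv.conj_mem_of_mem_normalizer (hNn he) hg, conj_pow⟩
    have hp : ∀ g ∈ N, g ^ r ∈ M := fun g hg =>
      Subgroup.mem_sup_right (Subgroup.subset_closure ⟨g, hg, rfl⟩)
    have hMne : M ≠ N := by
      intro hMN'
      obtain ⟨y, hy⟩ := exists_prime_orderOf_dvd_card' (G := N ⧸ P.subgroupOf N) r
        (by rw [← Subgroup.index_eq_card]; exact hrdvd)
      have hcomm : ∀ q q' : N ⧸ P.subgroupOf N, q * q' = q' * q := fun q q' => by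
        obtain ⟨g, rfl⟩ := QuotientGroup.mk_surjective q
        obtain ⟨g', rfl⟩ := QuotientGroup.mk_surjective q'
        rw [← QuotientGroup.mk_mul, ← QuotientGroup.mk_mul, QuotientGroup.eq, Subgroup.mem_subgroupOf]
        refine Subgroup.mem_sup_right ?_
        have h := Subgroup.commutator_mem_commutator (inv_mem g'.2) (inv_mem g.2)
        rw [commutatorElement_def] at h
        simpa [mul_assoc] using h
      letI : CommGroup (N ⧸ P.subgroupOf N) :=
        { (inferInstance : Group (N ⧸ P.subgroupOf N)) with mul_comm := hcomm }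
      set π : (N ⧸ P.subgroupOf N) →* (N ⧸ P.subgroupOf N) := powMonoidHom r with hπ
      have hsurj : Function.Surjective π := fun q => by
        obtain ⟨⟨g, hg⟩, rfl⟩ := QuotientGroup.mk_surjective q
        have h1 : M ≤ ((π.range).comap (QuotientGroup.mk' (P.subgroupOf N))).map N.subtype := by
          refine sup_le (fun z hz => ⟨⟨z, hPN hz⟩, ?_, rfl⟩) ((Subgroup.closure_le _).2 ?_)
          · show QuotientGroup.mk' (P.subgroupOf N) ⟨z, hPN hz⟩ ∈ π.range
            rw [QuotientGroup.mk'_apply, (QuotientGroup.eq_one_iff _).2 (Subgroup.mem_subgroupOf.2 hz)]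
            exact one_mem _
          · rintro _ ⟨w, hw, rfl⟩
            exact ⟨⟨w, hw⟩ ^ r, ⟨QuotientGroup.mk ⟨w, hw⟩, rfl⟩, rfl⟩
        obtain ⟨w, hw, hwg⟩ := h1 (hMN'.symm ▸ hg : g ∈ M)
        rw [← (Subtype.ext hwg : w = ⟨g, hg⟩)]
        exact hw
      have hy1 : π y = π 1 := by
        rw [map_one, hπ, powMonoidHom_apply, ← hy, pow_orderOf_eq_one]
      rw [Finite.injective_iff_surjective.2 hsurj hy1, orderOf_one] at hy
      exact hr.ne_one hy.symm
    refine ih (Nat.card M) ?_ M rfl (le_sup_left.trans le_sup_left) (hMN.trans hNc) hMn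
      (hM.conj_descend hca ht htc hNc hNn hMN hMn hp hN)
    rw [← hn]
    by_contra h
    exact hMne (Subgroup.eq_of_le_of_card_ge hMN (by omega))

end Min

end Cfsg.Agent.SEB
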