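import Cfsg.Agent.Lib.Bender.Solvable.Core

/-!
# Solvability of a strongly embedded subgroup: the Fitting subgroup of a pair stabiliser

When the pair stabiliser in `T0` is non-trivial, `T0` centralises no involution at the point, so no
`p`-subgroup normal in the pair stabiliser does, and the Fitting subgroup involves only primes dividing
the number of involutions.
-/

set_option autoImplicit false
set_option linter.style.haveILetI false
set_option linter.unusedSectionVars false

open scoped Pointwise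

namespace Cfsg.Agent.SEB

open Cfsg
open Cfsg.Agent.Fusion (SylIn cj)
open Cfsg.Agent.Fusion.SEPairs

universe u

variable {G : Type u} [Group G] [Finite G] {H : Subgroup G} {c a : G ⧸ H} {t : G}

theorem Min.numInv_ne_one (hM : Min H) : Bender.numInv H ≠ 1 := fun h1 => by
  refine hM.hm (Nat.eq_one_of_dvd_one ?_)
  rw [← mbar_St_base hM.hse, ← h1, ← hM.numInv_eq (QuotientGroup.mk 1)]
  exact mbar_St_dvd hM.hse _

theorem Min.exists_invol_ne (hM : Min H) (ht : orderOf t = 2) (htc : t • c = c) :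
    ∃ s : G, orderOf s = 2 ∧ s • c = c ∧ s ≠ t := by
  by_contra h
  push Not at h
  refine hM.numInv_ne_one ?_
  rw [← Bender.card_fixing c, Nat.card_eq_one_iff_unique]
  exact ⟨⟨fun s s' => Subtype.ext ((h s.1 s.2.1 s.2.2).trans (h s'.1 s'.2.1 s'.2.2).symm)⟩, ⟨⟨t, ht, htc⟩⟩⟩

/-- An element of `FQ` prime to `q` does not exist. -/
theorem FQ_commute {p q : ℕ} [Fact p.Prime] [Fact q.Prime] (hpq : p ≠ q) {x y : G}
    (hx : x ∈ FQ p c a) (hy : y ∈ FQ q c a) : Commute x y := by
  obtain ⟨x', hx', rfl⟩ := hx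
  obtain ⟨y', hy', rfl⟩ := hy
  haveI := Solv.pCore_normal (G := ↥(St2 c a)) p
  haveI := Solv.pCore_normal (G := ↥(St2 c a)) q
  refine Commute.map (Subgroup.commute_of_normal_of_disjoint _ _ ‹_› ‹_› ?_ x' y' hx' hy') (St2 c a).subtype
  rw [disjoint_iff]
  exact IsPGroup.disjoint_of_ne p q hpq _ _ (Solv.pCore_isPGroup p) (Solv.pCore_isPGroup q) |>.eq_bot

variable (hM : Min H) (hIF : InvertFree H) (hFR : FixRich H) (hca : a ≠ c) (hne : D1 c a ≠ ⊥)
  (ht : orderOf t = 2) (htc : t • c = c)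
include hM hIF hFR hca hne ht htc

namespace Min

/-- A transfer prime and its element for a given involution. -/
theorem exists_core : ∃ x r R, Core c a t x r R := by
  haveI : Group.IsSolvable ↥(D1 c a) :=
    S0205.result ((St2_odd hM.hse hca.symm).of_dvd_nat (Subgroup.card_dvd_of_le (D1_le_St2 c a)))
  haveI : Nontrivial ↥(D1 c a) := (Subgroup.nontrivial_iff_ne_bot _).2 hne
  have hlt := Group.IsSolvable.commutator_lt_top_of_nontrivial ↥(D1 c a)
  obtain ⟨r, hr, hrd⟩ := Nat.exists_prime_and_dvd (n := (commutator ↥(D1 c a)).index)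
    (fun h => hlt.ne (Subgroup.index_eq_one.1 h))
  haveI := Fact.mk hr
  obtain ⟨P⟩ : Nonempty (Sylow r ↥(D1 c a)) := inferInstance
  have hab : ¬ (P : Subgroup ↥(D1 c a)).map (D1 c a).subtype ≤ ⁅D1 c a, D1 c a⁆ := fun h => by
    rw [← Subgroup.map_subtype_commutator,
      Subgroup.map_le_map_iff_of_injective (D1 c a).subtype_injective] at h
    exact P.not_dvd_index (hrd.trans (Subgroup.index_dvd_of_le h))
  obtain ⟨x, R, hC⟩ := hM.exists_core_prime hIF hFR hca (Fusion.sylIn_map _ P) hab ht htc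
  exact ⟨x, r, R, hC⟩

/-- `T0` centralises no involution at the point. -/
theorem not_central : ¬ ∀ g ∈ T0 c, g * t * g⁻¹ = t := fun h => by
  obtain ⟨x, r, R, C⟩ := hM.exists_core hIF hFR hca hne ht htc
  obtain ⟨s, hs, hsc, hst⟩ := hM.exists_invol_ne ht htc
  exact hst (C.unique hM hIF hFR hca ht htc hs hsc
    (mul_inv_eq_iff_eq_mul.1 (hM.central_all hca ht htc h hs hsc x C.mem_T0)))

/-- No subgroup normal in the pair stabiliser centralises an involution at the point. -/
theorem no_normal_D {p : ℕ} [Fact p.Prime] {X : Subgroup G} (hXp : IsPGroup p X) (hX : X ≠ ⊥)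
    (hXD : X ≤ St2 c a) (hXn : St2 c a ≤ Subgroup.normalizer (X : Set G))
    (htX : t ∈ Subgroup.centralizer (X : Set G)) : False :=
  hM.not_central hIF hFR hca hne ht htc (hM.central_of_normal hIF hFR hca (N := St c) (T0_le c) le_rfl
    Subgroup.le_normalizer hXp hX (le_inf (fun y hy => (hXD hy).1) hXD)
    (inf_le_right.trans hXn) ht htc htX fun g hg => by
      obtain ⟨d, hdc, hda, hd⟩ := pair_transitive hM.hse hca ht htc
        (smul_involSet (hg : g • c = c) ⟨ht, htc⟩).1 (smul_involSet (hg : g • c = c) ⟨ht, htc⟩).2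
      exact ⟨d, ⟨hdc, hdc, hda⟩, hd⟩)

/-- No subgroup normal in the pair stabiliser of `T0` centralises an involution at the point. -/
theorem no_normal_D1 {p : ℕ} [Fact p.Prime] {X : Subgroup G} (hXp : IsPGroup p X) (hX : X ≠ ⊥)
    (hXD : X ≤ D1 c a) (hXn : D1 c a ≤ Subgroup.normalizer (X : Set G))
    (htX : t ∈ Subgroup.centralizer (X : Set G)) : False :=
  hM.not_central hIF hFR hca hne ht htc (hM.central_of_normal hIF hFR hca (N := T0 c) le_rfl (T0_le c)
    (St_le_normalizer_T0 c) hXp hX hXD hXn ht htc htX fun g hg => hM.conj_D1 hca ht htc hg)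

/-- The primes of the Fitting subgroup divide the number of involutions. -/
theorem dvd_of_FQ {q : ℕ} [Fact q.Prime] (hq : FQ q c a ≠ ⊥) : q ∣ Bender.numInv H := by
  by_contra hqm
  let S := {s : G // orderOf s = 2 ∧ s • c = c}
  letI : MulAction (FQ q c a) S :=
    { smul := fun z s => ⟨(z : G) * s.1 * (z : G)⁻¹, smul_involSet (FQ_le q c a z.2).1 s.2⟩
      one_smul := fun s => Subtype.ext (by show (1 : G) * s.1 * (1 : G)⁻¹ = s.1; group)
      mul_smul := fun z w s => Subtype.ext (by
        show (z : G) * w * s.1 * ((z : G) * w)⁻¹ = z * (w * s.1 * (w : G)⁻¹) * (z : G)⁻¹; group) }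
  obtain ⟨⟨s, hs, hsc⟩, hfix⟩ := (FQ_isPGroup q c a).nonempty_fixed_point_of_prime_not_dvd_card S
    (by rwa [Bender.card_fixing c])
  exact hM.no_normal_D hIF hFR hca hne hs hsc (FQ_isPGroup q c a) hq (FQ_le q c a) (FQ_normalizer q c a)
    (Subgroup.mem_centralizer_iff.2 fun z hz =>
      mul_inv_eq_iff_eq_mul.1 (congrArg Subtype.val (hfix ⟨z, hz⟩)))

/-- A prime of the Fitting subgroup gives a non-trivial `FQ`. -/
theorem prime_of_mem_FD {g : G} (hg : g ∈ FD c a) {q : ℕ} [Fact q.Prime] (hgo : orderOf g = q) :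
    g ∈ FQ q c a ∧ q ∣ Bender.numInv H := by
  have h := mem_FQ (q := q) hg (k := 1) (by rw [pow_one, hgo])
  refine ⟨h, hM.dvd_of_FQ hIF hFR hca hne ht htc fun h0 => ?_⟩
  rw [h0, Subgroup.mem_bot] at h
  rw [h, orderOf_one] at hgo
  exact (Fact.out : q.Prime).ne_one hgo.symm

/-- A transfer prime is prime to the Fitting subgroup. -/
theorem not_dvd_FD {x : G} {r : ℕ} {R : Subgroup G} (C : Core c a t x r R) :
    ¬ r ∣ Nat.card ↥(FD c a) := fun h => by
  haveI := Fact.mk C.prime
  obtain ⟨⟨g, hg⟩, hgo⟩ := exists_prime_orderOf_dvd_card' r h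
  rw [Subgroup.orderOf_mk] at hgo
  exact C.not_dvd hM hIF hFR hca ht htc (hM.prime_of_mem_FD hIF hFR hca hne ht htc hg hgo).2

end Min

end Cfsg.Agent.SEB
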