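import Cfsg.Agent.Lib.Solv.Kulakoff
import Cfsg.Agent.Lib.Solv.Generation
import Cfsg.Agent.Lib.Solv.Basic

/-!
# Semiregular subgroups of a solvable transitive group

An `r`-subgroup of a point stabiliser of a solvable transitive group, semiregular on the other points,
induces a cyclic group.
-/

set_option autoImplicit false
set_option linter.style.haveILetI false
set_option linter.unusedSectionVars false

namespace Cfsg.Agent.SEB

open Cfsg MulAction

universe u v

/-- The faithful case. -/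
theorem cyclic_of_semiregular_faithful {X : Type u} {Ω : Type v} [Group X] [Finite X] [Finite Ω]
    [MulAction X Ω] [IsPretransitive X Ω] (hfaith : ∀ g : X, (∀ w : Ω, g • w = w) → g = 1)
    (hsol : Group.IsSolvable X) {c : Ω} (hΩ : ∃ e : Ω, e ≠ c) {r : ℕ} [Fact r.Prime] (hr : Odd r)
    {T : Subgroup X} (hT : IsPGroup r T) (hTc : T ≤ stabilizer X c)
    (hsemi : ∀ g ∈ T, ∀ e : Ω, e ≠ c → g • e = e → g = 1) : IsCyclic T := by
  classical
  obtain ⟨e₀, he₀⟩ := hΩ
  haveI : Nontrivial X := by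
    obtain ⟨g, hg⟩ := exists_smul_eq X c e₀
    exact ⟨⟨g, 1, fun e => he₀ (by rw [← hg, e, one_smul])⟩⟩
  haveI := hsol
  obtain ⟨N, hNn, hN1, hNmin⟩ := Solv.exists_minimal_normal (G := X)
  obtain ⟨hNab, l, hl, hexp, hNl⟩ := Solv.minimal_normal_elementaryAbelian N inferInstance hN1 hNmin
  haveI := Fact.mk hl
  -- `N` moves `c`
  obtain ⟨n₀, hn₀, hn₀c⟩ : ∃ n ∈ N, n • c ≠ c := by
    by_contra h
    push Not at h
    obtain ⟨n, hn, hn1⟩ := (Subgroup.bot_or_exists_ne_one N).resolve_left hN1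
    refine hn1 (hfaith n fun w => ?_)
    obtain ⟨g, rfl⟩ := exists_smul_eq X c w
    have h1 := h (g⁻¹ * n * g⁻¹⁻¹) (hNn.conj_mem n hn g⁻¹)
    rw [inv_inv, mul_smul, mul_smul, inv_smul_eq_iff] at h1
    exact h1
  by_contra hnc
  obtain ⟨E, -, hEe, hEc⟩ := Solv.exists_normal_elementary_sq (p := r)
    (fun e => by rw [e] at hr; exact absurd hr (by decide)) hT hnc
  set A := E.map T.subtype with hA
  have hAT : A ≤ T := Subgroup.map_subtype_le E
  have hAc : Nat.card A = r ^ 2 := by rw [hA, Subgroup.card_map_of_injective T.subtype_injective, hEc]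
  have hAexp : ∀ g ∈ A, g ^ r = 1 := by
    rintro _ ⟨g, hg, rfl⟩
    rw [← map_pow, hEe.2 g hg, map_one]
  have hAcomm : IsMulCommutative A := ⟨⟨fun s t => by
    obtain ⟨_, ⟨s, hs, rfl⟩⟩ := s
    obtain ⟨_, ⟨t, ht, rfl⟩⟩ := t
    haveI := hEe.1
    exact Subtype.ext (congrArg (fun e : E => ((e : T) : X)) (mul_comm' (⟨s, hs⟩ : E) ⟨t, ht⟩))⟩⟩
  have hr1 : 1 < r := (Fact.out : r.Prime).one_lt
  -- elements of `A` move every other point of the orbit of `N`
  have hAN : A ≤ Subgroup.normalizer (N : Set X) := by rw [Subgroup.normalizer_eq_top]; exact le_top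
  have hlr : l ≠ r := by
    intro e
    rw [e] at hNl
    obtain ⟨g, hg, hg1⟩ := (Subgroup.bot_or_exists_ne_one A).resolve_left fun e => by
      rw [e, Subgroup.card_bot] at hAc
      exact absurd hAc (Nat.one_lt_pow two_ne_zero hr1).ne
    -- the group generated by `g` on the orbit of `N` has only one fixed point
    have horb : ∀ k : Subgroup.zpowers g, ∀ w ∈ orbit N c, (k : X) • w ∈ orbit N c := by
      rintro k _ ⟨n, rfl⟩
      refine ⟨⟨(k : X) * n * (k : X)⁻¹, hNn.conj_mem n n.2 _⟩, ?_⟩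
      have hkc : (k : X) • c = c := hTc (hAT ((Subgroup.zpowers_le.2 hg) k.2))
      show ((k : X) * n * (k : X)⁻¹) • c = (k : X) • (n : X) • c
      rw [mul_smul, mul_smul, inv_smul_eq_iff.2 hkc.symm]
    letI : MulAction (Subgroup.zpowers g) (orbit N c) :=
      { smul := fun k w => ⟨(k : X) • (w : Ω), horb k w w.2⟩
        one_smul := fun w => Subtype.ext (one_smul X (w : Ω))
        mul_smul := fun k k' w => Subtype.ext (mul_smul (k : X) (k' : X) (w : Ω)) }
    have hgp : IsPGroup r (Subgroup.zpowers g) := hT.to_le ((Subgroup.zpowers_le.2 hg).trans hAT)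
    have h1 := hgp.card_modEq_card_fixedPoints (orbit N c)
    have h2 : Nat.card (fixedPoints (Subgroup.zpowers g) (orbit N c)) = 1 := by
      refine Nat.card_eq_one_iff_unique.2 ⟨⟨fun w w' => ?_⟩, ⟨⟨⟨c, mem_orbit_self c⟩, fun k => ?_⟩⟩⟩
      · have key : ∀ w : fixedPoints (Subgroup.zpowers g) (orbit N c), ((w : orbit N c) : Ω) = c := fun w => by
          by_contra hne
          exact hg1 (hsemi g (hAT hg) _ hne (congrArg Subtype.val (w.2 ⟨g, Subgroup.mem_zpowers g⟩)))
        exact Subtype.ext (Subtype.ext ((key w).trans (key w').symm))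
      · exact Subtype.ext (hTc (hAT ((Subgroup.zpowers_le.2 hg) k.2)))
    rw [h2] at h1
    obtain ⟨a, ha⟩ := hNl.card_orbit c
    have ha0 : a ≠ 0 := by
      rintro rfl
      rw [pow_zero, Nat.card_eq_one_iff_unique] at ha
      haveI := ha.1
      exact hn₀c (congrArg Subtype.val (Subsingleton.elim (⟨n₀ • c, ⟨⟨n₀, hn₀⟩, rfl⟩⟩ : orbit N c)
        ⟨c, mem_orbit_self c⟩))
    rw [ha] at h1
    have h3 : r ^ a % r = 1 % r := h1
    rw [Nat.mod_eq_zero_of_dvd (dvd_pow_self r ha0), Nat.one_mod_eq_one.2 (by omega)] at h3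
    exact zero_ne_one h3
  have hco : (Nat.card A).Coprime (Nat.card N) := by
    obtain ⟨k, hk⟩ := IsPGroup.iff_card.1 hNl
    rw [hAc, hk]
    exact Nat.Coprime.pow _ _ ((Nat.coprime_primes Fact.out hl).2 hlr.symm)
  have hgen := Solv.gen_pgroup A hAcomm _ N rfl hNl hAN hco
  -- every fixed part of a non-trivial element fixes `c`
  refine hn₀c (show n₀ ∈ stabilizer X c from (hgen.trans (iSup₂_le fun B hB => ?_)) hn₀)
  obtain ⟨hBA, a, haA, hBa⟩ := hB
  have hB1 : B ≠ ⊥ := by
    rintro rfl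
    rw [bot_sup_eq] at hBa
    have h1 : Nat.card A ≤ r := by
      rw [← hBa, Nat.card_zpowers]
      exact Nat.le_of_dvd (by omega) (orderOf_dvd_of_pow_eq_one (hAexp a haA))
    rw [hAc] at h1
    nlinarith
  obtain ⟨b, hb, hb1⟩ := (Subgroup.bot_or_exists_ne_one B).resolve_left hB1
  rintro n ⟨-, hnB⟩
  show n • c = c
  by_contra hne
  refine hb1 (hsemi b (hAT (hBA hb)) _ hne ?_)
  rw [smul_smul, show b * n = n * b from hnB b hb, mul_smul, show b • c = c from hTc (hAT (hBA hb))]

/-- **A semiregular `r`-subgroup of a solvable transitive group induces a cyclic group.** -/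
theorem image_cyclic_of_semiregular {X : Type u} {Ω : Type v} [Group X] [Finite X] [Finite Ω]
    [MulAction X Ω] [IsPretransitive X Ω] (hsol : Group.IsSolvable X) {c : Ω} (hΩ : ∃ e : Ω, e ≠ c)
    {r : ℕ} [Fact r.Prime] (hr : Odd r) {T : Subgroup X} (hT : IsPGroup r T) (hTc : T ≤ stabilizer X c)
    (hsemi : ∀ g ∈ T, ∀ e : Ω, e ≠ c → g • e = e → ∀ w : Ω, g • w = w) :
    IsCyclic ↥(T.map (toPermHom X Ω)) := by
  classical
  set f := toPermHom X Ω
  set T' := T.map f
  have hT'X : T' ≤ f.range := MonoidHom.range_eq_map f ▸ Subgroup.map_mono le_top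
  haveI : IsPretransitive f.range Ω := ⟨fun x y => by
    obtain ⟨g, hg⟩ := exists_smul_eq X x y
    exact ⟨⟨f g, g, rfl⟩, hg⟩⟩
  haveI := hsol
  have h := cyclic_of_semiregular_faithful (X := f.range) (Ω := Ω) (c := c) (T := T'.subgroupOf f.range)
    (fun g hg => Subtype.ext (Equiv.ext fun w => hg w))
    (Group.isSolvable_of_surjective f.rangeRestrict_surjective) hΩ hr
    ((hT.map f).of_equiv (Subgroup.subgroupOfEquivOfLe hT'X).symm) (fun g hg => by
      obtain ⟨k, hk, e⟩ := Subgroup.mem_subgroupOf.1 hg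
      show ((g : Equiv.Perm Ω)) c = c
      rw [← e]
      exact hTc hk)
    fun g hg e he hge => by
      obtain ⟨k, hk, ek⟩ := Subgroup.mem_subgroupOf.1 hg
      refine Subtype.ext (Equiv.ext fun w => ?_)
      have hge' : (g : Equiv.Perm Ω) e = e := hge
      rw [← ek] at hge' ⊢
      exact hsemi k hk e he hge' w
  exact (Subgroup.subgroupOfEquivOfLe hT'X).isCyclic.1 h

end Cfsg.Agent.SEB
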