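import Cfsg.Agent.Lib.Bender.Solvable.Fit
import Cfsg.Agent.Lib.Bender.Solvable.Semiregular
import Cfsg.Agent.Lib.Solv.Coprime

/-!
# Solvability of a strongly embedded subgroup: the element fixes nothing in the Fitting subgroup

A non-trivial fixed point of `x` in the Fitting subgroup of the pair stabiliser gives a subgroup `S` of
order a power of `q` centralising `x`, with `r ∣ q - 1`; a larger `r`-subgroup of the centraliser of `x`
is cyclic modulo `x` and `S` acts on it without fixed points, so `q ∣ r - 1`, which is impossible.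
-/

set_option autoImplicit false
set_option linter.style.haveILetI false
set_option linter.unusedSectionVars false

open scoped Pointwise

namespace Cfsg.Agent.SEB

open Cfsg
open Cfsg.Agent.Fusion (SylIn cj)
open Cfsg.Agent.Fusion.SEPairs

universe u

variable {G : Type u} [Group G] [Finite G] {H : Subgroup G}

/-- Going up from a Sylow subgroup of the pair stabiliser inside a split subgroup. -/
theorem Split.sylow_up' (hse : Cfsg.IsStronglyEmbedded H) {Y Q : Subgroup G} {c a : G ⧸ H} (hca : a ≠ c)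
    (hs : Split Y c) (hYa : Y ≤ St a) (hQY : Q ≤ Y) {p : ℕ} [Fact p.Prime] (hp : p ≠ 2) {C : Subgroup G}
    (hCc : C ≤ St c)
    (hCn : TwoGen (Subgroup.centralizer (Y : Set G)) c ≤ Subgroup.normalizer (C : Set G))
    (hnorm : ∀ g ∈ C, g ∈ Subgroup.normalizer (Q : Set G) → g ∈ Subgroup.normalizer (Y : Set G))
    (hQ : SylIn p Q (C ⊓ St2 c a)) : SylIn p Q C := by
  obtain ⟨S, hS, hQS⟩ := Fusion.exists_sylIn_ge hQ.isPGroup (hQ.le.trans inf_le_left)
  by_contra hne
  have hne' : Q ≠ S := fun h => hne (h ▸ hS)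
  have hlt := Fusion.SylIn.normalizer_growth hQS hne' hS.isPGroup
  set Q' := S ⊓ Subgroup.normalizer (Q : Set G)
  obtain ⟨e, he, hec, hle⟩ := hs.exists_fix hse hca (fun y hy => hYa hy) hp (R := Q')
    (hS.isPGroup.to_le inf_le_left) (fun g hg => hnorm g (hS.le hg.1) hg.2)
    (inf_le_left.trans (hS.le.trans hCc))
  obtain ⟨q, hq, hqe⟩ := hs.trans a (fun y hy => hYa hy) e he hca hec
  have hqc : q • c = c := (TwoGen_le _ c hq).2
  have hsub : cj Q' q⁻¹ ≤ C ⊓ St2 c a := by
    rintro _ ⟨y, hy, rfl⟩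
    show q⁻¹ * y * q⁻¹⁻¹ ∈ C ⊓ St2 c a
    refine ⟨Solv.conj_mem_of_mem_normalizer (inv_mem (hCn hq)) (hS.le hy.1), ?_, ?_⟩
    · exact Subgroup.mul_mem _ (Subgroup.mul_mem _ (Subgroup.inv_mem _ hqc) (hCc (hS.le hy.1)))
        (Subgroup.inv_mem _ (Subgroup.inv_mem _ hqc))
    · show (q⁻¹ * y * q⁻¹⁻¹) • a = a
      have hye : y • e = e := hle hy
      rw [inv_inv, mul_smul, mul_smul, hqe, hye, inv_smul_eq_iff, hqe]
  have hQq : Q ≤ cj Q' q⁻¹ := fun y hy => by
    refine Fusion.mem_cj.2 (?_ : q⁻¹⁻¹ * y * q⁻¹ ∈ Q')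
    rw [inv_inv, ← Subgroup.mem_centralizer_iff.1 (TwoGen_le _ c hq).1 y (hQY hy), mul_inv_cancel_right]
    exact hlt.le hy
  have h1 := Subgroup.card_le_of_le (hQ.eq_of_le (Fusion.isPGroup_cj (hS.isPGroup.to_le inf_le_left) _)
    hQq hsub).le
  rw [Fusion.card_cj] at h1
  exact hlt.ne (Subgroup.eq_of_le_of_card_ge hlt.le h1)

theorem zpowers_conj_mem {g x : G} (h : g * x * g⁻¹ ∈ Subgroup.zpowers x) :
    g ∈ Subgroup.normalizer ((Subgroup.zpowers x : Subgroup G) : Set G) := by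
  refine Fusion.mem_normalizer_of_cj_le ?_
  rintro _ ⟨w, hw, rfl⟩
  obtain ⟨i, rfl⟩ := Subgroup.mem_zpowers_iff.1 hw
  show g * x ^ i * g⁻¹ ∈ Subgroup.zpowers x
  rw [← conj_zpow]
  exact Subgroup.zpow_mem _ h i

theorem mem_normalizer_sup {X Y : Subgroup G} {g : G} (hX : g ∈ Subgroup.normalizer (X : Set G))
    (hY : g ∈ Subgroup.normalizer (Y : Set G)) : g ∈ Subgroup.normalizer ((X ⊔ Y : Subgroup G) : Set G) :=
  Fusion.mem_normalizer_iff_cj.2 (by rw [Fusion.cj_sup, Fusion.cj_eq_self hX, Fusion.cj_eq_self hY])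

variable {c a : G ⧸ H} {t x : G} {r : ℕ} {R : Subgroup G}
  (hM : Min H) (hIF : InvertFree H) (hFR : FixRich H) (hca : a ≠ c) (hne : D1 c a ≠ ⊥)
  (ht : orderOf t = 2) (htc : t • c = c) (C : Core c a t x r R)
include hM hIF hFR hca hne ht htc C

namespace Core

/-- An `r`-group in `T0` at the pair containing `x` is `⟨x⟩` when `R` is. -/
theorem eq_zpowers (hR : R = Subgroup.zpowers x) {e : G ⧸ H} (hec : e ≠ c) {T : Subgroup G}
    (hT : IsPGroup r T) (hxT : x ∈ T) (hTT : T ≤ T0 c) (hTe : T ≤ St e) : T = Subgroup.zpowers x := by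
  haveI := Fact.mk C.prime
  obtain ⟨k, hk, hka⟩ := St_transitive hM.hse hM.hm hca hec
  have hle : cj T k⁻¹ ≤ D1 c a := by
    rintro _ ⟨g, hg, rfl⟩
    show k⁻¹ * g * k⁻¹⁻¹ ∈ D1 c a
    refine ⟨Solv.conj_mem_of_mem_normalizer (inv_mem (St_le_normalizer_T0 c hk)) (hTT hg),
      Subgroup.mul_mem _ (Subgroup.mul_mem _ (Subgroup.inv_mem _ hk) (T0_le c (hTT hg)))
        (Subgroup.inv_mem _ (Subgroup.inv_mem _ hk)), ?_⟩
    show (k⁻¹ * g * k⁻¹⁻¹) • a = a
    rw [inv_inv, mul_smul, mul_smul, hka, show g • e = e from hTe hg, inv_smul_eq_iff, hka]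
  have h := Fusion.SylIn.card_le C.syl (Fusion.isPGroup_cj hT k⁻¹) hle
  rw [Fusion.card_cj, hR, Nat.card_zpowers] at h
  exact (Subgroup.eq_of_le_of_card_ge (Subgroup.zpowers_le.2 hxT) (by rwa [Nat.card_zpowers])).symm

set_option maxHeartbeats 1000000 in
/-- The element of a transfer prime has no fixed point in the Fitting subgroup. -/
theorem fix_free {f : G} (hf : f ∈ FD c a) (hxf : Commute x f) : f = 1 := by
  classical
  by_contra hf1
  haveI := Fact.mk C.prime
  obtain ⟨q, hq, hqdvd⟩ := Nat.exists_prime_and_dvd (n := orderOf f) (fun e => hf1 (orderOf_eq_one_iff.1 e))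
  haveI := Fact.mk hq
  set y := f ^ (orderOf f / q) with hy
  have hyo : orderOf y = q := orderOf_pow_orderOf_div (orderOf_pos f).ne' hqdvd
  have hy1 : y ≠ 1 := fun e => hq.ne_one (by rw [← hyo, e, orderOf_one])
  have hyF : y ∈ FD c a := pow_mem hf _
  obtain ⟨hyQ, hqm⟩ := hM.prime_of_mem_FD hIF hFR hca hne ht htc hyF hyo
  have hrm := C.not_dvd hM hIF hFR hca ht htc
  have hqr : q ≠ r := fun e => hrm (e ▸ hqm)
  have hq2 : q ≠ 2 := hM.p_ne_two hqm
  have hyx : Commute x y := hxf.pow_right _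
  -- the fixed points of `x` in the `q`-part
  set Cx := Subgroup.centralizer ({x} : Set G) with hCx
  have hmemCx : ∀ {g : G}, g ∈ Cx ↔ Commute x g := fun {g} => by
    rw [hCx, Subgroup.mem_centralizer_singleton_iff]; exact ⟨fun h => h.symm, fun h => h.symm⟩
  set M := FQ q c a ⊓ Cx
  have hyM : y ∈ M := ⟨hyQ, hmemCx.2 hyx⟩
  have hMp : IsPGroup q M := (FQ_isPGroup q c a).to_le inf_le_left
  have hM1 : M ≠ ⊥ := fun h => hy1 (Subgroup.mem_bot.1 (h ▸ hyM))
  have hMD : M ≤ St2 c a := inf_le_left.trans (FQ_le q c a)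
  have hMn : ∀ g ∈ St2 c a, Commute x g → g ∈ Subgroup.normalizer (M : Set G) := fun g hg hxg => by
    refine Fusion.mem_normalizer_of_cj_le ?_
    rintro _ ⟨z, hz, rfl⟩
    exact ⟨Solv.conj_mem_of_mem_normalizer (FQ_normalizer q c a hg) hz.1,
      hmemCx.2 ((hxg.mul_right (hmemCx.1 hz.2)).mul_right hxg.inv_right)⟩
  have hxM : x ∈ Subgroup.normalizer (M : Set G) := hMn x C.mem_D (Commute.refl x)
  have htM : t ∈ Subgroup.centralizer (M : Set G) := Subgroup.mem_centralizer_iff.2 fun g hg =>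
    (C.comm_t hM hIF hFR hca ht htc (hMD hg).1 (hmemCx.1 hg.2)).eq
  have hM2 := two_of_fix hM hIF hFR hca ht htc hqm hMp hM1 hMD htM
  have hR : R = Subgroup.zpowers x := C.R_eq hM hIF hFR hca ht htc hMp hM1 hMD htM hM2 hxM
    fun g hg => hMn g (C.le_D1 hg).2 (C.central g hg)
  -- `q` is congruent to one modulo `r`
  have hrq : r ∣ q - 1 := by
    have hg := C.gal hM hIF hFR hca ht htc hMp hM1 hMD htM hM2 hxM
    obtain ⟨Γ, -, -, -, hΓ, -, hΓp, -⟩ := hg.scal
    have hsucc : ∃ z ∈ FQ q c a, orderOf z = q ∧ (∀ g ∈ FQ q c a, Commute z g) ∧ ¬ Commute z t := by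
      by_contra hall
      push Not at hall
      set X₀ := Subgroup.closure {z : G | z ∈ FQ q c a ∧ orderOf z = q ∧ ∀ g ∈ FQ q c a, Commute z g}
      have hX₀le : X₀ ≤ FQ q c a := (Subgroup.closure_le _).2 fun z hz => hz.1
      have hX₀n : St2 c a ≤ Subgroup.normalizer (X₀ : Set G) := fun d hd => by
        refine Fusion.mem_normalizer_of_cj_le ?_
        rw [Fusion.cj, MonoidHom.map_closure, Subgroup.closure_le]
        rintro _ ⟨z, ⟨hz, hzo, hzc⟩, rfl⟩
        refine Subgroup.subset_closure ⟨Solv.conj_mem_of_mem_normalizer (FQ_normalizer q c a hd) hz,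
          (MulEquiv.orderOf_eq (MulAut.conj d) z).trans hzo, fun g hg' => ?_⟩
        have h1 := (hzc _ (Solv.conj_mem_of_mem_normalizer (inv_mem (FQ_normalizer q c a hd)) hg')).map
          (MulAut.conj d).toMonoidHom
        simpa [mul_assoc] using h1
      have hFQ1 : FQ q c a ≠ ⊥ := fun h => hy1 (Subgroup.mem_bot.1 (h ▸ hyQ))
      obtain ⟨z, hz, hz1, hzc⟩ := exists_central_mem (FQ_isPGroup q c a) le_rfl Subgroup.le_normalizer hFQ1
      have hzq : q ∣ orderOf z := by
        obtain ⟨k, hk⟩ := IsPGroup.iff_orderOf.1 (FQ_isPGroup q c a) ⟨z, hz⟩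
        rw [Subgroup.orderOf_mk] at hk
        rcases k with _ | k
        · exact absurd (orderOf_eq_one_iff.1 (by simpa using hk)) hz1
        · exact hk ▸ dvd_pow_self q (Nat.succ_ne_zero k)
      have hzX : z ^ (orderOf z / q) ∈ X₀ := Subgroup.subset_closure
        ⟨pow_mem hz _, orderOf_pow_orderOf_div (orderOf_pos z).ne' hzq, fun g hg' => (hzc g hg').pow_left _⟩
      refine hM.no_normal_D hIF hFR hca hne ht htc ((FQ_isPGroup q c a).to_le hX₀le) (fun h => ?_)
        (hX₀le.trans (FQ_le q c a)) hX₀n ?_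
      · rw [h, Subgroup.mem_bot] at hzX
        have := orderOf_pow_orderOf_div (orderOf_pos z).ne' hzq
        rw [hzX, orderOf_one] at this
        exact hq.ne_one this.symm
      · rw [Subgroup.centralizer_closure, Subgroup.mem_centralizer_iff]
        exact fun w hw => hall w hw.1 hw.2.1 hw.2.2
    obtain ⟨z, hz, hzo, hzc, hzt⟩ := hsucc
    have hzM : z ∈ Subgroup.normalizer (M : Set G) :=
      Subgroup.centralizer_le_normalizer _ (Subgroup.mem_centralizer_iff.2 fun g hg => (hzc g hg.1).eq.symm)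
    have hzΓ : z ∈ Γ := hΓ z ⟨FQ_le q c a hz, hzM⟩ (by
      rw [hzo]; exact (Nat.coprime_primes hq C.prime).2 hqr)
    have hdvd : q ∣ 2 ^ r - 1 := by
      by_contra hnd
      obtain ⟨i, hi⟩ := exists_pow_eq_self_of_coprime (x := z) (n := 2 ^ r - 1)
        (by rw [hzo]; exact ((Nat.Prime.coprime_iff_not_dvd hq).2 hnd).symm)
      exact hzt (hi ▸ (hΓp z hzΓ t (invol_mem_EX ht htc htM)).pow_left i)
    have h2q : (2 : ZMod q) ≠ 0 := fun h => hq2 (by
      have h' : ((2 : ℕ) : ZMod q) = 0 := by exact_mod_cast h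
      exact (Nat.prime_dvd_prime_iff_eq hq Nat.prime_two).1 ((ZMod.natCast_eq_zero_iff _ _).1 h'))
    have h2r : (2 : ZMod q) ^ r = 1 := by
      have h' : ((2 ^ r - 1 : ℕ) : ZMod q) = 0 := (ZMod.natCast_eq_zero_iff _ _).2 hdvd
      rw [Nat.cast_sub Nat.one_le_two_pow, sub_eq_zero] at h'
      push_cast at h'
      exact h'
    have h21 : (2 : ZMod q) ≠ 1 := fun h => one_ne_zero (α := ZMod q) (by
      linear_combination h)
    rw [← orderOf_eq_prime h2r h21]
    exact ZMod.orderOf_dvd_card_sub_one h2q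
  -- a Sylow `q`-subgroup of the centraliser
  set C₀ := St c ⊓ Cx with hC₀
  obtain ⟨S, hS, hyS⟩ := Fusion.exists_sylIn_ge (p := q) (Q := Subgroup.zpowers y) (H := C₀ ⊓ St2 c a)
    (IsPGroup.of_card (n := 1) (by rw [Nat.card_zpowers, hyo, pow_one]))
    (Subgroup.zpowers_le.2 ⟨⟨(FQ_le q c a hyQ).1, hmemCx.2 hyx⟩, FQ_le q c a hyQ⟩)
  have hSD : S ≤ St2 c a := hS.le.trans inf_le_right
  have hSx : ∀ s ∈ S, Commute x s := fun s hs => hmemCx.1 (hS.le hs).1.2
  have hS1 : S ≠ ⊥ := fun h => hy1 (Subgroup.mem_bot.1 (h ▸ hyS (Subgroup.mem_zpowers y)))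
  have htS : t ∈ Subgroup.centralizer (S : Set G) := Subgroup.mem_centralizer_iff.2 fun g hg =>
    (C.comm_t hM hIF hFR hca ht htc (hSD hg).1 (hSx g hg)).eq
  have hS2 := two_of_fix hM hIF hFR hca ht htc hqm hS.isPGroup hS1 hSD htS
  have hxS : x ∈ Subgroup.normalizer (S : Set G) :=
    Subgroup.centralizer_le_normalizer _ (Subgroup.mem_centralizer_iff.2 fun s hs => (hSx s hs).eq.symm)
  have hSspl := split_of_two hM hFR hIF hS.isPGroup hS1 hca hSD hS2
  -- every element normalising `⟨x⟩` centralises it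
  have hNx : ∀ g ∈ St c, g * x * g⁻¹ ∈ Subgroup.zpowers x → Commute g x := by
    intro g hgc hg
    set Nx := St c ⊓ Subgroup.normalizer ((Subgroup.zpowers x : Subgroup G) : Set G)
    have hC₀n : Nx ≤ Subgroup.normalizer (C₀ : Set G) := fun h hh => by
      refine Fusion.mem_normalizer_of_cj_le ?_
      rintro _ ⟨w, hw, rfl⟩
      refine ⟨Subgroup.mul_mem _ (Subgroup.mul_mem _ hh.1 hw.1) (Subgroup.inv_mem _ hh.1), hmemCx.2 ?_⟩
      have hcent : w ∈ Subgroup.centralizer ((Subgroup.zpowers x : Subgroup G) : Set G) :=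
        C.mem_centralizer (hmemCx.1 hw.2)
      exact Subgroup.mem_centralizer_iff.1
        (Solv.conj_mem_of_mem_normalizer (mem_normalizer_centralizer hh.2) hcent) x (Subgroup.mem_zpowers x)
    set Y := S ⊔ Subgroup.zpowers x
    have hYn : ∀ g ∈ C₀, g ∈ Subgroup.normalizer (S : Set G) → g ∈ Subgroup.normalizer (Y : Set G) :=
      fun g hg hgn => mem_normalizer_sup hgn
        (Subgroup.centralizer_le_normalizer _ (C.mem_centralizer (hmemCx.1 hg.2)))
    have hYD : Y ≤ St2 c a := sup_le hSD C.zpowers_le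
    have hYs : Split Y c := hSspl.of_normal hM.hse le_sup_left
      (sup_le Subgroup.le_normalizer (Subgroup.zpowers_le.2 hxS)) (fun w hw => (hYD hw).1)
    have hSC := hYs.sylow_up' hM.hse hca (fun w hw => (hYD hw).2) le_sup_left hq2 (C := C₀) inf_le_left
      (fun w hw => Subgroup.le_normalizer (⟨(TwoGen_le _ c hw).2, hmemCx.2 (Subgroup.mem_centralizer_iff.1
        (TwoGen_le _ c hw).1 x (Subgroup.mem_sup_right (Subgroup.mem_zpowers x)))⟩ : w ∈ C₀)) hYn hS
    obtain ⟨k, hk, hkn⟩ := Fusion.frattini_conj hSC hC₀n (h := g) ⟨hgc, zpowers_conj_mem hg⟩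
    have ha : a ∈ Bender.fixSet H S := fun s hs => (hSD hs).2
    have hkgc : (k * g) • c = c := Subgroup.mul_mem (St c) hk.1 hgc
    obtain ⟨u, hu, d, hd, hud⟩ := hSspl.decomp hca ha hkgc (Bender.smul_mem_fixSet hkn ha)
    obtain ⟨i, hi⟩ := Subgroup.mem_zpowers_iff.1 hg
    have hkx : ∀ j : ℤ, k * x ^ j * k⁻¹ = x ^ j := fun j => by
      rw [← ((hmemCx.1 hk.2).zpow_left j).eq, mul_inv_cancel_right]
    have hconj : (k * g) * x * (k * g)⁻¹ = x ^ i := by
      rw [show k * g * x * (k * g)⁻¹ = k * (g * x * g⁻¹) * k⁻¹ by group, ← hi, hkx]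
    have hxi : x ^ i ≠ 1 := fun e => C.ne_one (conj_eq_one_iff.1 (hi ▸ e : g * x * g⁻¹ = 1))
    obtain ⟨j, hj⟩ : ∃ j : ℤ, (x ^ i) ^ j = x := by
      have hgen : Subgroup.zpowers (x ^ i) = Subgroup.zpowers x := by
        refine Subgroup.eq_of_le_of_card_ge (Subgroup.zpowers_le.2 (Subgroup.zpow_mem_zpowers x i)) ?_
        rw [Nat.card_zpowers, Nat.card_zpowers, C.ord, orderOf_eq_prime (p := r) ?_ hxi]
        rw [← zpow_natCast, ← zpow_mul, mul_comm, zpow_mul, zpow_natCast, ← C.ord, pow_orderOf_eq_one,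
          one_zpow]
      exact Subgroup.mem_zpowers_iff.1 (hgen ▸ Subgroup.mem_zpowers x)
    -- the conjugate of `t` is `t`
    have htk : (k * g) * t * (k * g)⁻¹ = t := by
      refine C.unique hM hIF hFR hca ht htc (smul_involSet hkgc ⟨ht, htc⟩).1 (smul_involSet hkgc ⟨ht, htc⟩).2 ?_
      rw [← hj, ← hconj]
      exact (C.comm.map (MulAut.conj (k * g)).toMonoidHom).zpow_left j
    have hEc := fun s hs => C.EX_mem hM hIF hFR hca ht htc hS.isPGroup hS1 hSD htS hS2 (g := s) hs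
    have hu_cent : ∀ s ∈ EX S c, u * s * u⁻¹ = s := fun s hs => by
      obtain ⟨hsc, hsS, hss⟩ := hEc s hs
      by_cases hs1 : s = 1
      · rw [hs1]; group
      rw [← (hSspl.central s hsS (orderOf_eq_prime (by rw [pow_two]; exact hss) hs1) hsc u hu).eq,
        mul_inv_cancel_right]
    have hgal := C.gal hM hIF hFR hca ht htc hS.isPGroup hS1 hSD htS hS2 hxS
    have hdN : d ∈ Subgroup.normalizer (S : Set G) := by
      rw [show d = u⁻¹ * (k * g) by rw [hud]; group]
      exact mul_mem (inv_mem (Subgroup.centralizer_le_normalizer _ (TwoGen_le _ c hu).1)) hkn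
    have htE : t ∈ EX S c := invol_mem_EX ht htc htS
    have hkgE : ∀ s ∈ EX S c, (k * g) * s * (k * g)⁻¹ = d * s * d⁻¹ := fun s hs => by
      rw [show (k * g) * s * (k * g)⁻¹ = u * (d * s * d⁻¹) * u⁻¹ by rw [hud]; group]
      exact hu_cent _ (Solv.conj_mem_of_mem_normalizer (EX_normalizer hd.1 hdN) hs)
    have hdt : Commute d t := mul_inv_eq_iff_eq_mul.1 ((hkgE t htE).symm.trans htk)
    obtain ⟨n, hn⟩ := hgal.fix d ⟨hd, hdN⟩ hdt
    -- the conjugate of `x` acts as `x`
    have hact : ∀ s ∈ EX S c, x ^ i * s * (x ^ i)⁻¹ = x * s * x⁻¹ := fun s hs => by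
      have hxE : ∀ w ∈ EX S c, x * w * x⁻¹ ∈ EX S c := fun w hw =>
        Solv.conj_mem_of_mem_normalizer (EX_normalizer C.mem_D.1 hxS) hw
      have hs' : (x ^ n)⁻¹ * s * x ^ n ∈ EX S c := by
        have := Solv.conj_mem_of_mem_normalizer
          (inv_mem (pow_mem (EX_normalizer (X := S) C.mem_D.1 hxS) n)) hs
        rwa [inv_inv] at this
      have h1 : (k * g)⁻¹ * s * (k * g) = (x ^ n)⁻¹ * s * x ^ n := by
        have h2 : (k * g) * ((x ^ n)⁻¹ * s * x ^ n) * (k * g)⁻¹ = s := by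
          rw [hkgE _ hs', hn _ hs']; group
        calc (k * g)⁻¹ * s * (k * g)
            = (k * g)⁻¹ * ((k * g) * ((x ^ n)⁻¹ * s * x ^ n) * (k * g)⁻¹) * (k * g) := by rw [h2]
          _ = _ := by group
      calc x ^ i * s * (x ^ i)⁻¹ = (k * g) * (x * ((k * g)⁻¹ * s * (k * g)) * x⁻¹) * (k * g)⁻¹ := by
            rw [← hconj]; group
        _ = (k * g) * (x * ((x ^ n)⁻¹ * s * x ^ n) * x⁻¹) * (k * g)⁻¹ := by rw [h1]
        _ = x ^ n * (x * ((x ^ n)⁻¹ * s * x ^ n) * x⁻¹) * (x ^ n)⁻¹ := by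
            rw [hkgE _ (hxE _ hs'), hn _ (hxE _ hs')]
        _ = _ := by group
    have hz1 : x⁻¹ * x ^ i = 1 := by
      obtain ⟨s, hs, hsc, hsE, hst⟩ := C.exists_other hM hIF hFR hca ht htc hS.isPGroup hS1 hSD htS hS2
      refine C.eq_one_of_two hM hIF hFR hca ht htc (R.mul_mem (R.inv_mem C.mem) (R.zpow_mem C.mem i))
        (fun w hw => ((C.central w hw).inv_left).mul_left ((C.central w hw).zpow_left i)) hs hsc hst
        (C.EX_comm hM hIF hFR hca ht htc hS.isPGroup hS1 hSD htS hS2 hsE htE) ?_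
        (C.comm.inv_left.mul_left (C.comm.zpow_left i))
      show x⁻¹ * x ^ i * s = s * (x⁻¹ * x ^ i)
      have h3 := hact s hsE
      calc x⁻¹ * x ^ i * s = x⁻¹ * (x ^ i * s * (x ^ i)⁻¹) * x ^ i := by group
        _ = x⁻¹ * (x * s * x⁻¹) * x ^ i := by rw [h3]
        _ = _ := by group
    rw [inv_mul_eq_one] at hz1
    exact mul_inv_eq_iff_eq_mul.1 (hi.symm.trans hz1.symm)
  -- the subgroup generated by the `2`- and `r`-elements of the centraliser in `T0`
  set K := Subgroup.closure {g : G | g ∈ T0 c ∧ Commute g x ∧ ∃ i j : ℕ, g ^ (2 ^ j * r ^ i) = 1}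
  have hr2 := C.r_ne_two hM hIF hFR hca ht htc
  have hKT : K ≤ T0 c := (Subgroup.closure_le _).2 fun g hg => hg.1
  have hKc : K ≤ St c := hKT.trans (T0_le c)
  have hKx : ∀ g ∈ K, Commute x g := fun g hg => hmemCx.1 ((Subgroup.closure_le Cx).2
    (fun g hg => hmemCx.2 hg.2.1.symm) hg)
  have hK2 : ∀ g : G, g • c = c → Commute x g → ∀ j : ℕ, g ^ 2 ^ j = 1 → g ∈ K := fun g hgc hgx j hj =>
    Subgroup.subset_closure ⟨SEB.mem_T0 hgc hj, hgx.symm, 0, j, by rw [pow_zero, mul_one, hj]⟩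
  have hKn : C₀ ≤ Subgroup.normalizer (K : Set G) := fun h hh => by
    refine Fusion.mem_normalizer_of_cj_le ?_
    rw [Fusion.cj, MonoidHom.map_closure, Subgroup.closure_le]
    rintro _ ⟨w, ⟨hwT, hwx, i, j, hwp⟩, rfl⟩
    have hhx : Commute x h := hmemCx.1 hh.2
    refine Subgroup.subset_closure ⟨Solv.conj_mem_of_mem_normalizer (St_le_normalizer_T0 c hh.1) hwT,
      ((hhx.mul_right hwx.symm).mul_right hhx.inv_right).symm, i, j, ?_⟩
    show (h * w * h⁻¹) ^ (2 ^ j * r ^ i) = 1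
    rw [conj_pow, hwp, mul_one, mul_inv_cancel]
  have hxK : x ∈ K := Subgroup.subset_closure ⟨C.mem_T0, Commute.refl x, 1, 0, by
    rw [pow_zero, one_mul, pow_one, ← C.ord, pow_orderOf_eq_one]⟩
  -- the pair stabiliser in it is an `r`-group
  set P := K ⊓ St2 c a with hP
  have hPD1 : P ≤ D1 c a := inf_le_inf_right _ hKT
  have hPr : ∀ ℓ : ℕ, ℓ.Prime → ℓ ∣ Nat.card P → ℓ = r := by
    intro ℓ hℓ hℓP
    by_contra hℓr
    haveI : Group.IsSolvable ↥P :=
      S0205.result ((St2_odd hM.hse hca.symm).of_dvd_nat (Subgroup.card_dvd_of_le inf_le_right))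
    -- a prime of the abelianisation other than `r`
    set Px := commutator ↥P ⊔ (Subgroup.zpowers x).subgroupOf P with hPx
    have hxP : Subgroup.zpowers x ≤ P := Subgroup.zpowers_le.2 ⟨hxK, C.mem_D⟩
    have hPxn : Px ≠ ⊤ := by
      intro htop
      haveI hn : ((Subgroup.zpowers x).subgroupOf P).Normal := Subgroup.normal_subgroupOf_of_le_normalizer
        fun g hg => Subgroup.centralizer_le_normalizer _ (C.mem_centralizer (hKx g hg.1))
      haveI : Nontrivial (↥P ⧸ (Subgroup.zpowers x).subgroupOf P) := by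
        rw [← Finite.one_lt_card_iff_nontrivial, ← Subgroup.index_eq_card]
        have h0 : ((Subgroup.zpowers x).subgroupOf P).index ≠ 0 := Subgroup.index_ne_zero_of_finite
        by_contra h1
        have h1' : ((Subgroup.zpowers x).subgroupOf P).index = 1 := by omega
        have h2 := ((Subgroup.zpowers x).subgroupOf P).card_mul_index
        rw [h1', mul_one, Solv.card_subgroupOf hxP, Nat.card_zpowers, C.ord] at h2
        exact hℓr ((Nat.prime_dvd_prime_iff_eq hℓ C.prime).1 (h2 ▸ hℓP))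
      refine (Group.IsSolvable.commutator_lt_top_of_nontrivial
        (↥P ⧸ (Subgroup.zpowers x).subgroupOf P)).ne ?_
      have h := congrArg (Subgroup.map (QuotientGroup.mk' ((Subgroup.zpowers x).subgroupOf P))) htop
      rw [hPx, Subgroup.map_sup, QuotientGroup.map_mk'_self, sup_bot_eq, commutator_def,
        Subgroup.map_commutator, ← MonoidHom.range_eq_map, QuotientGroup.range_mk'] at h
      exact h
    obtain ⟨l, hl, hldvd⟩ := Nat.exists_prime_and_dvd (n := Px.index) (fun e => hPxn (Subgroup.index_eq_one.1 e))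
    haveI := Fact.mk hl
    have hxR' : ¬ r ∣ ((Subgroup.zpowers x).subgroupOf P).index := by
      intro hd
      obtain ⟨T, hT, hxT⟩ := Fusion.exists_sylIn_ge (p := r) C.zpowers_pgroup hxP
      have hTR := C.eq_zpowers hM hIF hFR hca hne ht htc hR hca hT.isPGroup (hxT (Subgroup.mem_zpowers x))
        (hT.le.trans (inf_le_left.trans hKT)) (fun g hg => (hT.le hg).2.2)
      rw [hTR] at hT
      exact hT.not_dvd hd
    have hlr : l ≠ r := fun e => hxR' (e ▸ hldvd.trans (Subgroup.index_dvd_of_le le_sup_right))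
    obtain ⟨Q, hQ⟩ := Fusion.exists_sylIn (p := l) P
    have hQn : ¬ Q ≤ ⁅P, P⁆ := fun hle => by
      obtain ⟨Q', hQ'⟩ := hQ.exists_sylow_subgroupOf
      refine Q'.not_dvd_index (hldvd.trans (Subgroup.index_dvd_of_le ?_))
      rw [hQ']
      intro z hz
      refine Subgroup.mem_sup_left ?_
      have h1 := hle (Subgroup.mem_subgroupOf.1 hz)
      rw [← Subgroup.map_subtype_commutator] at h1
      obtain ⟨w, hw, hwz⟩ := h1
      exact (Subtype.ext hwz : w = z) ▸ hw
    have hQD : Q ≤ St2 c a := hQ.le.trans inf_le_right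
    have hQx : ∀ g ∈ Q, Commute x g := fun g hg => hKx g (hQ.le hg).1
    have hQ1 : Q ≠ ⊥ := fun h => hQn (h ▸ bot_le)
    have hl2 : l ≠ 2 := by
      rintro rfl
      obtain ⟨k, hk⟩ := IsPGroup.iff_card.1 hQ.isPGroup
      rcases Nat.eq_zero_or_pos k with rfl | hk0
      · exact hQ1 (Subgroup.card_eq_one.1 (by rw [hk, pow_zero]))
      · exact absurd ((St2_odd hM.hse hca.symm).of_dvd_nat (hk ▸ Subgroup.card_dvd_of_le hQD))
          (Nat.not_odd_iff_even.2 ((Nat.even_pow' hk0.ne').2 even_two))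
    have hrich : ∀ X : Subgroup G, X ≤ Q → X ≠ ⊥ → Split (X ⊔ Subgroup.zpowers x) c := by
      intro X hXQ hX1
      obtain ⟨s, hs, hsc, hsE, hst⟩ := C.exists_other hM hIF hFR hca ht htc hMp hM1 hMD htM hM2
      have hact : ∀ g ∈ X, ∀ w ∈ EX M c, Commute g w := fun g hg w hw => by
        obtain ⟨k, hk⟩ := IsPGroup.iff_orderOf.1 hQ.isPGroup ⟨g, hXQ hg⟩
        rw [Subgroup.orderOf_mk] at hk
        exact C.cent_of_coprime hM hIF hFR hca ht htc hMp hM1 hMD htM hM2 hxM (hQD (hXQ hg))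
          (hMn g (hQD (hXQ hg)) (hQx g (hXQ hg)))
          (C.comm_t hM hIF hFR hca ht htc (hQD (hXQ hg)).1 (hQx g (hXQ hg)))
          (hk ▸ Nat.Coprime.pow_left _ ((Nat.coprime_primes hl C.prime).2 hlr)) hw
      have h2 : Two (Subgroup.centralizer (X : Set G)) c := ⟨s, t, hs, ht, hst, hsc, htc,
        C.EX_comm hM hIF hFR hca ht htc hMp hM1 hMD htM hM2 hsE (invol_mem_EX ht htc htM),
        Subgroup.mem_centralizer_iff.2 fun g hg => (hact g hg s hsE).eq,
        Subgroup.mem_centralizer_iff.2 fun g hg => (hact g hg t (invol_mem_EX ht htc htM)).eq⟩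
      refine (split_of_two hM hFR hIF (hQ.isPGroup.to_le hXQ) hX1 hca (hXQ.trans hQD) h2).of_normal hM.hse
        le_sup_left (sup_le Subgroup.le_normalizer (Subgroup.zpowers_le.2
          (Subgroup.centralizer_le_normalizer _ (Subgroup.mem_centralizer_iff.2 fun g hg =>
            (hQx g (hXQ hg)).eq.symm)))) (fun g hg => ?_)
      exact (sup_le (hXQ.trans hQD) C.zpowers_le hg).1
    have htwo : ∀ {X : Subgroup G} {w : G}, w ∈ TwoGen (Subgroup.centralizer
        ((X ⊔ Subgroup.zpowers x : Subgroup G) : Set G)) c → w ∈ K := fun {X w} hw => by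
      refine (Subgroup.closure_le K).2 ?_ hw
      rintro v ⟨hv, hvc, j, hj⟩
      exact hK2 v hvc (Subgroup.mem_centralizer_iff.1 hv x (Subgroup.mem_sup_right (Subgroup.mem_zpowers x))) j hj
    have hQK : SylIn l Q K := by
      refine (hrich Q le_rfl hQ1).sylow_up' hM.hse hca (fun g hg => (sup_le hQD C.zpowers_le hg).2)
        le_sup_left hl2 hKc (fun w hw => Subgroup.le_normalizer (htwo hw)) (fun g hg hgn => ?_) hQ
      exact mem_normalizer_sup hgn (Subgroup.centralizer_le_normalizer _ (C.mem_centralizer (hKx g hg)))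
    -- no quotient of order `l`
    have hQK' : Q ≤ ⁅K, K⁆ := by
      by_contra hle
      obtain ⟨Q', hQ'⟩ := hQK.exists_sylow_subgroupOf
      obtain ⟨N, hN, hNi⟩ := Fusion.exists_normal_index_prime (Fusion.sylIn_top Q') fun h => hle fun w hw => by
        have h1 : (⟨w, hQK.le hw⟩ : K) ∈ commutator ↥K := h (hQ' ▸ Subgroup.mem_subgroupOf.2 hw)
        exact Subgroup.map_subtype_commutator K ▸ Subgroup.mem_map_of_mem K.subtype h1
      haveI := hN
      have hall : K ≤ N.map K.subtype := by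
        refine (Subgroup.closure_le _).2 ?_
        rintro g ⟨hgT, hgx, i, j, hgp⟩
        have hgK : g ∈ K := Subgroup.subset_closure ⟨hgT, hgx, i, j, hgp⟩
        refine ⟨⟨g, hgK⟩, ?_, rfl⟩
        show (⟨g, hgK⟩ : K) ∈ N
        rw [← QuotientGroup.eq_one_iff, ← orderOf_eq_one_iff]
        have h1 : orderOf (QuotientGroup.mk (⟨g, hgK⟩ : K) : K ⧸ N) ∣ 2 ^ j * r ^ i :=
          orderOf_dvd_of_pow_eq_one (by
            rw [← QuotientGroup.mk_pow, show (⟨g, hgK⟩ : K) ^ (2 ^ j * r ^ i) = 1 from Subtype.ext hgp,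
              QuotientGroup.mk_one])
        have h2 : orderOf (QuotientGroup.mk (⟨g, hgK⟩ : K) : K ⧸ N) ∣ l :=
          (orderOf_dvd_natCard _).trans (dvd_of_eq ((Subgroup.index_eq_card N).symm.trans hNi))
        have hco : Nat.Coprime (2 ^ j * r ^ i) l := Nat.Coprime.mul_left
          (Nat.Coprime.pow_left _ ((Nat.coprime_primes Nat.prime_two hl).2 (Ne.symm hl2)))
          (Nat.Coprime.pow_left _ ((Nat.coprime_primes C.prime hl).2 (Ne.symm hlr)))
        exact Nat.dvd_one.1 (hco ▸ Nat.dvd_gcd h1 h2)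
      have h2 : N = ⊤ := top_le_iff.1 fun z _ => by
        obtain ⟨z', hz', e⟩ := hall z.2
        exact (Subtype.ext e : z' = z) ▸ hz'
      rw [h2, Subgroup.index_top] at hNi
      exact hl.ne_one hNi.symm
    refine hQn fun w hw => ?_
    have h2 : w ∈ Fusion.focalIn Q K :=
      Fusion.inf_commutator_eq_focalIn hQK ▸ (⟨hw, hQK' hw⟩ : w ∈ Q ⊓ ⁅K, K⁆)
    refine (Subgroup.closure_le _).2 ?_ h2
    rintro _ ⟨v, hv, h, hh, hvh, rfl⟩
    by_cases hv1 : v = 1
    · rw [hv1]; simp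
    set X := Subgroup.zpowers v
    have hXQ : X ≤ Q := Subgroup.zpowers_le.2 hv
    have hXs := hrich X hXQ (Subgroup.zpowers_ne_bot.2 hv1)
    have hhc : h • c = c := hKc hh
    obtain ⟨w', hw', d, hd, hhd, hconj⟩ := hXs.fusion hca (fun g hg => (sup_le (hXQ.trans hQD) C.zpowers_le hg).2)
      (h := h⁻¹) (inv_smul_eq_iff.2 hhc.symm) (fun g hg => by
        rw [inv_inv]
        have : g ∈ (St a).comap (MulAut.conj h).toMonoidHom := (sup_le
          (Subgroup.zpowers_le.2 (Subgroup.mem_comap.2 ((hQD hvh).2)))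
          (Subgroup.zpowers_le.2 (Subgroup.mem_comap.2 (show h * x * h⁻¹ ∈ St a by
            rw [← (hKx h hh).eq, mul_inv_cancel_right]; exact C.mem_D.2))) : X ⊔ Subgroup.zpowers x ≤ _) hg
        exact this)
    have hdP : d ∈ P := ⟨by
      rw [show d = w'⁻¹ * h⁻¹ by rw [hhd]; group]
      exact Subgroup.mul_mem _ (Subgroup.inv_mem _ (htwo hw')) (Subgroup.inv_mem _ hh), hd⟩
    have h3 := hconj v (Subgroup.mem_sup_left (Subgroup.mem_zpowers v))
    rw [inv_inv] at h3
    rw [h3]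
    have h4 := Subgroup.commutator_mem_commutator (inv_mem (hQ.le hv)) (inv_mem hdP)
    rw [commutatorElement_def] at h4
    simpa [mul_assoc] using h4
  -- `K` has order prime to `q`
  have hSC : SylIn q S C₀ := by
    have hYs : Split (S ⊔ Subgroup.zpowers x) c := hSspl.of_normal hM.hse le_sup_left
      (sup_le Subgroup.le_normalizer (Subgroup.zpowers_le.2 hxS))
      (fun w hw => (sup_le hSD C.zpowers_le hw).1)
    exact hYs.sylow_up' hM.hse hca (fun w hw => (sup_le hSD C.zpowers_le hw).2) le_sup_left hq2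
      inf_le_left (fun w hw => Subgroup.le_normalizer (⟨(TwoGen_le _ c hw).2, hmemCx.2
        (Subgroup.mem_centralizer_iff.1 (TwoGen_le _ c hw).1 x
          (Subgroup.mem_sup_right (Subgroup.mem_zpowers x)))⟩ : w ∈ C₀))
      (fun g hg hgn => mem_normalizer_sup hgn
        (Subgroup.centralizer_le_normalizer _ (C.mem_centralizer (hmemCx.1 hg.2)))) hS
  have hKC₀ : K ≤ C₀ := le_inf hKc fun g hg => hmemCx.2 (hKx g hg)
  have hqK : ¬ q ∣ Nat.card K := by
    intro hd
    have hsyl := hSC.inf_normal hKC₀ hKn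
    have hbot : S ⊓ K = ⊥ := by
      by_contra h
      obtain ⟨k, hk⟩ := IsPGroup.iff_card.1 (hS.isPGroup.to_le (inf_le_left : S ⊓ K ≤ S))
      rcases Nat.eq_zero_or_pos k with rfl | hk0
      · exact h (Subgroup.card_eq_one.1 (by rw [hk, pow_zero]))
      · exact hqr (hPr q hq (((dvd_pow_self q hk0.ne').trans (hk ▸ dvd_rfl)).trans
          (Subgroup.card_dvd_of_le (le_inf inf_le_right (inf_le_left.trans hSD) : S ⊓ K ≤ P))))
    rw [hbot] at hsyl
    exact hsyl.not_dvd (by rwa [Subgroup.relIndex_bot_left])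
  -- a larger invariant Sylow subgroup
  obtain ⟨z, hzS, hzq⟩ : ∃ z ∈ S, orderOf z = q := ⟨y, hyS (Subgroup.mem_zpowers y), hyo⟩
  have hzx : Commute x z := hSx z hzS
  have hzn : Subgroup.zpowers z ≤ Subgroup.normalizer (K : Set G) :=
    Subgroup.zpowers_le.2 (hKn (hS.le hzS).1)
  obtain ⟨T, hT₀, hzT⟩ := Solv.exists_invariant_sylow hzn (by
    rw [Nat.card_zpowers, hzq]; exact (Nat.Prime.coprime_iff_not_dvd hq).2 hqK)
    (Or.inl (Bender.zpowers_solvable z)) r
  have hT := isSylIn_iff.1 hT₀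
  have hzT' : z ∈ Subgroup.normalizer (T : Set G) := hzT (Subgroup.mem_zpowers z)
  have hxT : x ∈ T := by
    have hcent : Subgroup.zpowers x ≤ Subgroup.normalizer (T : Set G) := Subgroup.zpowers_le.2
      (Subgroup.centralizer_le_normalizer _ (Subgroup.mem_centralizer_iff.2 fun g hg =>
        (hKx g (hT.le hg)).eq.symm))
    have h := hT.eq_of_le (hT.isPGroup.to_sup_of_normal_left' C.zpowers_pgroup hcent) le_sup_left
      (sup_le hT.le (Subgroup.zpowers_le.2 hxK))
    exact h ▸ Subgroup.mem_sup_right (Subgroup.mem_zpowers x)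
  have hTne : T ≠ Subgroup.zpowers x := by
    intro hTx
    -- then `⟨x⟩` would be a Sylow subgroup of `T0`
    obtain ⟨S₀, hS₀, hxS₀⟩ := Fusion.exists_sylIn_ge (p := r) C.zpowers_pgroup
      (Subgroup.zpowers_le.2 C.mem_T0)
    by_cases hS₀x : Subgroup.zpowers x = S₀
    · refine C.ne_one (Subgroup.mem_bot.1 (?_ : x ∈ (⊥ : Subgroup G)))
      rw [← hS₀x] at hS₀
      have h1 : x ∈ Fusion.focalIn (Subgroup.zpowers x) (T0 c) := Fusion.inf_commutator_eq_focalIn hS₀ ▸
        (⟨Subgroup.mem_zpowers x, hM.sylow_le_commutator hr2 hS₀ (Subgroup.mem_zpowers x)⟩ :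
          x ∈ Subgroup.zpowers x ⊓ ⁅T0 c, T0 c⁆)
      refine (Subgroup.closure_le _).2 ?_ h1
      rintro _ ⟨w, hw, h, hh, hwh, rfl⟩
      rw [SetLike.mem_coe, Subgroup.mem_bot]
      by_cases hw1 : w = 1
      · rw [hw1]; group
      have hwgen : Subgroup.zpowers w = Subgroup.zpowers x := by
        refine Subgroup.eq_of_le_of_card_ge (Subgroup.zpowers_le.2 hw) ?_
        have h2 : orderOf w ∣ r := by
          rw [← C.ord]
          exact (Subgroup.orderOf_dvd_natCard _ hw).trans (dvd_of_eq (Nat.card_zpowers x))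
        rw [Nat.card_zpowers, Nat.card_zpowers, C.ord]
        exact (((Nat.dvd_prime C.prime).1 h2).resolve_left fun e => hw1 (orderOf_eq_one_iff.1 e)).ge
      have hcomm := hNx h (T0_le c hh) ((Subgroup.zpowers_le.2
        (Subgroup.mem_comap.2 hwh) : Subgroup.zpowers w ≤ (Subgroup.zpowers x).comap
          (MulAut.conj h).toMonoidHom) (hwgen ▸ Subgroup.mem_zpowers x))
      obtain ⟨i, rfl⟩ := Subgroup.mem_zpowers_iff.1 hw
      rw [(hcomm.zpow_right i).eq, mul_inv_cancel_right, inv_mul_cancel]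
    · have hlt := Fusion.SylIn.normalizer_growth hxS₀ hS₀x hS₀.isPGroup
      refine hlt.ne ?_
      set T₁ := S₀ ⊓ Subgroup.normalizer ((Subgroup.zpowers x : Subgroup G) : Set G)
      have hT₁K : T₁ ≤ K := fun g hg => by
        have hgx : Commute g x := hNx g (T0_le c (hS₀.le hg.1))
          (Solv.conj_mem_of_mem_normalizer hg.2 (Subgroup.mem_zpowers x))
        obtain ⟨i, hi⟩ := IsPGroup.iff_orderOf.1 hS₀.isPGroup ⟨g, hg.1⟩
        rw [Subgroup.orderOf_mk] at hi
        exact Subgroup.subset_closure ⟨hS₀.le hg.1, hgx, i, 0, by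
          rw [pow_zero, one_mul, ← hi, pow_orderOf_eq_one]⟩
      exact (hTx ▸ hT).eq_of_le (hS₀.isPGroup.to_le inf_le_left) hlt.le hT₁K |>.symm
  -- fixed points of `z` on `T`
  have hTz : ∀ g ∈ T, Commute g z → g ∈ Subgroup.zpowers x := by
    intro g hg hgz
    set Z := Subgroup.zpowers z
    have hZp : IsPGroup q Z := IsPGroup.of_card (n := 1) (by rw [Nat.card_zpowers, hzq, pow_one])
    have hz1 : z ≠ 1 := fun e => hq.ne_one (by rw [← hzq, e, orderOf_one])
    have htZ : t ∈ Subgroup.centralizer (Z : Set G) :=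
      Subgroup.centralizer_le (Subgroup.zpowers_le.2 hzS) htS
    have hZ2 := two_of_fix hM hIF hFR hca ht htc hqm hZp (Subgroup.zpowers_ne_bot.2 hz1)
      (Subgroup.zpowers_le.2 (hSD hzS)) htZ
    set X := Z ⊔ Subgroup.zpowers x
    have hXD : X ≤ St2 c a := sup_le (Subgroup.zpowers_le.2 (hSD hzS)) C.zpowers_le
    have hXs : Split X c := (split_of_two hM hFR hIF hZp (Subgroup.zpowers_ne_bot.2 hz1) hca
      (Subgroup.zpowers_le.2 (hSD hzS)) hZ2).of_normal hM.hse le_sup_left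
      (sup_le Subgroup.le_normalizer (Subgroup.zpowers_le.2 (Subgroup.centralizer_le_normalizer _
        (Subgroup.mem_centralizer_iff.2 fun w hw => by
          obtain ⟨i, rfl⟩ := Subgroup.mem_zpowers_iff.1 hw
          exact (hzx.symm.zpow_left i).eq)))) (fun w hw => (hXD hw).1)
    set T' := T ⊓ Subgroup.centralizer (X : Set G)
    have hgX : g ∈ Subgroup.centralizer (X : Set G) := by
      refine Subgroup.mem_centralizer_iff.2 fun w hw => ?_
      have : w ∈ Subgroup.centralizer ({g} : Set G) := (sup_le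
        (Subgroup.zpowers_le.2 (Subgroup.mem_centralizer_singleton_iff.2 hgz.symm.eq))
        (Subgroup.zpowers_le.2 (Subgroup.mem_centralizer_singleton_iff.2 (hKx g (hT.le hg)).eq))) hw
      exact Subgroup.mem_centralizer_singleton_iff.1 this
    obtain ⟨e, he, hec, hTe⟩ := hXs.exists_fix hM.hse hca (fun w hw => (hXD hw).2) hr2
      (R := T') (hT.isPGroup.to_le inf_le_left) (inf_le_right.trans (Subgroup.centralizer_le_normalizer _))
      (inf_le_left.trans (hT.le.trans hKc))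
    have hxT' : x ∈ T' := ⟨hxT, Subgroup.mem_centralizer_iff.2 fun w hw =>
      (Subgroup.mem_centralizer_singleton_iff.1 ((sup_le
        (Subgroup.zpowers_le.2 (Subgroup.mem_centralizer_singleton_iff.2 hzx.symm.eq))
        (Subgroup.zpowers_le.2 (Subgroup.mem_centralizer_singleton_iff.2 rfl)) : X ≤ _) hw))⟩
    rw [← C.eq_zpowers hM hIF hFR hca hne ht htc hR hec (hT.isPGroup.to_le inf_le_left) hxT'
      (inf_le_left.trans (hT.le.trans hKT)) hTe]
    exact ⟨hg, hgX⟩
  -- the action on the fixed points of `x`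
  have hTcx : T ≤ Subgroup.centralizer ((Subgroup.zpowers x : Subgroup G) : Set G) :=
    fun g hg => C.mem_centralizer (hKx g (hT.le hg))
  set CX := Subgroup.centralizer ((Subgroup.zpowers x : Subgroup G) : Set G) with hCX
  set X₁ := OO CX ⊔ T
  have hX₁ : X₁ ≤ CX := sup_le (OO_le _) hTcx
  let Ω := {e : G ⧸ H // e ∈ Bender.fixSet H (Subgroup.zpowers x)}
  letI : MulAction X₁ Ω :=
    { smul := fun g e => ⟨(g : G) • e.1,
        Bender.smul_mem_fixSet (Subgroup.centralizer_le_normalizer _ (hX₁ g.2)) e.2⟩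
      one_smul := fun e => Subtype.ext (one_smul G e.1)
      mul_smul := fun g g' e => Subtype.ext (mul_smul (g : G) g' e.1) }
  have hxc : c ∈ Bender.fixSet H (Subgroup.zpowers x) := fun g hg => (C.zpowers_le hg).1
  have hxa : a ∈ Bender.fixSet H (Subgroup.zpowers x) := fun g hg => (C.zpowers_le hg).2
  have hlone := C.lone hM hIF hFR hca ht htc C.mem C.ne_one C.central
  have horb := fixSet_eq_orbit hM hFR C.zpowers_pgroup C.zpowers_ne_bot hca C.zpowers_le ht htc
    (C.mem_centralizer C.comm)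
  have hmove := centralizer_move hM hFR C.zpowers_pgroup C.zpowers_ne_bot hca C.zpowers_le ht htc
    (C.mem_centralizer C.comm)
  haveI : MulAction.IsPretransitive X₁ Ω := by
    have hbase : ∀ e : Ω, ∃ g : X₁, g • (⟨c, hxc⟩ : Ω) = e := fun e => by
      obtain ⟨k, hk, hke⟩ := exists_OO_smul hM.hse ht htc (C.mem_centralizer C.comm) hmove hlone
        (horb ▸ e.2 : e.1 ∈ MulAction.orbit CX c)
      exact ⟨⟨k, Subgroup.mem_sup_left hk⟩, Subtype.ext hke⟩
    refine ⟨fun e e' => ?_⟩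
    obtain ⟨g, rfl⟩ := hbase e
    obtain ⟨g', rfl⟩ := hbase e'
    exact ⟨g' * g⁻¹, by rw [mul_smul, inv_smul_smul]⟩
  have hrodd : Odd r := C.prime.odd_of_ne_two hr2
  have hsol : Group.IsSolvable ↥X₁ := by
    refine S0205.result ?_
    obtain ⟨k, hk⟩ := IsPGroup.iff_card.1 hT.isPGroup
    have h := Solv.card_sup_mul_card_inf' (OO CX) T (fun g hg =>
      OO_normalizer (Subgroup.le_normalizer (hTcx hg)))
    exact ((OO_odd CX).mul (hk ▸ hrodd.pow)).of_dvd_nat (Dvd.intro _ h)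
  set T₁ : Subgroup X₁ := T.subgroupOf X₁
  have hcyc := image_cyclic_of_semiregular (X := X₁) (Ω := Ω) hsol (c := ⟨c, hxc⟩)
    ⟨⟨a, hxa⟩, fun e => hca (congrArg Subtype.val e)⟩ hrodd (T := T₁)
    (hT.isPGroup.of_equiv (Subgroup.subgroupOfEquivOfLe le_sup_right).symm)
    (fun g hg => Subtype.ext (hKc (hT.le hg) : (g : G) • c = c))
    (fun g hg e hec hge w => Subtype.ext (by
      have hec' : e.1 ≠ c := fun h => hec (Subtype.ext h)
      have hle : T ⊓ St e.1 = Subgroup.zpowers x := C.eq_zpowers hM hIF hFR hca hne ht htc hR hec'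
        (hT.isPGroup.to_le inf_le_left) ⟨hxT, e.2 (Subgroup.mem_zpowers x)⟩
        (inf_le_left.trans (hT.le.trans hKT)) inf_le_right
      exact w.2 (hle ▸ (⟨hg, congrArg Subtype.val hge⟩ : (g : G) ∈ T ⊓ St e.1))))
  -- `T` modulo `⟨x⟩` is cyclic
  haveI hxn : ((Subgroup.zpowers x).subgroupOf T).Normal := Subgroup.normal_subgroupOf_of_le_normalizer
    fun g hg => Subgroup.centralizer_le_normalizer _ (hTcx hg)
  have hker : ∀ g : T, (MulAction.toPermHom X₁ Ω) ⟨g, Subgroup.mem_sup_right g.2⟩ = 1 ↔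
      (g : G) ∈ Subgroup.zpowers x := fun g => by
    constructor
    · intro h
      have h1 : (g : G) • a = a := congrArg Subtype.val (DFunLike.congr_fun h (⟨a, hxa⟩ : Ω))
      have hle : T ⊓ St a = Subgroup.zpowers x := C.eq_zpowers hM hIF hFR hca hne ht htc hR hca
        (hT.isPGroup.to_le inf_le_left) ⟨hxT, C.mem_D.2⟩ (inf_le_left.trans (hT.le.trans hKT)) inf_le_right
      exact hle ▸ (⟨g.2, h1⟩ : (g : G) ∈ T ⊓ St a)
    · intro h
      exact Equiv.ext fun w => Subtype.ext (w.2 h)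
  let φ : T →* Equiv.Perm Ω :=
    (MulAction.toPermHom X₁ Ω).comp (Subgroup.inclusion (le_sup_right : T ≤ X₁))
  haveI : IsCyclic φ.range := by
    haveI := hcyc
    refine isCyclic_of_injective (Subgroup.inclusion (show φ.range ≤ T₁.map (MulAction.toPermHom X₁ Ω) from ?_))
      (Subgroup.inclusion_injective _)
    rintro _ ⟨g, rfl⟩
    exact ⟨Subgroup.inclusion le_sup_right g, g.2, rfl⟩
  have hφker : ∀ g : T, φ g = 1 ↔ (g : G) ∈ Subgroup.zpowers x := hker
  obtain ⟨g₀, hg₀⟩ : ∃ g : T, orderOf (φ g) = r := by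
    have hdvd : r ∣ Nat.card φ.range := by
      obtain ⟨g, hg, hgx⟩ := SetLike.exists_of_lt
        (lt_of_le_of_ne (Subgroup.zpowers_le.2 hxT) hTne.symm)
      have hne1 : φ ⟨g, hg⟩ ≠ 1 := fun e => hgx ((hφker _).1 e)
      obtain ⟨i, hi⟩ := IsPGroup.iff_orderOf.1 hT.isPGroup ⟨g, hg⟩
      obtain ⟨j, -, hj⟩ := (Nat.dvd_prime_pow C.prime).1 (hi ▸ orderOf_map_dvd φ ⟨g, hg⟩)
      rcases j with _ | j
      · exact absurd (orderOf_eq_one_iff.1 (by simpa using hj)) hne1
      · exact (hj ▸ dvd_pow_self r (Nat.succ_ne_zero j)).trans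
          (Subgroup.orderOf_dvd_natCard φ.range ⟨⟨g, hg⟩, rfl⟩)
    obtain ⟨⟨_, g, rfl⟩, hgo⟩ := exists_prime_orderOf_dvd_card' r hdvd
    exact ⟨g, (Subgroup.orderOf_coe _).trans hgo⟩
  let zc : T → T := fun g => ⟨z * g * z⁻¹, Solv.conj_mem_of_mem_normalizer hzT' g.2⟩
  have hzc_mul : ∀ g g' : T, zc (g * g') = zc g * zc g' := fun g g' => Subtype.ext (by
    show z * ((g : G) * g') * z⁻¹ = z * g * z⁻¹ * (z * g' * z⁻¹)
    group)
  let ζ : T →* T := MonoidHom.mk' zc hzc_mul
  -- conjugation by `z` preserves the subgroup of order `r`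
  obtain ⟨j, hj⟩ : ∃ j : ℕ, φ (ζ g₀) = φ g₀ ^ j := by
    have hord : (φ (ζ g₀)) ^ r = 1 := by
      have h1 : ((g₀ ^ r : T) : G) ∈ Subgroup.zpowers x := (hφker _).1 (by
        rw [map_pow, ← hg₀, pow_orderOf_eq_one])
      rw [← map_pow, ← map_pow, hφker]
      obtain ⟨i, hi⟩ := Subgroup.mem_zpowers_iff.1 h1
      show z * ((g₀ ^ r : T) : G) * z⁻¹ ∈ _
      rw [← hi, ← (hzx.zpow_left i).eq, mul_inv_cancel_right]
      exact Subgroup.zpow_mem_zpowers x i
    set e : φ.range := ⟨φ g₀, g₀, rfl⟩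
    set e' : φ.range := ⟨φ (ζ g₀), ζ g₀, rfl⟩
    have he : orderOf e = r := (Subgroup.orderOf_coe e).symm.trans hg₀
    have hle : Subgroup.zpowers e' ≤ Subgroup.zpowers e := by
      letI := Fintype.ofFinite φ.range
      have hcard : Nat.card {w : φ.range // w ^ r = 1} ≤ r := by
        classical
        rw [Nat.card_eq_fintype_card, Fintype.card_subtype]
        exact IsCyclic.card_pow_eq_one_le C.prime.pos
      have hsub : ∀ w : φ.range, w ^ r = 1 → w ∈ Subgroup.zpowers e := fun w hw => by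
        let f : Subgroup.zpowers e → {w : φ.range // w ^ r = 1} := fun v => ⟨v, by
          obtain ⟨i, hi⟩ := Subgroup.mem_zpowers_iff.1 v.2
          rw [← hi, ← zpow_natCast, ← zpow_mul, mul_comm, zpow_mul, zpow_natCast, ← he, pow_orderOf_eq_one,
            one_zpow]⟩
        have hf : Function.Injective f := fun v v' h => Subtype.ext (congrArg (fun w : {w : φ.range //
          w ^ r = 1} => w.1) h)
        have hb := hf.bijective_of_nat_card_le (hcard.trans (by rw [Nat.card_zpowers, he]))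
        obtain ⟨v, hv⟩ := hb.2 ⟨w, hw⟩
        have hvw : (v : φ.range) = w := congrArg Subtype.val hv
        exact hvw ▸ v.2
      exact Subgroup.zpowers_le.2 (hsub e' (Subtype.ext hord))
    obtain ⟨i, hi⟩ := (isOfFinOrder_of_finite e).mem_powers_iff_mem_zpowers.2
      (hle (Subgroup.mem_zpowers e'))
    exact ⟨i, (congrArg Subtype.val hi).symm⟩
  have hiter : ∀ n : ℕ, φ ((ζ^[n]) g₀) = φ g₀ ^ j ^ n := by
    intro n
    induction n with
    | zero => simp
    | succ n ih =>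
      rw [Function.iterate_succ_apply']
      have hcongr : ∀ g g' : T, φ g = φ g' → φ (ζ g) = φ (ζ g') := fun g g' h => by
        have h1 : ((g⁻¹ * g' : T) : G) ∈ Subgroup.zpowers x := (hφker _).1 (by
          rw [map_mul, map_inv, h, inv_mul_cancel])
        have h2 : φ (ζ (g⁻¹ * g')) = 1 := (hφker _).2 (by
          obtain ⟨i, hi⟩ := Subgroup.mem_zpowers_iff.1 h1
          show z * ((g⁻¹ * g' : T) : G) * z⁻¹ ∈ _
          rw [← hi, ← (hzx.zpow_left i).eq, mul_inv_cancel_right]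
          exact Subgroup.zpow_mem_zpowers x i)
        rwa [map_mul, map_mul, map_inv, map_inv, inv_mul_eq_one] at h2
      rw [hcongr _ (g₀ ^ j ^ n) (by rw [ih, map_pow]), map_pow, map_pow, hj, ← pow_mul, pow_succ']
  have hzpow : ∀ (n : ℕ) (g : T), (((ζ^[n]) g : T) : G) = z ^ n * g * (z ^ n)⁻¹ := fun n => by
    induction n with
    | zero => intro g; simp
    | succ n ih =>
      intro g
      rw [Function.iterate_succ_apply']
      show z * (((ζ^[n]) g : T) : G) * z⁻¹ = _
      rw [ih, pow_succ']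
      group
  have hjq : (j : ZMod r) ^ q = 1 := by
    have h1 := hiter q
    rw [show (ζ^[q]) g₀ = g₀ from Subtype.ext (by
      rw [hzpow, ← hzq, pow_orderOf_eq_one, one_mul, inv_one, mul_one])] at h1
    have h2 : φ g₀ ^ 1 = φ g₀ ^ j ^ q := by rw [pow_one]; exact h1
    rw [pow_eq_pow_iff_modEq, hg₀, ← ZMod.natCast_eq_natCast_iff] at h2
    push_cast at h2
    exact h2.symm
  have hj1 : (j : ZMod r) ≠ 1 := fun hj1 => by
    have h1 : φ g₀ ^ j = φ g₀ ^ 1 := by
      rw [pow_eq_pow_iff_modEq, hg₀, ← ZMod.natCast_eq_natCast_iff]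
      exact_mod_cast hj1
    rw [pow_one, ← hj] at h1
    -- the commutator is a power of `x`, so `z` centralises `g₀`
    have h2 : (((g₀⁻¹ * ζ g₀ : T)) : G) ∈ Subgroup.zpowers x := (hφker _).1 (by
      rw [map_mul, map_inv, h1, inv_mul_cancel])
    obtain ⟨i, hi⟩ := Subgroup.mem_zpowers_iff.1 h2
    have h3 : ∀ n : ℕ, z ^ n * (g₀ : G) * (z ^ n)⁻¹ = g₀ * (x ^ i) ^ n := fun n => by
      induction n with
      | zero => simp
      | succ n ih =>
        have hzg : z * (g₀ : G) * z⁻¹ = g₀ * x ^ i := by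
          rw [hi]
          show z * (g₀ : G) * z⁻¹ = g₀ * ((g₀ : G)⁻¹ * (z * g₀ * z⁻¹))
          group
        have hzxn : z * (x ^ i) ^ n * z⁻¹ = (x ^ i) ^ n := by
          rw [← ((hzx.zpow_left i).pow_left n).eq, mul_inv_cancel_right]
        calc z ^ (n + 1) * (g₀ : G) * (z ^ (n + 1))⁻¹ = z * (z ^ n * g₀ * (z ^ n)⁻¹) * z⁻¹ := by
              rw [pow_succ']; group
          _ = (z * g₀ * z⁻¹) * (z * (x ^ i) ^ n * z⁻¹) := by rw [ih]; group
          _ = _ := by rw [hzg, hzxn, mul_assoc, ← pow_succ']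
    have hxi : x ^ i = 1 := by
      have h4 := h3 q
      rw [show z ^ q = 1 by rw [← hzq, pow_orderOf_eq_one], one_mul, inv_one, mul_one, left_eq_mul] at h4
      by_contra hne'
      have h5 : orderOf (x ^ i) = r := orderOf_eq_prime (by
        rw [← zpow_natCast, ← zpow_mul, mul_comm, zpow_mul, zpow_natCast, ← C.ord, pow_orderOf_eq_one,
          one_zpow]) hne'
      exact hqr ((Nat.prime_dvd_prime_iff_eq C.prime hq).1 (h5 ▸ orderOf_dvd_of_pow_eq_one h4)).symm
    have h6 : Commute (g₀ : G) z := by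
      have := h3 1
      rw [pow_one, pow_one, hxi, mul_one] at this
      exact (mul_inv_eq_iff_eq_mul.1 this).symm
    have h7 := hTz g₀ g₀.2 h6
    rw [← hφker] at h7
    rw [h7, orderOf_one] at hg₀
    exact C.prime.ne_one hg₀.symm
  have hqr1 : q ∣ r - 1 := by
    have hj0 : (j : ZMod r) ≠ 0 := fun h0 => by
      rw [h0, zero_pow hq.ne_zero] at hjq
      exact zero_ne_one hjq
    rw [← orderOf_eq_prime hjq hj1]
    exact ZMod.orderOf_dvd_card_sub_one hj0
  have h1 := Nat.le_of_dvd (by have := hq.two_le; omega) hrq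
  have h2 := Nat.le_of_dvd (by have := C.prime.two_le; omega) hqr1
  omega

end Core

end Cfsg.Agent.SEB
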