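import Cfsg.Agent.Lib.Bender.Solvable.Defs

/-!
# Solvability of a strongly embedded subgroup: first consequences of the induction hypothesis

Centralisers of the odd core, `p`-subgroups for `p` dividing the number of involutions, and the
criterion that a proper subgroup containing all involutions at a point makes them commute.
-/

set_option autoImplicit false
set_option linter.style.haveILetI false
set_option linter.unusedSectionVars false

open scoped Pointwise

namespace Cfsg.Agent.SEB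

open Cfsg
open Cfsg.Agent.Fusion (SylIn cj)
open Cfsg.Agent.Fusion.SEPairs

universe u

variable {G : Type u} [Group G] [Finite G] {H : Subgroup G}

/-- The involutions at a point commute pairwise. -/
def CommAt (H : Subgroup G) (c : G ⧸ H) : Prop :=
  ∀ s t : G, orderOf s = 2 → orderOf t = 2 → s • c = c → t • c = c → Commute s t

namespace Min

variable (hM : Min H)
include hM

theorem idx (c : G ⧸ H) (M : Subgroup G) (hMt : M ≠ ⊤)
    (hs : Cfsg.IsStronglyEmbedded ((St c).subgroupOf M)) (hmM : mbar ↥((St c).subgroupOf M) ≠ 1) :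
    ∃ f : ℕ, ((St c).subgroupOf M).index = 2 ^ f + 1 :=
  index_of_solvable hs (hM.IH M hMt _ hs hmM) hmM

theorem numInv_eq (c : G ⧸ H) : numInv (St c) = Bender.numInv H := by
  rw [numInv_St hM.hse c (QuotientGroup.mk 1), St_base]
  rfl

/-- The odd core of a point stabiliser centralises its involutions. -/
theorem commute_Wc {c : G ⧸ H} {t : G} (ht : orderOf t = 2) (htc : t • c = c) {x : G}
    (hx : x ∈ Wc c) : Commute t x :=
  SEB.commute_Wc' hM.hse hM.hm hM.hN hM.idx ht htc hx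

/-- Distinct involutions at a point are incongruent modulo the odd core. -/
theorem eq_of_mul_mem_Wc {c : G ⧸ H} {s t : G} (hs : orderOf s = 2) (ht : orderOf t = 2)
    (hsc : s • c = c) (h : s * t ∈ Wc c) : s = t :=
  SEB.eq_of_mul_mem_Wc' hM.hse hM.hm hM.hN hM.idx hs ht hsc h

theorem exists_ne' (c : G ⧸ H) : ∃ a : G ⧸ H, a ≠ c := exists_ne hM.hse c

section prime

variable {p : ℕ} [Fact p.Prime] (hp : p ∣ Bender.numInv H)
include hp

theorem noInside : Bender.NoInside H p := noInside_all' hM.hse hM.hm hM.hN hM.idx hp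

theorem sylow_pair {c a : G ⧸ H} (hca : a ≠ c) :
    ∃ P : Subgroup G, Solv.IsSylIn p P (St c) ∧ Bender.fixSet H P = {c, a} :=
  exists_sylow_pair' hM.hse hM.hm hM.hN hM.idx hp hca

theorem p_ne_two : p ≠ 2 := Bender.p_ne_two hM.hse hp

theorem not_dvd_card : ¬ p ∣ Nat.card (G ⧸ H) := Bender.not_dvd_index hM.hse hp (hM.noInside hp)

/-- A `p`-subgroup fixing a point fixes a second one. -/
theorem pgroup_fix_two {X : Subgroup G} (hX : IsPGroup p X) {c : G ⧸ H} (hXc : X ≤ St c) :
    ∃ a, a ≠ c ∧ X ≤ St a := by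
  obtain ⟨a₀, ha₀⟩ := hM.exists_ne' c
  obtain ⟨P, hP, hfix⟩ := hM.sylow_pair hp ha₀
  obtain ⟨g, hg, hle⟩ := (isSylIn_iff.1 hP).conj_le hX hXc
  refine ⟨g⁻¹ • a₀, fun e => ha₀ ?_, fun x hx => ?_⟩
  · rw [inv_smul_eq_iff] at e
    exact e.trans hg
  · have ha : a₀ ∈ Bender.fixSet H P := hfix ▸ Or.inr rfl
    have h1 : (g * x * g⁻¹) • a₀ = a₀ := ha (hle ⟨x, hx, rfl⟩)
    rw [mul_smul, mul_smul] at h1
    show x • g⁻¹ • a₀ = g⁻¹ • a₀
    rwa [smul_eq_iff_eq_inv_smul] at h1

/-- A Sylow `p`-subgroup of a two point stabiliser fixes exactly these points and is one of a point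
stabiliser. -/
theorem sylow_St2 {c a : G ⧸ H} (hca : a ≠ c) {P : Subgroup G} (hP : SylIn p P (St2 c a)) :
    SylIn p P (St c) ∧ Bender.fixSet H P = {c, a} := by
  obtain ⟨P₀, hP₀, hfix⟩ := hM.sylow_pair hp hca
  have hc : c ∈ Bender.fixSet H P₀ := hfix ▸ Or.inl rfl
  have ha : a ∈ Bender.fixSet H P₀ := hfix ▸ Or.inr rfl
  have hP₀D : Solv.IsSylIn p P₀ (St2 c a) := Bender.syl_pair hP₀ (le_inf hc ha)
  obtain ⟨g, hg, hgP⟩ := (isSylIn_iff.1 hP₀D).conj_eq hP
  refine ⟨?_, ?_⟩
  · rw [← hgP]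
    exact (isSylIn_iff.1 hP₀).cj' (Subgroup.le_normalizer hg.1)
  · refine Set.ext fun x => ⟨fun hx => ?_, ?_⟩
    · have hx' : g⁻¹ • x ∈ Bender.fixSet H P₀ := fun y hy => by
        have h1 : (g * y * g⁻¹) • x = x := hx (hgP ▸ Fusion.conj_mem_cj hy)
        rw [mul_smul, mul_smul] at h1
        show y • g⁻¹ • x = g⁻¹ • x
        rwa [← smul_eq_iff_eq_inv_smul]
      rw [hfix] at hx'
      rcases hx' with h | h
      · exact Or.inl (by rw [inv_smul_eq_iff] at h; exact h.trans hg.1)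
      · exact Or.inr (by rw [Set.mem_singleton_iff, inv_smul_eq_iff] at h; exact h.trans hg.2)
    · rintro (rfl | rfl)
      · exact fun y hy => (hP.le hy).1
      · exact fun y hy => (hP.le hy).2

end prime

/-- A solvable normal subgroup of a point stabiliser containing the involutions makes them commute. -/
theorem commAt_of_solvable {c : G ⧸ H} {L : Subgroup G} (hLs : Group.IsSolvable ↥L)
    (hLn : ∀ g ∈ St c, cj L g ≤ L) (hLc : L ≤ St c)
    (hI : ∀ s : G, orderOf s = 2 → s • c = c → s ∈ L) : CommAt H c := by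
  classical
  intro s t hs ht hsc htc
  haveI hLN : (L.subgroupOf (St c)).Normal :=
    Subgroup.normal_subgroupOf_of_le_normalizer fun g hg =>
      Fusion.mem_normalizer_of_cj_le (hLn g hg)
  set X := St c with hX
  set L' := L.subgroupOf X with hL'
  haveI : Group.IsSolvable ↥L' :=
    Group.isSolvable_of_isSolvable_injective (f := (Subgroup.subgroupOfEquivOfLe hLc).toMonoidHom)
      (Subgroup.subgroupOfEquivOfLe hLc).injective
  obtain ⟨n, hn⟩ := Group.IsSolvable.solvable (G := ↥L')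
  set Lk : ℕ → Subgroup ↥X := fun k => (derivedSeries ↥L' k).map L'.subtype with hLk
  have hLkn : ∀ k, (Lk k).Normal := fun k => ConjAct.normal_of_characteristic_of_normal
  obtain ⟨k, hk, hk1⟩ : ∃ k, ¬ Lk k ≤ pPrimeCore 2 ↥X ∧ Lk (k + 1) ≤ pPrimeCore 2 ↥X := by
    have hex : ∃ k, Lk k ≤ pPrimeCore 2 ↥X := ⟨n, by simp [hLk, hn]⟩
    rcases h0 : Nat.find hex with _ | k
    · exfalso
      have h := Nat.find_spec hex
      rw [h0] at h
      refine even_of_invol_mem (t := (⟨s, hsc⟩ : X)) ((Subgroup.orderOf_coe _).symm.trans hs)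
        (h ⟨⟨⟨s, hsc⟩, hI s hs hsc⟩, ?_, rfl⟩) (card_oddCore_odd' _)
      rw [derivedSeries_zero]; exact Subgroup.mem_top _
    · exact ⟨k, Nat.find_min hex (by omega), h0 ▸ Nat.find_spec hex⟩
  haveI := hLkn k
  obtain ⟨y, hy, hy2⟩ : ∃ y ∈ Lk k, orderOf y = 2 := by
    by_contra h
    push Not at h
    exact hk (le_oddCore (odd_of_no_invol h))
  have hall : ∀ z : ↥X, orderOf z = 2 → z ∈ Lk k := fun z hz => by
    obtain ⟨a, hca⟩ := exists_ne hM.hse c
    obtain ⟨d, hd, -, hdz⟩ := pair_transitive hM.hse hca (by rwa [Subgroup.orderOf_coe]) y.2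
      (by rwa [Subgroup.orderOf_coe]) z.2
    rw [← show (⟨d, hd⟩ : X) * y * (⟨d, hd⟩ : X)⁻¹ = z from Subtype.ext hdz]
    exact (hLkn k).conj_mem y hy _
  set s' : ↥X := ⟨s, hsc⟩ with hs'
  set t' : ↥X := ⟨t, htc⟩ with ht'
  have hmem : s' * t' * s'⁻¹ * t'⁻¹ ∈ pPrimeCore 2 ↥X := by
    refine hk1 ?_
    show _ ∈ (derivedSeries ↥L' (k + 1)).map L'.subtype
    rw [derivedSeries_succ, Subgroup.map_commutator]
    exact Subgroup.commutator_mem_commutator (hall s' ((Subgroup.orderOf_coe _).symm.trans hs))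
      (hall t' ((Subgroup.orderOf_coe _).symm.trans ht))
  have hW : s * t * s⁻¹ * t ∈ Wc c := by
    refine ⟨_, hmem, ?_⟩
    show s * t * s⁻¹ * t⁻¹ = _
    rw [inv_self ht]
  refine mul_inv_eq_iff_eq_mul.1 (hM.eq_of_mul_mem_Wc (conj_involution ht s) ht ?_ hW)
  rw [mul_smul, mul_smul, inv_smul_eq_iff.2 hsc.symm, htc, hsc]

/-- A proper subgroup containing all involutions at a point and moving it makes them commute. -/
theorem commAt_of_sub {c : G ⧸ H} {M : Subgroup G} (hMt : M ≠ ⊤)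
    (hI : ∀ s : G, orderOf s = 2 → s • c = c → s ∈ M) (hmove : ∃ g ∈ M, g • c ≠ c) :
    CommAt H c := by
  obtain ⟨t, ht, htc⟩ := exists_invol hM.hse c
  have hmM := mbar_sub_ne_one hM.hse hM.hm hI (M := M)
  have hsol := hM.IH M hMt _ (se_sub hM.hse ht htc (hI t ht htc) hmove) hmM
  set L := Subgroup.closure {s : G | orderOf s = 2 ∧ s • c = c} with hL
  have hLc : L ≤ St c := (Subgroup.closure_le _).2 fun s hs => hs.2
  have hLM : L ≤ M := (Subgroup.closure_le _).2 fun s hs => hI s hs.1 hs.2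
  refine hM.commAt_of_solvable (L := L) ?_ (fun g hg => ?_) hLc fun s hs hsc =>
    Subgroup.subset_closure ⟨hs, hsc⟩
  · haveI := hsol
    let f : ↥L →* ↥((St c).subgroupOf M) :=
      { toFun := fun x => ⟨⟨x, hLM x.2⟩, hLc x.2⟩
        map_one' := rfl
        map_mul' := fun _ _ => rfl }
    exact Group.isSolvable_of_isSolvable_injective (f := f) fun x y h =>
      Subtype.ext (congrArg (fun z : ↥((St c).subgroupOf M) => ((z : ↥M) : G)) h)
  · rw [hL, Fusion.cj, MonoidHom.map_closure, Subgroup.closure_le]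
    rintro _ ⟨s, hs, rfl⟩
    exact Subgroup.subset_closure (smul_involSet hg hs)

end Min

end Cfsg.Agent.SEB
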