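import Cfsg.Agent.Lib.Bender.Solvable.GoodCentric
import Cfsg.Agent.Lib.Bender.Solvable.Pre

/-!
# Solvability of a strongly embedded subgroup: `InvertFree` and `FixRich`

The first piece of the induction step, from the Sylow subgroups with two fixed points and the
centrality of the odd cores.
-/

set_option autoImplicit false
set_option linter.style.haveILetI false
set_option linter.unusedSectionVars false

open scoped Pointwise commutatorElement

namespace Cfsg.Agent.SEB

open Cfsg
open Cfsg.Agent.Fusion (SylIn cj)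
open Cfsg.Agent.Fusion.SEPairs
open Cfsg.Agent.Bender (fixSet)

universe u

variable {G : Type u} [Group G] [Finite G] {H : Subgroup G}

/-- An involution normalising a subgroup with an involution commutes with one of them. -/
theorem exists_commuting_invol {A : Subgroup G} {t x : G} (ht : orderOf t = 2) (hx : orderOf x = 2)
    (htA : t ∈ Subgroup.normalizer (A : Set G)) (hxA : x ∈ A) (htnA : t ∉ A) :
    ∃ s ∈ A, orderOf s = 2 ∧ Commute s t := by
  by_cases hc : Commute x t
  · exact ⟨x, hxA, hx, hc⟩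
  have hsq : ∀ i : ℕ, (t * x) ^ (2 * i) ∈ A := fun i => by
    rw [pow_mul, pow_two, show t * x * (t * x) = t * x * t⁻¹ * x by rw [inv_self ht]; group]
    exact pow_mem (mul_mem (Solv.conj_mem_of_mem_normalizer htA hxA) hxA) i
  rcases Nat.even_or_odd (orderOf (t * x)) with ⟨k, hk⟩ | ⟨k, hk⟩
  · have hpos := orderOf_pos (t * x)
    set w := (t * x) ^ k with hw
    have hww : w * w = 1 := by rw [hw, ← pow_add, ← hk, pow_orderOf_eq_one]
    have hw1 : w ≠ 1 := fun e => by
      have := Nat.le_of_dvd (by omega) (orderOf_dvd_of_pow_eq_one e)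
      omega
    have hflip : t * w * t⁻¹ = w := by
      rw [hw, ← conj_pow, show t * (t * x) * t⁻¹ = (t * t) * x * t⁻¹ by group, sq_one ht, one_mul,
        inv_self ht, show x * t = (t * x)⁻¹ by rw [mul_inv_rev, inv_self ht, inv_self hx], inv_pow]
      exact inv_eq_of_mul_eq_one_right hww
    have hwt : Commute w t := (mul_inv_eq_iff_eq_mul.1 hflip).symm
    rcases Nat.even_or_odd k with ⟨i, hi⟩ | ⟨i, hi⟩
    · exact ⟨w, by rw [hw, hi, ← two_mul]; exact hsq i,
        orderOf_eq_prime (by rw [pow_two]; exact hww) hw1, hwt⟩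
    · refine ⟨t * w, ?_, orderOf_eq_prime ?_ ?_, (Commute.refl t).mul_left hwt⟩
      · rw [hw, hi, pow_succ', ← mul_assoc, ← mul_assoc, sq_one ht, one_mul]
        exact mul_mem hxA (hsq i)
      · rw [hwt.symm.mul_pow, pow_two, pow_two, sq_one ht, hww, one_mul]
      · intro e
        refine hc ?_
        have htw : w = t := (eq_inv_of_mul_eq_one_right e).trans (inv_self ht)
        have h2 : Commute w (t * x) := Commute.pow_self (t * x) k
        rw [htw] at h2
        show x * t = t * x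
        calc x * t = t * (t * x * t) := by simp [← mul_assoc, sq_one ht]
          _ = t * (t * (t * x)) := by rw [h2.eq]
          _ = t * x := by simp [← mul_assoc, sq_one ht]
  · exfalso
    have h1 := hsq (k + 1)
    rw [show 2 * (k + 1) = (2 * k + 1) + 1 by omega, pow_succ, ← hk, pow_orderOf_eq_one, one_mul] at h1
    exact htnA (by simpa using mul_mem h1 (inv_mem hxA))

variable (hse : Cfsg.IsStronglyEmbedded H) (IH : ∀ M : Subgroup G, M ≠ ⊤ → Sol ↥M) (hm : mbar ↥H ≠ 1)
  (hN : H.normalCore = ⊥) (hcc : CoreCentral H)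
  (hps : ∀ (p : ℕ) [Fact p.Prime], p ∣ Bender.numInv H → PairSylow H p)
include hse IH hm hN hcc hps

theorem fixRich : FixRich H := by
  intro p X hp hpm hX hX0 h3
  haveI : Fact p.Prime := ⟨hp⟩
  suffices h : Rich H X by
    intro c hc
    obtain ⟨s, t, h1, h2, h3', h4, h5, h6, h7, h8⟩ := h c hc
    exact ⟨s, t, h1, h2, h3', h4, h5, h6, h7, h8⟩
  by_contra hbad
  obtain ⟨Y, -, hmax⟩ := Finite.exists_le_maximal
    (p := fun Y : Subgroup G => IsPGroup p Y ∧ Y ≠ ⊥ ∧ 3 ≤ (fixSet H Y).ncard ∧ ¬ Rich H Y) (a := X)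
    ⟨hX, hX0, h3, hbad⟩
  obtain ⟨hY, hY0, hY3, hYbad⟩ := hmax.1
  have hab : RichAbove H p Y := fun Z hlt hZ hZ3 => by
    by_contra hZbad
    exact hlt.not_ge (hmax.2 ⟨hZ, fun e => hY0 (le_bot_iff.1 (e ▸ hlt.le)), hZ3, hZbad⟩ hlt.le)
  by_cases hw : ∃ w, orderOf w = 2 ∧ w ∈ Subgroup.centralizer (Y : Set G)
  · obtain ⟨w, hw2, hwY⟩ := hw
    exact hYbad (rich_of_invol hse IH hm hcc hN (hps p hpm) hpm hY hY0 hY3 hab hw2 hwY)
  · push Not at hw
    exact false_of_no_invol hse IH hm hcc hN (hps p hpm) hpm hY hY0 hY3 hab hw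

/-- An element of prime order inverted at one of its two fixed points. -/
theorem invert_prime {c a : G ⧸ H} {t y : G} {p : ℕ} [Fact p.Prime] (hp2 : p ≠ 2) (ht : orderOf t = 2)
    (htc : t • c = c) (hty : t * y * t⁻¹ = y⁻¹) (hy : orderOf y = p) (hac : a ≠ c) (hyc : y • c = c)
    (hya : y • a = a) : False := by
  set X := Subgroup.zpowers y
  have hX : IsPGroup p X := IsPGroup.of_card (n := 1) (by rw [Nat.card_zpowers, hy, pow_one])
  have hX0 : X ≠ ⊥ := by
    rw [Ne, Subgroup.zpowers_eq_bot]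
    intro e
    rw [e, orderOf_one] at hy
    exact (Fact.out : p.Prime).one_lt.ne hy
  have hmem : ∀ {e : G ⧸ H}, y • e = e → e ∈ fixSet H X := fun he =>
    Subgroup.zpowers_le.2 (show y ∈ St _ from he)
  have hC : ∀ e ∈ ({c, a} : Set (G ⧸ H)), ∃ s, orderOf s = 2 ∧ s • e = e ∧ Commute y s := by
    intro e he
    have hye : y • e = e := by rcases he with rfl | rfl; exacts [hyc, hya]
    by_cases hpm : p ∣ Bender.numInv H
    · have hta : y • t • a = t • a := by
        rw [smul_smul, show y * t = t * y⁻¹ by rw [← hty]; simp [inv_self ht, ← mul_assoc, sq_one ht],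
          mul_smul, inv_smul_eq_iff.2 hya.symm]
      have h3 : 3 ≤ (fixSet H X).ncard := by
        have hsub : ({c, a, t • a} : Set (G ⧸ H)) ⊆ fixSet H X :=
          Set.insert_subset_iff.2 ⟨hmem hyc, Set.insert_subset_iff.2
            ⟨hmem hya, Set.singleton_subset_iff.2 (hmem hta)⟩⟩
        have := Set.ncard_le_ncard hsub (Set.toFinite _)
        rwa [Set.ncard_eq_three.2 ⟨c, a, t • a, Ne.symm hac, fun h => smul_ne_centre hse ht htc hac h.symm,
          fun h => ne_of_move hse ht htc hac h.symm, rfl⟩] at this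
      obtain ⟨s, -, hs, -, -, hse', -, -, hsC, -⟩ :=
        fixRich hse IH hm hN hcc hps p X Fact.out hpm hX hX0 h3 e (hmem hye)
      exact ⟨s, hs, hse', Subgroup.mem_centralizer_iff.1 hsC y (Subgroup.mem_zpowers y)⟩
    · set S := {s : G // orderOf s = 2 ∧ s • e = e}
      have hXe : X ≤ St e := hmem hye
      letI : MulAction X S :=
        { smul := fun w s => ⟨(w : G) * s.1 * (w : G)⁻¹, smul_involSet (hXe w.2) s.2⟩
          one_smul := fun s => Subtype.ext (by show (1 : G) * s.1 * (1 : G)⁻¹ = s.1; group)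
          mul_smul := fun w v s => Subtype.ext (by
            show (w : G) * v * s.1 * ((w : G) * v)⁻¹ = w * (v * s.1 * (v : G)⁻¹) * (w : G)⁻¹; group) }
      obtain ⟨s, hs⟩ := hX.nonempty_fixed_point_of_prime_not_dvd_card S (by rwa [Bender.card_fixing e])
      exact ⟨s.1, s.2.1, s.2.2,
        mul_inv_eq_iff_eq_mul.1 (congrArg Subtype.val (hs ⟨y, Subgroup.mem_zpowers y⟩))⟩
  set M := Subgroup.centralizer ({y} : Set G)
  have hmemM : ∀ {g : G}, Commute y g → g ∈ M := fun h => Subgroup.mem_centralizer_singleton_iff.2 h.eq.symm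
  obtain ⟨x, hx, hxc, hxy⟩ := hC c (Or.inl rfl)
  obtain ⟨s', hs', hs'a, hs'y⟩ := hC a (Or.inr rfl)
  have hM : M ≠ ⊤ := by
    intro h
    refine hX0 (Subgroup.zpowers_eq_bot.2 (eq_one_of_fix hse hN fun q => ?_))
    obtain ⟨g, rfl⟩ := exists_smul_eq' c q
    have hg : g ∈ M := h ▸ Subgroup.mem_top _
    rw [smul_smul, ← Subgroup.mem_centralizer_singleton_iff.1 hg, ← smul_smul, hyc]
  have htM : t ∈ Subgroup.normalizer (M : Set G) := Fusion.mem_normalizer_of_cj_le (by
    rintro _ ⟨w, hw, rfl⟩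
    refine hmemM (Commute.symm ?_)
    show Commute (t * w * t⁻¹) y
    have h1 : Commute w y⁻¹ := (show Commute w y from Subgroup.mem_centralizer_singleton_iff.1 hw).inv_right
    have h2 := h1.map (MulAut.conj t).toMonoidHom
    simp only [MulEquiv.coe_toMonoidHom, MulAut.conj_apply] at h2
    rwa [show t * y⁻¹ * t⁻¹ = (t * y * t⁻¹)⁻¹ by group, hty, inv_inv] at h2)
  have htnM : t ∉ M := by
    intro h
    rw [Subgroup.mem_centralizer_singleton_iff.1 h, mul_inv_cancel_right] at hty
    have h2 : orderOf y ∣ 2 := orderOf_dvd_of_pow_eq_one (by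
      rw [pow_two]; nth_rewrite 2 [hty]; exact mul_inv_cancel y)
    rw [hy] at h2
    exact hp2 ((Nat.prime_dvd_prime_iff_eq Fact.out Nat.prime_two).1 h2)
  set A := M ⊓ St c
  have htA : t ∈ Subgroup.normalizer (A : Set G) := Fusion.mem_normalizer_iff_cj.2 (by
    rw [Fusion.cj_inf, Fusion.cj_eq_self htM, Fusion.cj_eq_self_of_mem (show t ∈ St c from htc)])
  obtain ⟨s, hsA, hs, hst⟩ := exists_commuting_invol ht hx htA
    (show x ∈ A from ⟨hmemM hxy, hxc⟩) fun h => htnM h.1
  rcases norm_le hse IH hM ht htM hs hsA.2 hsA.1 hst with h | h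
  · exact hac (fixed_unique hse hs' hs'a (h (hmemM hs'y)))
  · exact htnM h

theorem invertFree : InvertFree H := by
  intro c a t y ht htc hty hodd hac hyc hya
  by_contra hy1
  obtain ⟨p, hp, hpd⟩ := Nat.exists_prime_and_dvd (fun e => hy1 (orderOf_eq_one_iff.1 e) : orderOf y ≠ 1)
  haveI : Fact p.Prime := ⟨hp⟩
  obtain ⟨k, hk⟩ := hpd
  have hk0 : k ≠ 0 := fun e => (orderOf_pos y).ne' (by rw [hk, e, mul_zero])
  refine invert_prime hse IH hm hN hcc hps (c := c) (a := a) (t := t) (y := y ^ k) (p := p) ?_ ht htc ?_ ?_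
    hac ?_ ?_
  · rintro rfl
    exact Nat.not_even_iff_odd.2 hodd (hk ▸ (even_two.mul_right k))
  · rw [← conj_pow, hty, inv_pow]
  · rw [orderOf_pow' y hk0, hk, Nat.gcd_mul_left_left,
      Nat.mul_div_cancel _ (Nat.pos_of_ne_zero hk0)]
  · exact MulAction.mem_stabilizer_iff.1 (pow_mem (MulAction.mem_stabilizer_iff.2 hyc) k)
  · exact MulAction.mem_stabilizer_iff.1 (pow_mem (MulAction.mem_stabilizer_iff.2 hya) k)

omit hse IH hm hN hcc hps in
/-- The first piece, from the Sylow subgroups with two fixed points and the centrality of the cores. -/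
theorem good_of (hmin : Min H)
    (hps : ∀ (p : ℕ) [Fact p.Prime], p ∣ Bender.numInv H → PairSylow H p) (hcc : CoreCentral H) :
    InvertFree H ∧ FixRich H :=
  ⟨invertFree hmin.hse hmin.IH hmin.hm hmin.hN hcc hps, fixRich hmin.hse hmin.IH hmin.hm hmin.hN hcc hps⟩

omit hse IH hm hN hcc hps in
/-- `GoodStatement`. -/
theorem good_all : GoodStatement.{u} := fun _ _ _ _ hmin =>
  good_of hmin (fun _ _ hp _ _ hca => hmin.sylow_pair hp (Ne.symm hca))
    fun _ _ ht htc _ hx => hmin.commute_Wc ht htc hx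

end Cfsg.Agent.SEB
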