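import Cfsg.Agent.Lib.Bender.Solvable.GoodFix
import Cfsg.Agent.Lib.Solv.UniqueSub

/-!
# Solvability of a strongly embedded subgroup: good subgroups are centralised by commuting involutions

If no involution centralises the good subgroup, the involutions at a point commute, through the
normaliser of the common `p'`-core of the pairs or, when that is trivial, of a `ZJ`.
-/

set_option autoImplicit false
set_option linter.style.haveILetI false
set_option linter.unusedSectionVars false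

open scoped Pointwise commutatorElement

namespace Cfsg.Agent.SEB

open Cfsg
open Cfsg.Agent.Fusion (SylIn cj)
open Cfsg.Agent.Fusion.SEPairs
open Cfsg.Agent.Bender (fixSet)

universe u

variable {G : Type u} [Group G] [Finite G] {H : Subgroup G}

/-- The involutions at each point centralise the odd core of its stabiliser. -/
def CoreCentral (H : Subgroup G) : Prop :=
  ∀ (c : G ⧸ H) (t : G), orderOf t = 2 → t • c = c → ∀ x ∈ Wc c, Commute t x

/-- `ZJ` is abelian. -/
theorem zjOf_comm (p : ℕ) (R : Subgroup G) : IsMulCommutative (OddLocal.Fact2.zjOf p R) := ⟨⟨by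
  rintro ⟨_, x, hx, rfl⟩ ⟨_, y, hy, rfl⟩
  exact Subtype.ext (show (x : G) * y = y * x from
    congrArg Subtype.val ((Subgroup.mem_inf.1 hy).2 x (Subgroup.mem_inf.1 hx).1))⟩⟩

/-- A normal subgroup of order prime to `p` lies in the `p'`-core. -/
theorem le_pcoreIn_of_normal {p : ℕ} [Fact p.Prime] {D Y : Subgroup G} (hYD : Y ≤ D)
    (hY : (Nat.card Y).Coprime p) (hn : D ≤ Subgroup.normalizer (Y : Set G)) : Y ≤ pcoreIn p D := by
  intro y hy
  haveI : (Y.subgroupOf D).Normal := Subgroup.normal_subgroupOf_of_le_normalizer hn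
  refine ⟨⟨y, hYD hy⟩, Fusion.le_pPrimeCore (N := Y.subgroupOf D) ?_ hy, rfl⟩
  rwa [Nat.card_congr (Subgroup.subgroupOfEquivOfLe hYD).toEquiv]

variable (hse : Cfsg.IsStronglyEmbedded H) (IH : ∀ M : Subgroup G, M ≠ ⊤ → Sol ↥M) (hm : mbar ↥H ≠ 1)
  (hcc : CoreCentral H)
include hse IH hm hcc

/-- A proper subgroup containing all involutions at a point it moves makes them commute. -/
theorem commute_of_local {M : Subgroup G} (hM : M ≠ ⊤) {c : G ⧸ H}
    (hI : ∀ s, orderOf s = 2 → s • c = c → s ∈ M) (hmove : ∃ g ∈ M, g • c ≠ c) {s t : G}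
    (hs : orderOf s = 2) (ht : orderOf t = 2) (hsc : s • c = c) (htc : t • c = c) : Commute s t := by
  have hseM := se_sub hse hs hsc (hI s hs hsc) hmove
  have hmM := mbar_sub_ne_one hse hm hI
  have hsol := IH M hM _ hseM hmM
  have hk : ⁅s, t⁆ ∈ orbitKer M c := by
    refine ⟨_, invol_commutator_core hseM hsol hmM (s := ⟨s, hI s hs hsc⟩) (t := ⟨t, hI t ht htc⟩)
      (by rw [Subgroup.orderOf_mk]; exact hs) (by rw [Subgroup.orderOf_mk]; exact ht) hsc htc, ?_⟩
    rw [map_commutatorElement]; rfl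
  have hkodd : Odd (Nat.card ↥(orbitKer M c)) := orbitKer_odd hse hmove
  -- it lies in the odd core of the stabiliser
  set P := Subgroup.closure {x : ↥(St c) | orderOf x = 2} with hP
  haveI hPn : P.Normal := by
    refine ⟨fun n hn g => ?_⟩
    induction hn using Subgroup.closure_induction with
    | mem x hx => exact Subgroup.subset_closure (conj_involution hx g)
    | one => rw [mul_one, mul_inv_cancel]; exact one_mem _
    | mul a b _ _ iha ihb =>
      rw [show g * (a * b) * g⁻¹ = g * a * g⁻¹ * (g * b * g⁻¹) by group]; exact mul_mem iha ihb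
    | inv a _ iha => rw [← conj_inv]; exact inv_mem iha
  have hPM : ∀ x ∈ P, (x : G) ∈ M := fun x hx => by
    induction hx using Subgroup.closure_induction with
    | mem x hx => exact hI _ (by rw [Subgroup.orderOf_coe]; exact hx) x.2
    | one => exact one_mem _
    | mul a b _ _ iha ihb => exact mul_mem iha ihb
    | inv a _ iha => exact inv_mem iha
  set J := ((orbitKer M c).subgroupOf (St c)).subgroupOf P with hJ
  haveI hJn : J.Normal := ⟨fun n hn g => by
    show ((g * n * g⁻¹ : ↥P) : ↥(St c)).1 ∈ orbitKer M c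
    push_cast
    exact Solv.conj_mem_of_mem_normalizer (le_normalizer_orbitKer M c (hPM _ g.2)) hn⟩
  have hJodd : Odd (Nat.card J) := hkodd.of_dvd_nat
    ((Subgroup.card_comap_dvd_of_injective _ _ P.subtype_injective).trans
      (Subgroup.card_comap_dvd_of_injective _ _ (St c).subtype_injective))
  haveI : ((pPrimeCore 2 ↥P).map P.subtype).Normal := inferInstance
  have hkP : (⟨⁅s, t⁆, orbitKer_le_St hk⟩ : ↥(St c)) ∈ P := by
    have hs' : (⟨s, hsc⟩ : ↥(St c)) ∈ P :=
      Subgroup.subset_closure (show orderOf _ = 2 by rw [← Subgroup.orderOf_coe]; exact hs)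
    have ht' : (⟨t, htc⟩ : ↥(St c)) ∈ P :=
      Subgroup.subset_closure (show orderOf _ = 2 by rw [← Subgroup.orderOf_coe]; exact ht)
    have h := mul_mem (mul_mem (mul_mem hs' ht') (inv_mem hs')) (inv_mem ht')
    convert h using 1
    exact Subtype.ext (by simp [commutatorElement_def])
  have hW : ⁅s, t⁆ ∈ Wc c := by
    refine ⟨⟨⁅s, t⁆, orbitKer_le_St hk⟩, le_oddCore (N := (pPrimeCore 2 ↥P).map P.subtype) ?_
      ⟨⟨_, hkP⟩, le_oddCore (N := J) hJodd hk, rfl⟩, rfl⟩
    rw [Subgroup.card_map_of_injective P.subtype_injective]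
    exact card_oddCore_odd' _
  have hx := hcc c s hs hsc _ hW
  have hinv : s * ⁅s, t⁆ * s⁻¹ = ⁅s, t⁆⁻¹ := by
    rw [commutatorElement_def, inv_self hs, inv_self ht]
    simp only [mul_inv_rev, inv_self hs, inv_self ht, ← mul_assoc, sq_one hs, one_mul]
  rw [hx.eq, mul_inv_cancel_right] at hinv
  have hsq : ⁅s, t⁆ * ⁅s, t⁆ = 1 := by
    nth_rewrite 2 [hinv]
    exact mul_inv_cancel _
  refine commutatorElement_eq_one_iff_mul_comm.1 (orderOf_eq_one_iff.1 (Nat.eq_one_of_dvd_coprimes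
    (Nat.coprime_two_left.2 (hkodd.of_dvd_nat (Subgroup.orderOf_dvd_natCard _ hk)))
    (orderOf_dvd_of_pow_eq_one (by rw [pow_two]; exact hsq)) dvd_rfl))

variable (hN : H.normalCore = ⊥) {p : ℕ} [hp : Fact p.Prime] (hps : PairSylow H p)
  (hpm : p ∣ Bender.numInv H)
include hN hps hpm

variable {X : Subgroup G} (hX : IsPGroup p X) (hX0 : X ≠ ⊥) (h3 : 3 ≤ (fixSet H X).ncard)
  (hab : RichAbove H p X)
include hX hX0 h3 hab

/-- If some involution centralises `X`, two commuting ones do at each fixed point. -/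
theorem rich_of_invol {w : G} (hw : orderOf w = 2) (hwX : w ∈ Subgroup.centralizer (X : Set G)) :
    Rich H X := by
  intro c hc
  obtain ⟨s, t, h1, h2, h3', h4, h5, h6, h7, h8⟩ := fix_pair hse IH hN hps hpm hX hX0 h3 hab hc
  have hwN := Subgroup.centralizer_le_normalizer _ hwX
  have hsec : ∀ u, orderOf u = 2 → u ∈ Subgroup.normalizer (X : Set G) →
      u ∈ Subgroup.centralizer (X : Set G) := by
    intro u hu huN
    obtain ⟨e, hwe⟩ := exists_fixed hse hw
    have he := centre_mem hse IH hN hps hpm hX hX0 h3 hab hw hwN hwe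
    obtain ⟨a, ha, hae⟩ : ∃ a ∈ fixSet H X, a ≠ e := by
      obtain ⟨a, b, -, ha, hb, -, hab', -, -⟩ := (Set.two_lt_ncard_iff (Set.toFinite _)).1 h3
      by_cases h : a = e
      · exact ⟨b, hb, fun e' => hab' (h.trans e'.symm)⟩
      · exact ⟨a, ha, h⟩
    obtain ⟨g, hg, hge⟩ := fix_move hse IH hN hps hpm hX hX0 h3 hab he ha
    obtain ⟨k, hk, hku⟩ := conj_in hse hw hwe hwN ⟨g, hg, by rw [hge]; exact hae⟩ hu huN
    rw [← hku]
    have hkC : cj (Subgroup.centralizer (X : Set G)) k = Subgroup.centralizer (X : Set G) := by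
      rw [Fusion.cj_centralizer, Fusion.cj_eq_self hk]
    rw [← hkC]
    exact ⟨w, hwX, rfl⟩
  exact ⟨s, t, h1, h2, h3', h4, h5, h6, hsec s h1 h7, hsec t h2 h8⟩

variable (hno : ∀ w, orderOf w = 2 → w ∉ Subgroup.centralizer (X : Set G))
include hno

omit hm hcc in
/-- With no involution centralising `X`, the `p`-overgroups fix at most two points. -/
theorem no_three {Y : Subgroup G} (hlt : X < Y) (hY : IsPGroup p Y) {z : G ⧸ H} (hz : z ∈ fixSet H Y)
    (hY3 : 3 ≤ (fixSet H Y).ncard) : False := by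
  obtain ⟨s, hs, -, hsY⟩ := (hab Y hlt hY hY3 z hz).exists_invol
  exact hno s hs (Subgroup.centralizer_le hlt.le hsY)

omit hm hcc in
/-- The involutions at a fixed point do not all commute. -/
theorem not_commute {a : G ⧸ H} (ha : a ∈ fixSet H X)
    (hcomm : ∀ s t : G, orderOf s = 2 → orderOf t = 2 → s • a = a → t • a = a → Commute s t) : False := by
  obtain ⟨v, hv, hv2, hva⟩ := fix_invol hse IH hN hps hpm hX hX0 h3 hab ha
  refine hno v hv2 (Subgroup.mem_centralizer_iff.2 fun x hx => ?_)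
  have hxa : x • a = a := ha hx
  have hc := hcomm v (x * v * x⁻¹) hv2 (conj_involution hv2 x) hva
    (by rw [mul_smul, mul_smul, inv_smul_eq_iff.2 hxa.symm, hva, hxa])
  have hmem : v * (x * v * x⁻¹) ∈ X := by
    rw [show v * (x * v * x⁻¹) = v * x * v⁻¹ * x⁻¹ * (1 : G) by rw [inv_self hv2]; group]
    exact mul_mem (mul_mem (Solv.conj_mem_of_mem_normalizer hv hx) (inv_mem hx)) (one_mem _)
  have hsq : (v * (x * v * x⁻¹)) ^ 2 = 1 := by
    rw [hc.mul_pow, pow_two, pow_two, sq_one hv2, sq_one (conj_involution hv2 x), one_mul]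
  obtain ⟨k, hk⟩ := IsPGroup.iff_card.1 hX
  have h1 : v * (x * v * x⁻¹) = 1 := orderOf_eq_one_iff.1 (Nat.eq_one_of_dvd_coprimes
    (((Nat.coprime_primes hp.out Nat.prime_two).2 (Bender.p_ne_two hse hpm)).pow_left k)
    (hk ▸ Subgroup.orderOf_dvd_natCard _ hmem) (orderOf_dvd_of_pow_eq_one hsq))
  rw [mul_eq_one_iff_eq_inv, mul_inv_rev, mul_inv_rev, inv_inv, inv_self hv2] at h1
  calc x * v = x * (x * (v * x⁻¹))⁻¹⁻¹ := by rw [← h1]; simp [inv_self hv2]
    _ = v * x := by
      have h2 : x * v * x⁻¹ = v := by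
        calc x * v * x⁻¹ = (x * (v * x⁻¹)) := by group
          _ = v := h1.symm
      rw [inv_inv, show x * (v * x⁻¹) = v by rw [← mul_assoc]; exact h2]
      exact mul_inv_eq_iff_eq_mul.1 h2

omit hm hcc in
/-- An abelian `p`-subgroup of a pair stabiliser normalised by `X` lies in `X`. -/
theorem abel_le {b c : G ⧸ H} (hb : b ∈ fixSet H X) (hc : c ∈ fixSet H X) (hbc : b ≠ c) {A : Subgroup G}
    (hA : IsMulCommutative A) (hAp : IsPGroup p A) (hAD : A ≤ St2 b c)
    (hXA : X ≤ Subgroup.normalizer (A : Set G)) : A ≤ X := by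
  by_contra hle
  set N := Subgroup.normalizer (X : Set G) with hNdef
  have hXD : X ≤ St2 b c := le_inf hb hc
  have hAX : IsPGroup p ↥(A ⊔ X : Subgroup G) := by
    rw [sup_comm]; exact IsPGroup.to_sup_of_normal_right' hX hAp hXA
  obtain ⟨g, ⟨hg, hgN⟩, hgX⟩ := SetLike.exists_of_lt
    (SylIn.normalizer_growth (T := X) le_sup_right (fun e => hle (e ▸ le_sup_left)) hAX)
  obtain ⟨a, ha, x, hx, rfl⟩ : ∃ a ∈ A, ∃ x ∈ X, a * x = g := by
    have := Subgroup.coe_mul_of_right_le_normalizer_left A X hXA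
    have hg' : g ∈ ((A ⊔ X : Subgroup G) : Set G) := hg
    rw [this] at hg'
    exact hg'
  have haN : a ∈ N := by simpa using mul_mem (show a * x ∈ N from hgN) (inv_mem (show x ∈ N from Subgroup.le_normalizer hx))
  have haX : a ∉ X := fun h => hgX (mul_mem h hx)
  have hNtop := fix_normalizer_ne_top hse IH hN hX0 hc
  have hmove : ∃ n ∈ N, n • c ≠ c := by
    obtain ⟨n, hn, hnc⟩ := fix_move hse IH hN hps hpm hX hX0 h3 hab hc hb
    exact ⟨n, hn, by rw [hnc]; exact hbc⟩
  obtain ⟨e, t, he, ht, het, hec, htc, hcomm, heN, htN⟩ := fix_pair hse IH hN hps hpm hX hX0 h3 hab hc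
  have hcom : ∀ u w : G, orderOf u = 2 → orderOf w = 2 → u ∈ N → w ∈ N → u • c = c → w • c = c →
      ⁅u, w⁆ ∈ orbitKer N c := fun u w hu hw huN hwN huc hwc =>
    commutator_mem_orbitKer hse IH hNtop hmove he ht het hcomm heN htN hec hu hw huN hwN huc hwc
  obtain ⟨hseN, hsol, -⟩ := sub_solvable_of_pair hse IH hNtop hmove he ht het hcomm heN htN hec
  set D := Subgroup.zpowers a ⊔ X with hD
  have hDbc : D ≤ St2 b c := sup_le (Subgroup.zpowers_le.2 (hAD ha)) hXD
  have hDN : D ≤ N := sup_le (Subgroup.zpowers_le.2 haN) Subgroup.le_normalizer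
  have hDle : D ≤ N ⊓ St c := le_inf hDN (hDbc.trans inf_le_right)
  have hDodd : Odd (Nat.card D) := (St2_odd hse hbc).of_dvd_nat (Subgroup.card_dvd_of_le hDbc)
  obtain ⟨-, habS, -⟩ := involGen_sup hcom hsol (orbitKer_odd hse hmove) hDle hDodd
  set L := involGen N c ⊔ D
  have hLN : L ≤ N := sup_le ((involGen_le N c).trans inf_le_left) hDN
  have hq : ⁅⁅X, Subgroup.zpowers a⁆, Subgroup.zpowers a⁆ = ⊥ := by
    refine eq_bot_iff.2 ((Subgroup.commutator_mono ?_ le_rfl).trans (le_of_eq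
      (Subgroup.commutator_eq_bot_iff_le_centralizer.2 fun y hy => Subgroup.mem_centralizer_iff.2
        fun z hz => congrArg Subtype.val (hA.is_comm.comm ⟨z, Subgroup.zpowers_le.2 ha hz⟩ ⟨y, hy⟩) :
          ⁅A, Subgroup.zpowers a⁆ = ⊥)))
    refine Subgroup.commutator_le.2 fun y hy z hz => ?_
    rw [commutatorElement_def]
    exact mul_mem (Solv.conj_mem_of_mem_normalizer (hXA hy) (Subgroup.zpowers_le.2 ha hz))
      (inv_mem (Subgroup.zpowers_le.2 ha hz))
  have hC : Odd (Nat.card ↥(L ⊓ Subgroup.centralizer (X : Set G))) :=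
    odd_of_no_invol fun w hw hw2 => hno w hw2 hw.2
  obtain ⟨K, haK, hKodd, hLK⟩ := quadratic_mem (p := p) (Bender.p_ne_two hse hpm) habS hX
    (le_sup_right.trans le_sup_right) hLN
    (Subgroup.mem_sup_right (Subgroup.mem_sup_left (Subgroup.mem_zpowers a))) hq hC
  have heJ : e ∈ involGen N c := mem_involGen heN he hec
  have hkK : ⁅a, e⁆ ∈ K := by
    rw [commutatorElement_def, show a * e * a⁻¹ * e⁻¹ = a * (e * a⁻¹ * e⁻¹) by group]
    exact mul_mem haK (Solv.conj_mem_of_mem_normalizer (hLK (Subgroup.mem_sup_left heJ)) (inv_mem haK))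
  have hac : a • c = c := (hAD ha).2
  have hkJ : ⁅a, e⁆ ∈ involGen N c := by
    rw [commutatorElement_def]
    exact mul_mem (mem_involGen (mul_mem (mul_mem haN heN) (inv_mem haN)) (conj_involution he a)
      (smul_involSet hac ⟨he, hec⟩).2) (inv_mem heJ)
  obtain ⟨j, hj⟩ := hKodd.of_dvd_nat (Subgroup.orderOf_dvd_natCard _ hkK)
  have hkK0 : ⁅a, e⁆ ∈ orbitKer N c := by
    have := pow_mem (involGen_sq hcom hkJ) (j + 1)
    rwa [← pow_two, ← pow_mul, show 2 * (j + 1) = (2 * j + 1) + 1 by omega, pow_succ, ← hj,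
      pow_orderOf_eq_one, one_mul] at this
  have hebF : e • b ∈ fixSet H X := Bender.smul_mem_fixSet heN hb
  obtain ⟨n, hn, hnc⟩ := fix_move hse IH hN hps hpm hX hX0 h3 hab hc hebF
  have hfix := orbitKer_fix hkK0 hn
  rw [hnc, commutatorElement_def, mul_smul, mul_smul, mul_smul, inv_smul_smul,
    inv_smul_eq_iff.2 (show a • b = b from (hAD ha).1).symm] at hfix
  set Y := D
  have hYp : IsPGroup p Y := hAX.to_le (sup_le_sup_right (Subgroup.zpowers_le.2 ha) X)
  have hlt : X < Y := lt_of_le_not_ge le_sup_right fun h =>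
    haX (h (Subgroup.mem_sup_left (Subgroup.mem_zpowers a)))
  have hebY : e • b ∈ fixSet H Y := sup_le (Subgroup.zpowers_le.2 (show a ∈ St (e • b) from hfix)) hebF
  have hsub : ({b, c, e • b} : Set (G ⧸ H)) ⊆ fixSet H Y :=
    Set.insert_subset_iff.2 ⟨hDbc.trans inf_le_left, Set.insert_subset_iff.2
      ⟨hDbc.trans inf_le_right, Set.singleton_subset_iff.2 hebY⟩⟩
  have hc3 := Set.ncard_le_ncard hsub (Set.toFinite _)
  rw [Set.ncard_eq_three.2 ⟨b, c, e • b, hbc, fun h => ne_of_move hse he hec hbc h.symm,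
    fun h => smul_ne_centre hse he hec hbc h.symm, rfl⟩] at hc3
  exact no_three hse IH hN hps hpm hX hX0 h3 hab hno hlt hYp (z := b) (hDbc.trans inf_le_left) hc3

omit hm hcc in
/-- The `p'`-core of the stabiliser of three fixed points lies in that of two of them. -/
theorem triple_core_le {a b c : G ⧸ H} (ha : a ∈ fixSet H X) (hb : b ∈ fixSet H X) (hc : c ∈ fixSet H X)
    (hbc : b ≠ c) : pcoreIn p (St2 b c ⊓ St a) ≤ pcoreIn p (St2 b c) := by
  obtain ⟨Q, hXQ, hQ, -, -⟩ := exists_bigger hse hps hpm hX h3 hbc (le_inf hb hc)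
  obtain ⟨A, hAn, hAab, hAc⟩ := Solv.exists_maximal_abelian_normal hQ.isPGroup
  set B := A.map Q.subtype with hB
  have hBQ : B ≤ Q := Subgroup.map_subtype_le _
  have hQB : Q ≤ Subgroup.normalizer (B : Set G) := fun q hq =>
    Subgroup.le_normalizer_map Q.subtype ⟨⟨q, hq⟩, by
      rw [Subgroup.normalizer_eq_top_iff.2 hAn]; exact Subgroup.mem_top _, rfl⟩
  have hBc : IsMulCommutative B := ⟨⟨by
    rintro ⟨_, x, hx, rfl⟩ ⟨_, y, hy, rfl⟩
    exact Subtype.ext (show (x : G) * y = y * x from congrArg Subtype.val (hAab x hx y hy))⟩⟩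
  have hBX : B ≤ X := abel_le hse IH hN hps hpm hX hX0 h3 hab hno hb hc hbc hBc
    (hQ.isPGroup.to_le hBQ) (hBQ.trans hQ.le) (hXQ.trans hQB)
  have hodd := St2_odd hse hbc
  refine le_pcoreIn_of_centric (odd_solvable hodd) hodd (Bender.p_ne_two hse hpm) hQ hBQ hQB hBc ?_
    ((pcoreIn_le _).trans inf_le_left) (card_pcoreIn_coprime _) ?_
  · rintro q ⟨hq, hqc⟩
    have : (⟨q, hq⟩ : Q) ∈ Subgroup.centralizer (A : Set Q) := Subgroup.mem_centralizer_iff.2 fun x hx =>
      Subtype.ext (Subgroup.mem_centralizer_iff.1 hqc x ⟨x, hx, rfl⟩)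
    rw [hAc] at this
    exact ⟨_, this, rfl⟩
  · exact (le_inf (hBQ.trans hQ.le) (hBX.trans ha)).trans (le_normalizer_pcoreIn _)

omit hm hcc in
/-- The core of a swapped pair fixes the centre. -/
theorem core_le_centre {a b c : G ⧸ H} (ha : a ∈ fixSet H X) (hb : b ∈ fixSet H X) (hc : c ∈ fixSet H X)
    (hbc : b ≠ c) {v : G} (hv : v ∈ Subgroup.normalizer (X : Set G)) (hv2 : orderOf v = 2)
    (hva : v • a = a) (hvb : v • b = c) : pcoreIn p (St2 b c) ≤ St a := by
  obtain ⟨x, y, hx, hy, hxy, hxa, hya, hcomm, hxN, hyN⟩ := fix_pair hse IH hN hps hpm hX hX0 h3 hab ha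
  have hba : b ≠ a := fun e => hbc (by rw [← hvb, e, hva])
  obtain ⟨n, hn, hna⟩ := fix_move hse IH hN hps hpm hX hX0 h3 hab ha hb
  obtain ⟨g, hg, hgx⟩ := conj_in hse hx hxa hxN ⟨n, hn, by rw [hna]; exact hba⟩ hv2 hv
  set s₀ := g * y * g⁻¹
  have hs₀ : orderOf s₀ = 2 := conj_involution hy g
  have hs₀v : Commute s₀ v := hgx ▸ (hcomm.symm.map (MulAut.conj g).toMonoidHom)
  have hs₀ne : s₀ ≠ v := fun e => hxy (by
    rw [← hgx] at e
    exact (mul_left_cancel (mul_right_cancel e)).symm)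
  have hs₀N : s₀ ∈ Subgroup.normalizer (X : Set G) := mul_mem (mul_mem hg hyN) (inv_mem hg)
  have hXodd : Odd (Nat.card X) := by
    obtain ⟨k, hk⟩ := IsPGroup.iff_card.1 hX
    rw [hk]; exact (hp.out.odd_of_ne_two (Bender.p_ne_two hse hpm)).pow
  -- an involution commuting with `v` centralising an inverted element
  obtain ⟨s, hs, hsv, hsN, z, hzX, hzs, hz1, hzv⟩ : ∃ s, orderOf s = 2 ∧ Commute s v ∧
      s ∈ Subgroup.normalizer (X : Set G) ∧ ∃ z ∈ X, Commute s z ∧ z ≠ 1 ∧ v * z * v⁻¹ = z⁻¹ := by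
    have hmk : ∀ s, orderOf s = 2 → Commute s v → s ∈ Subgroup.normalizer (X : Set G) →
        ¬ X ⊓ Subgroup.centralizer {s} ≤ Subgroup.centralizer {v} →
        ∃ z ∈ X, Commute s z ∧ z ≠ 1 ∧ v * z * v⁻¹ = z⁻¹ := by
      intro s hs hsv hsN hnle
      obtain ⟨w, hw, hwv⟩ := SetLike.not_le_iff_exists.1 hnle
      have hsw : Commute s w := (Subgroup.mem_centralizer_singleton_iff.1 hw.2).symm
      refine ⟨v * w * v⁻¹ * w⁻¹, mul_mem (Solv.conj_mem_of_mem_normalizer hv hw.1) (inv_mem hw.1),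
        ((hsv.mul_right hsw).mul_right hsv.inv_right).mul_right hsw.inv_right, fun e => hwv ?_, ?_⟩
      · rw [mul_inv_eq_one, mul_inv_eq_iff_eq_mul] at e
        exact Subgroup.mem_centralizer_singleton_iff.2 e.symm
      · rw [show (v * w * v⁻¹ * w⁻¹)⁻¹ = w * v * w⁻¹ * v⁻¹ by group,
          show v * (v * w * v⁻¹ * w⁻¹) * v⁻¹ = (v * v) * w * v⁻¹ * w⁻¹ * v⁻¹ by group, sq_one hv2,
          one_mul, inv_self hv2]
    by_cases h1 : X ⊓ Subgroup.centralizer {s₀} ≤ Subgroup.centralizer {v}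
    swap
    · exact ⟨s₀, hs₀, hs₀v, hs₀N, hmk s₀ hs₀ hs₀v hs₀N h1⟩
    have hw : orderOf (s₀ * v) = 2 := by
      refine orderOf_eq_prime ?_ fun e => hs₀ne ?_
      · rw [hs₀v.mul_pow, pow_two, pow_two, sq_one hs₀, sq_one hv2, one_mul]
      · exact (eq_inv_of_mul_eq_one_left e).trans (inv_self hv2)
    by_cases h2 : X ⊓ Subgroup.centralizer {s₀ * v} ≤ Subgroup.centralizer {v}
    swap
    · exact ⟨s₀ * v, hw, hs₀v.mul_left (Commute.refl v), mul_mem hs₀N hv,
        hmk _ hw (hs₀v.mul_left (Commute.refl v)) (mul_mem hs₀N hv) h2⟩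
    exfalso
    refine hno v hv2 (Subgroup.mem_centralizer_iff.2 fun w hw' => ?_)
    exact Subgroup.mem_centralizer_singleton_iff.1
      (le_of_four hXodd hs₀ hv2 hs₀N hv hs₀v h1 inf_le_right h2 hw')
  have hsa : s • a = a := smul_of_commute hse hv2 hva hsv.symm
  set M := Subgroup.centralizer ({z} : Set G)
  have hM : M ≠ ⊤ := by
    intro h
    refine hz1 (eq_one_of_fix hse hN fun q => ?_)
    obtain ⟨g', rfl⟩ := exists_smul_eq' a q
    have hg' : g' ∈ M := h ▸ Subgroup.mem_top _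
    rw [smul_smul, ← Subgroup.mem_centralizer_singleton_iff.1 hg', ← smul_smul, show z • a = a from ha hzX]
  have hvM : v ∈ Subgroup.normalizer (M : Set G) := Fusion.mem_normalizer_of_cj_le (by
    rintro _ ⟨w, hw, rfl⟩
    refine Subgroup.mem_centralizer_singleton_iff.2 ?_
    show Commute (v * w * v⁻¹) z
    have h1 : Commute w z⁻¹ := (show Commute w z from Subgroup.mem_centralizer_singleton_iff.1 hw).inv_right
    have h2 := h1.map (MulAut.conj v).toMonoidHom
    simp only [MulEquiv.coe_toMonoidHom, MulAut.conj_apply] at h2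
    rwa [show v * z⁻¹ * v⁻¹ = (v * z * v⁻¹)⁻¹ by group, hzv, inv_inv] at h2)
  have hzodd : Odd (orderOf z) := hXodd.of_dvd_nat (Subgroup.orderOf_dvd_natCard _ hzX)
  have hCle : M ≤ St a := by
    rcases norm_le hse IH hM hv2 hvM hs hsa (Subgroup.mem_centralizer_singleton_iff.2 hzs.eq) hsv with h | h
    · exact h
    exfalso
    rw [Subgroup.mem_centralizer_singleton_iff.1 h, mul_inv_cancel_right] at hzv
    refine hz1 (orderOf_eq_one_iff.1 (Nat.eq_one_of_dvd_coprimes (Nat.coprime_two_left.2 hzodd)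
      (orderOf_dvd_of_pow_eq_one ?_) dvd_rfl))
    rw [pow_two]; nth_rewrite 2 [hzv]; exact mul_inv_cancel z
  set K := pcoreIn p (St2 b c)
  have hKodd : Odd (Nat.card K) := (St2_odd hse hbc).of_dvd_nat (Subgroup.card_dvd_of_le (pcoreIn_le _))
  have hvc : v • c = b := by rw [← hvb, smul_smul_self hv2]
  set Y := Subgroup.zpowers z
  have hvY : v ∈ Subgroup.normalizer (Y : Set G) := Fusion.mem_normalizer_of_cj_le (by
    show (Subgroup.zpowers z).map (MulAut.conj v).toMonoidHom ≤ _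
    rw [MonoidHom.map_zpowers, Subgroup.zpowers_le]
    show v * z * v⁻¹ ∈ Y
    rw [hzv]; exact inv_mem (Subgroup.mem_zpowers z))
  have hzD : Y ≤ St2 b c := Subgroup.zpowers_le.2 ⟨hb hzX, hc hzX⟩
  have hYv : ⁅Y, Subgroup.zpowers v⁆ = Y := by
    refine le_antisymm (Solv.commutator_normal_in (Subgroup.zpowers_le.2 hvY)).1 ?_
    have h1 : z * z ∈ ⁅Y, Subgroup.zpowers v⁆ := by
      have := Subgroup.commutator_mem_commutator (Subgroup.mem_zpowers z) (Subgroup.mem_zpowers v)
      rwa [commutatorElement_def, show z * v * z⁻¹ * v⁻¹ = z * (v * z * v⁻¹)⁻¹ by group, hzv, inv_inv] at this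
    obtain ⟨j, hj⟩ := hzodd
    have := pow_mem h1 (j + 1)
    rw [← pow_two, ← pow_mul, show 2 * (j + 1) = (2 * j + 1) + 1 by omega, pow_succ, ← hj,
      pow_orderOf_eq_one, one_mul] at this
    exact Subgroup.zpowers_le.2 this
  have hco : (Nat.card Y).Coprime (Nat.card K) := by
    obtain ⟨k, hk⟩ := IsPGroup.iff_card.1 (hX.to_le (Subgroup.zpowers_le.2 hzX : Y ≤ X))
    rw [hk]
    exact ((card_pcoreIn_coprime _).symm).pow_left k
  refine le_of_fixed_parts hv2 hvY hYv hva (Subgroup.zpowers_le.2 (ha hzX)) K (odd_solvable hKodd) hKodd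
    (normalizer_le_pcoreIn _ (normalizes_pair hvb hvc)) (hzD.trans (le_normalizer_pcoreIn _)) hco ?_ ?_
  · intro w hw
    refine inf_le_right.trans (centralizer_le_St hse (conj_involution hv2 w) ?_)
    have hwa : w • a = a := (Subgroup.zpowers_le.2 (ha hzX) : Y ≤ St a) hw
    rw [mul_smul, mul_smul, inv_smul_eq_iff.2 hwa.symm, hva, hwa]
  · refine inf_le_right.trans (le_trans (Subgroup.centralizer_le ?_) hCle)
    rw [Set.singleton_subset_iff]
    exact Subgroup.mem_zpowers z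

/-- The contradiction. -/
theorem false_of_no_invol : False := by
  obtain ⟨b, c, -, hb, hc, -, hbc, -, -⟩ := (Set.two_lt_ncard_iff (Set.toFinite _)).1 h3
  obtain ⟨v, hv, hv2, hvb⟩ := fix_swap hse IH hN hps hpm hX hX0 h3 hab hb hc hbc
  obtain ⟨a, hva⟩ := exists_fixed hse hv2
  have ha := centre_mem hse IH hN hps hpm hX hX0 h3 hab hv2 hv hva
  have hba : b ≠ a := fun e => hbc (by rw [← hvb, e, hva])
  have hvc : v • c = b := by rw [← hvb, smul_smul_self hv2]
  have hKa := core_le_centre hse IH hN hps hpm hX hX0 h3 hab hno ha hb hc hbc hv hv2 hva hvb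
  set K := pcoreIn p (St2 b c) with hK
  have hKab : K ≤ pcoreIn p (St2 a b) := by
    have hKW : K ≤ pcoreIn p (St2 b c ⊓ St a) := le_pcoreIn_of_normal (le_inf (pcoreIn_le _) hKa)
      (card_pcoreIn_coprime _) (inf_le_left.trans (le_normalizer_pcoreIn _))
    rw [show St2 b c ⊓ St a = St2 a b ⊓ St c by simp only [St2]; ac_rfl] at hKW
    exact hKW.trans (triple_core_le hse IH hN hps hpm hX hX0 h3 hab hno hc ha hb (Ne.symm hba))
  have hKeq : pcoreIn p (St2 a b) = K := by
    obtain ⟨g, hg, hgb⟩ := fix_move hse IH hN hps hpm hX hX0 h3 hab hb ha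
    have hgc : g • c ≠ a := fun e => hbc (smul_left_cancel g (hgb.trans e.symm))
    obtain ⟨k, hk, hka, hkc⟩ := fix_transitive hse IH hN hps hpm hX hX0 h3 hab ha
      (Bender.smul_mem_fixSet hg hc) hb hgc hba
    refine (Subgroup.eq_of_le_of_card_ge hKab (le_of_eq ?_)).symm
    rw [show St2 a b = cj (St2 b c) (k * g) by rw [cj_St2, mul_smul, mul_smul, hgb, hka, hkc],
      ← cj_pcoreIn, Fusion.card_cj]
  by_cases hK1 : K = ⊥
  swap
  · -- the normaliser of the common core
    set M := Subgroup.normalizer (K : Set G)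
    have hvM : v ∈ M := normalizer_le_pcoreIn _ (normalizes_pair hvb hvc)
    have habM : St2 a b ≤ M := by
      show _ ≤ Subgroup.normalizer (K : Set G)
      rw [← hKeq]; exact le_normalizer_pcoreIn _
    obtain ⟨w, hw, hwab⟩ := exists_swapper hse (Ne.symm hba)
    have hwM : w ∈ M := by
      show w ∈ Subgroup.normalizer (K : Set G)
      rw [← hKeq]
      exact normalizer_le_pcoreIn _ (normalizes_pair hwab (by rw [← hwab, smul_smul_self hw]))
    refine not_commute hse IH hN hps hpm hX hX0 h3 hab hno ha fun s t hs ht hsa hta =>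
      commute_of_local hse IH hm hcc (fix_normalizer_ne_top hse IH hN hK1 hKa) (fun i hi hia => ?_)
        ⟨w, hwM, by rw [hwab]; exact hba⟩ hs ht hsa hta
    obtain ⟨d, hd1, hd2, hd⟩ := pair_transitive hse hba hv2 hva hi hia
    rw [← hd]
    exact mul_mem (mul_mem (habM ⟨hd1, hd2⟩) hvM) (inv_mem (habM ⟨hd1, hd2⟩))
  -- trivial core: a maximal invariant subgroup
  obtain ⟨e, e', he, he', hee', heb, he'b, hcomm, heN, he'N⟩ := fix_pair hse IH hN hps hpm hX hX0 h3 hab hb
  obtain ⟨R, -, hmax⟩ := Finite.exists_le_maximal (p := fun R : Subgroup G => IsPGroup p R ∧ X ≤ R ∧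
      R ≤ St2 b c ∧ v ∈ Subgroup.normalizer (R : Set G) ∧
      ∃ M : Subgroup G, M ≠ ⊤ ∧ R ≤ M ∧ v ∈ M ∧ e ∈ M ∧ e' ∈ M) (a := X)
    ⟨hX, le_rfl, le_inf hb hc, hv, _, fix_normalizer_ne_top hse IH hN hX0 hb, Subgroup.le_normalizer, hv,
      heN, he'N⟩
  obtain ⟨hRp, hXR, hRD, hvR, M, hM, hRM, hvM, heM, he'M⟩ := hmax.1
  have hmove : ∃ g ∈ M, g • b ≠ b := ⟨v, hvM, by rw [hvb]; exact Ne.symm hbc⟩
  obtain ⟨hseM, hsol, -⟩ := sub_solvable_of_pair hse IH hM hmove he he' hee' hcomm heM he'M heb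
  have hcom : ∀ u w : G, orderOf u = 2 → orderOf w = 2 → u ∈ M → w ∈ M → u • b = b → w • b = b →
      ⁅u, w⁆ ∈ orbitKer M b := fun u w hu hw huM hwM hub hwb =>
    commutator_mem_orbitKer hse IH hM hmove he he' hee' hcomm heM he'M heb hu hw huM hwM hub hwb
  set D := M ⊓ St2 b c with hDdef
  have hDb : D ≤ M ⊓ St b := inf_le_inf_left _ inf_le_left
  have hDodd : Odd (Nat.card D) := (St2_odd hse hbc).of_dvd_nat (Subgroup.card_dvd_of_le inf_le_right)
  have hvD : v ∈ Subgroup.normalizer (D : Set G) := Fusion.mem_normalizer_iff_cj.2 (by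
    rw [Fusion.cj_inf, Fusion.cj_eq_self_of_mem hvM, Fusion.cj_eq_self (normalizes_pair hvb hvc)])
  have hRsyl : SylIn p R D := by
    obtain ⟨P, hP, hRP, hvP⟩ := Solv.exists_invariant_sylow_ge (Subgroup.zpowers_le.2 hvD)
      (zpowers_coprime hse hv2 hDodd) (Or.inl (Bender.zpowers_solvable v)) R (le_inf hRM hRD) hRp
      (Subgroup.zpowers_le.2 hvR)
    have := hmax.2 ⟨hP.isPGroup, hXR.trans hRP, hP.1.trans inf_le_right, hvP (Subgroup.mem_zpowers v), M,
      hM, hP.1.trans inf_le_left, hvM, heM, he'M⟩ hRP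
    exact le_antisymm hRP this ▸ isSylIn_iff.1 hP
  have hKD : orbitKer M b ≤ D := le_inf (orbitKer_le M b)
    (le_inf orbitKer_le_St fun k hk => hvb ▸ orbitKer_fix hk hvM)
  obtain ⟨hLsol, habS, hsyl⟩ := involGen_sup hcom hsol (orbitKer_odd hse hmove) hDb hDodd
  have hRL := hsyl p (Bender.p_ne_two hse hpm) hKD R hRsyl
  obtain ⟨hZR, hZne, hNR⟩ := OddLocal.Fact2.zjOf_facts hRp
  set Z := OddLocal.Fact2.zjOf p R with hZ
  have hZab : IsMulCommutative Z := zjOf_comm p R
  have hR0 : R ≠ ⊥ := fun h => hX0 (le_bot_iff.1 (h ▸ hXR))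
  have hZX : Z ≤ X := abel_le hse IH hN hps hpm hX hX0 h3 hab hno hb hc hbc hZab (hRp.to_le hZR)
    (hZR.trans hRD) (hXR.trans (Subgroup.le_normalizer.trans hNR))
  have hJe : ∀ u, u ∈ M → orderOf u = 2 → u • b = b → u ∈ Subgroup.normalizer (X : Set G) →
      u ∈ Subgroup.normalizer (Z : Set G) := fun u huM hu hub huX =>
    zj_invariant hLsol (Bender.p_ne_two hse hpm) habS hRL hX hZX
      (Subgroup.mem_sup_left (mem_involGen huM hu hub)) huX
  set M' := Subgroup.normalizer (Z : Set G)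
  have heM' : e ∈ M' := hJe e heM he heb heN
  have he'M' : e' ∈ M' := hJe e' he'M he' he'b he'N
  have hvM' : v ∈ M' := hNR hvR
  have hM' : M' ≠ ⊤ := fix_normalizer_ne_top hse IH hN (hZne hR0) (hZR.trans (hRD.trans inf_le_left))
  obtain ⟨Q, hQ, hRQ, hvQ⟩ := Bender.exists_sylow_ge hse hbc hv2 hvb hRp hRD hvR
  have hRQeq : R = Q := by
    by_contra hne
    have hlt := SylIn.normalizer_growth hRQ hne hQ.isPGroup
    refine hlt.not_ge (hmax.2 ⟨hQ.isPGroup.to_le inf_le_left, hXR.trans hlt.le,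
      inf_le_left.trans hQ.1, ?_, M', hM', inf_le_right.trans hNR, hvM', heM', he'M'⟩ hlt.le)
    rw [Fusion.mem_normalizer_iff_cj, Fusion.cj_inf, Fusion.cj_eq_self hvQ,
      Fusion.cj_eq_self (Subgroup.le_normalizer hvR)]
  have hDM' : St2 b c ≤ M' := by
    refine le_normalizer_zj (odd_solvable (St2_odd hse hbc)) (St2_odd hse hbc) (Bender.p_ne_two hse hpm) ?_ hK1
    rw [hRQeq]
    exact isSylIn_iff.1 hQ
  refine not_commute hse IH hN hps hpm hX hX0 h3 hab hno hc fun s t hs ht hsc htc =>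
    commute_of_local hse IH hm hcc hM' (fun i hi hic => invols_of_swappers hse he hbc heb heM'
      (fun w hw hwb => ?_) hi hic) ⟨v, hvM', by rw [hvc]; exact hbc⟩ hs ht hsc htc
  obtain ⟨f, hf1, hf2, hf⟩ := swappers_conj hse hbc hw hwb hv2 hvb
  rw [← hf]
  exact mul_mem (mul_mem (hDM' ⟨hf1, hf2⟩) hvM') (inv_mem (hDM' ⟨hf1, hf2⟩))

end Cfsg.Agent.SEB
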