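import Cfsg.Agent.Lib.Bender.Solvable.GoodLocal

/-!
# Solvability of a strongly embedded subgroup: the normaliser of a good subgroup

For a `p`-subgroup with three fixed points all of whose proper `p`-overgroups with three fixed points
are centralised by two commuting involutions, the normaliser is two-transitive on the fixed points and
contains two commuting involutions at each of them.
-/

set_option autoImplicit false
set_option linter.style.haveILetI false
set_option linter.unusedSectionVars false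

open scoped Pointwise commutatorElement

namespace Cfsg.Agent.SEB

open Cfsg
open Cfsg.Agent.Fusion (SylIn cj)
open Cfsg.Agent.Fusion.SEPairs
open Cfsg.Agent.Bender (fixSet)

universe u

variable {G : Type u} [Group G] [Finite G] {H : Subgroup G}

/-- Two commuting involutions of `M` at `c`. -/
def PairAt (M : Subgroup G) (c : G ⧸ H) : Prop :=
  ∃ s t : G, orderOf s = 2 ∧ orderOf t = 2 ∧ s ≠ t ∧ s • c = c ∧ t • c = c ∧ Commute s t ∧ s ∈ M ∧ t ∈ M

/-- Two commuting involutions centralise `X` at each of its fixed points. -/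
def Rich (H X : Subgroup G) : Prop :=
  ∀ c ∈ fixSet H X, PairAt (Subgroup.centralizer (X : Set G)) c

/-- All `p`-subgroups properly above `X` with three fixed points are rich. -/
def RichAbove (H : Subgroup G) (p : ℕ) (X : Subgroup G) : Prop :=
  ∀ Y : Subgroup G, X < Y → IsPGroup p Y → 3 ≤ (fixSet H Y).ncard → Rich H Y

/-- Every pair is the fixed set of a Sylow subgroup of a point stabiliser. -/
def PairSylow (H : Subgroup G) (p : ℕ) : Prop :=
  ∀ {c a : G ⧸ H}, c ≠ a → ∃ P, Solv.IsSylIn p P (St c) ∧ fixSet H P = {c, a}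

theorem PairAt.mono {M N : Subgroup G} {c : G ⧸ H} (h : PairAt M c) (hle : M ≤ N) : PairAt N c := by
  obtain ⟨s, t, h1, h2, h3, h4, h5, h6, h7, h8⟩ := h
  exact ⟨s, t, h1, h2, h3, h4, h5, h6, hle h7, hle h8⟩

theorem PairAt.conj {M : Subgroup G} {c : G ⧸ H} (h : PairAt M c) {g : G} (hg : g ∈ M) : PairAt M (g • c) := by
  obtain ⟨s, t, h1, h2, h3, h4, h5, h6, h7, h8⟩ := h
  refine ⟨g * s * g⁻¹, g * t * g⁻¹, conj_involution h1 g, conj_involution h2 g, fun e => h3 ?_, ?_, ?_,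
    h6.map (MulAut.conj g).toMonoidHom, mul_mem (mul_mem hg h7) (inv_mem hg),
    mul_mem (mul_mem hg h8) (inv_mem hg)⟩
  · exact mul_left_cancel (mul_right_cancel e)
  · rw [mul_smul, mul_smul, inv_smul_smul, h4]
  · rw [mul_smul, mul_smul, inv_smul_smul, h5]

variable (hse : Cfsg.IsStronglyEmbedded H)
include hse

omit [Finite G] hse in
theorem PairAt.exists_invol {M : Subgroup G} {c : G ⧸ H} (h : PairAt M c) :
    ∃ s, orderOf s = 2 ∧ s • c = c ∧ s ∈ M := by
  obtain ⟨s, -, h1, -, -, h4, -, -, h7, -⟩ := h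
  exact ⟨s, h1, h4, h7⟩

/-- Two elements of `M` at points give one moving the first to the second. -/
theorem exists_move {M : Subgroup G} {c e : G ⧸ H} (hec : e ≠ c) {s t : G} (hs : orderOf s = 2)
    (hsc : s • c = c) (hsM : s ∈ M) (ht : orderOf t = 2) (hte : t • e = e) (htM : t ∈ M) :
    ∃ g ∈ M, g • c = e := by
  have hmove : ∃ g ∈ M, g • c ≠ c := ⟨t, htM, fun h => hec (fixed_unique hse ht hte h)⟩
  obtain ⟨g, hg, hgt⟩ := conj_in hse hs hsc hsM hmove ht htM
  exact ⟨g, hg, fixed_unique hse ht (by rw [← hgt, mul_smul, mul_smul, inv_smul_smul, hsc]) hte⟩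

/-- An element interchanging two points yields an involution doing so. -/
theorem exists_invol_of_swap {M : Subgroup G} {x y : G ⧸ H} (hxy : x ≠ y) {g : G} (hg : g ∈ M)
    (hgx : g • x = y) (hgy : g • y = x) : ∃ v ∈ M, orderOf v = 2 ∧ v • x = y := by
  have h2 : g * g ∈ St2 x y := ⟨(by show (g * g) • x = x; rw [mul_smul, hgx, hgy]),
    (by show (g * g) • y = y; rw [mul_smul, hgy, hgx])⟩
  obtain ⟨k, hk⟩ := (St2_odd hse hxy).of_dvd_nat (Subgroup.orderOf_dvd_natCard _ h2)
  have hv : g ^ (2 * k + 1) • x = y := by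
    have h3 : (g * g) ^ k ∈ St2 x y := pow_mem h2 k
    rw [← pow_two, ← pow_mul] at h3
    rw [pow_succ', mul_smul, show g ^ (2 * k) • x = x from h3.1, hgx]
  refine ⟨g ^ (2 * k + 1), pow_mem hg _, orderOf_eq_prime ?_ (fun e => hxy ?_), hv⟩
  · rw [← pow_mul, mul_comm, pow_mul, pow_two, ← hk, pow_orderOf_eq_one]
  · rw [e, one_smul] at hv; exact hv

variable (IH : ∀ M : Subgroup G, M ≠ ⊤ → Sol ↥M) (hN : H.normalCore = ⊥)
include IH hN

theorem fix_normalizer_ne_top {X : Subgroup G} (hX : X ≠ ⊥) {x : G ⧸ H} (hx : X ≤ St x) :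
    Subgroup.normalizer (X : Set G) ≠ ⊤ := by
  intro h
  haveI : X.Normal := Subgroup.normalizer_eq_top_iff.1 h
  refine hX ((Subgroup.eq_bot_iff_forall X).2 fun z hz => eq_one_of_fix hse hN fun y => ?_)
  obtain ⟨g, rfl⟩ := exists_smul_eq' x y
  have h1 := hx ((inferInstance : X.Normal).conj_mem z hz g⁻¹)
  rw [MulAction.mem_stabilizer_iff, inv_inv, mul_smul, mul_smul, inv_smul_eq_iff] at h1
  exact h1

theorem fix_centralizer_ne_top {X : Subgroup G} (hX : X ≠ ⊥) {x : G ⧸ H} (hx : X ≤ St x) :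
    Subgroup.centralizer (X : Set G) ≠ ⊤ := fun h =>
  fix_normalizer_ne_top hse IH hN hX hx (top_le_iff.1 (h ▸ Subgroup.centralizer_le_normalizer _))

/-- The stabiliser of a point in a rank two centraliser is transitive on the other fixed points. -/
theorem rich_transitive {Y : Subgroup G} (hY : Y ≠ ⊥) (hR : Rich H Y) {a b b' : G ⧸ H}
    (ha : a ∈ fixSet H Y) (hb : b ∈ fixSet H Y) (hb' : b' ∈ fixSet H Y) (hba : b ≠ a) (hb'a : b' ≠ a) :
    ∃ k ∈ Subgroup.centralizer (Y : Set G), k • a = a ∧ k • b = b' := by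
  set M := Subgroup.centralizer (Y : Set G)
  obtain ⟨s, t, hs, ht, hst, hsa, hta, hcomm, hsM, htM⟩ := hR a ha
  obtain ⟨s₁, hs₁, hs₁b, hs₁M⟩ := (hR b hb).exists_invol
  obtain ⟨s₂, hs₂, hs₂b, hs₂M⟩ := (hR b' hb').exists_invol
  obtain ⟨g₁, hg₁, rfl⟩ := exists_move hse hba hs hsa hsM hs₁ hs₁b hs₁M
  obtain ⟨g₂, hg₂, rfl⟩ := exists_move hse hb'a hs hsa hsM hs₂ hs₂b hs₂M
  have hmove : ∃ g ∈ M, g • a ≠ a := ⟨g₁, hg₁, hba⟩
  obtain ⟨-, -, hm⟩ := sub_solvable_of_pair hse IH (fix_centralizer_ne_top hse IH hN hY ha) hmove hs ht hst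
    hcomm hsM htM hsa
  obtain ⟨⟨k, hk, hkg⟩, -⟩ := sub_orbit hse hs hsa hsM hmove hm hg₁ hg₂ hba hb'a
  exact ⟨k, hk.1, hk.2, hkg⟩

variable {p : ℕ} [hp : Fact p.Prime] (hps : PairSylow H p) (hpm : p ∣ Bender.numInv H)
include hps hpm

omit IH hN in
/-- A `p`-subgroup fixing a point fixes a second one. -/
theorem exists_second {S : Subgroup G} (hS : IsPGroup p S) {a : G ⧸ H} (ha : S ≤ St a) :
    ∃ e, e ≠ a ∧ e ∈ fixSet H S := by
  obtain ⟨e₀, he₀⟩ := exists_ne hse a
  obtain ⟨P, hP, hPf⟩ := hps (Ne.symm he₀)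
  obtain ⟨k, hk, hkS⟩ := (isSylIn_iff.1 hP).conj_le hS ha
  have hka : k • a = a := hk
  refine ⟨k⁻¹ • e₀, fun e => he₀ ?_, fun x hx => ?_⟩
  · rw [inv_smul_eq_iff, hka] at e; exact e
  · have h : k * x * k⁻¹ ∈ St e₀ := (show e₀ ∈ fixSet H P from hPf ▸ Or.inr rfl) (hkS ⟨x, hx, rfl⟩)
    rw [MulAction.mem_stabilizer_iff, mul_smul, mul_smul, ← eq_inv_smul_iff] at h
    exact h

omit IH hN in
/-- A `p`-subgroup fixing a pair lies in a Sylow subgroup with just that fixed set. -/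
theorem exists_sylow_over {X : Subgroup G} (hX : IsPGroup p X) {a b : G ⧸ H} (hab : a ≠ b)
    (hXD : X ≤ St2 a b) : ∃ P, X ≤ P ∧ Solv.IsSylIn p P (St a) ∧ SylIn p P (St2 a b) ∧ fixSet H P = {a, b} := by
  obtain ⟨P₀, hP₀, hPf⟩ := hps hab
  have hP₀b : P₀ ≤ St b := (show b ∈ fixSet H P₀ from hPf ▸ Or.inr rfl)
  have hD := isSylIn_iff.1 (Bender.syl_pair hP₀ (le_inf hP₀.1 hP₀b : P₀ ≤ Bender.pairStab a b))
  obtain ⟨d, hd, hdX⟩ := hD.conj_le hX hXD
  have hda : d • a = a := hd.1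
  have hdb : d • b = b := hd.2
  have e2 : cj (St2 a b) d⁻¹ = St2 a b := Fusion.cj_eq_self_of_mem (inv_mem hd)
  refine ⟨cj P₀ d⁻¹, Fusion.cj_le_iff.1 hdX, isSylIn_iff.2 ?_, e2 ▸ hD.cj d⁻¹, ?_⟩
  · have h := (isSylIn_iff.1 hP₀).cj d⁻¹
    rwa [Fusion.cj_eq_self_of_mem (inv_mem hd.1 : d⁻¹ ∈ St a)] at h
  · ext z
    have h1 : z ∈ fixSet H (cj P₀ d⁻¹) ↔ d • z ∈ fixSet H P₀ := by
      constructor
      · intro h x hx
        have h2 := h ⟨x, hx, rfl⟩
        rw [MulAction.mem_stabilizer_iff, MulEquiv.coe_toMonoidHom, MulAut.conj_apply, inv_inv, mul_smul,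
          mul_smul, inv_smul_eq_iff] at h2
        exact h2
      · rintro h _ ⟨x, hx, rfl⟩
        show (d⁻¹ * x * d⁻¹⁻¹) • z = z
        rw [inv_inv, mul_smul, mul_smul, inv_smul_eq_iff]
        exact h hx
    rw [h1, hPf, Set.mem_insert_iff, Set.mem_singleton_iff, Set.mem_insert_iff, Set.mem_singleton_iff]
    constructor
    · rintro (h | h)
      · exact Or.inl (smul_left_cancel d (h.trans hda.symm))
      · exact Or.inr (smul_left_cancel d (h.trans hdb.symm))
    · rintro (rfl | rfl)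
      exacts [Or.inl hda, Or.inr hdb]

omit IH hN in
/-- Above `X` in the normaliser, inside a pair. -/
theorem exists_bigger {X : Subgroup G} (hX : IsPGroup p X) (h3 : 3 ≤ (fixSet H X).ncard) {a b : G ⧸ H}
    (hab : a ≠ b) (hXD : X ≤ St2 a b) : ∃ P, X ≤ P ∧ SylIn p P (St2 a b) ∧
      X < P ⊓ Subgroup.normalizer (X : Set G) ∧ fixSet H P = {a, b} := by
  obtain ⟨P, hXP, -, hP, hPf⟩ := exists_sylow_over hse hps hpm hX hab hXD
  have hne : X ≠ P := fun e => by
    rw [← e] at hPf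
    rw [hPf, Set.ncard_pair hab] at h3
    omega
  exact ⟨P, hXP, hP, SylIn.normalizer_growth hXP hne hP.isPGroup, hPf⟩

variable {X : Subgroup G} (hX : IsPGroup p X) (hX0 : X ≠ ⊥) (h3 : 3 ≤ (fixSet H X).ncard)
  (hab : RichAbove H p X)
include hX hX0 h3 hab

/-- The normaliser is transitive on the other fixed points. -/
theorem fix_transitive {a b b' : G ⧸ H} (ha : a ∈ fixSet H X) (hb : b ∈ fixSet H X)
    (hb' : b' ∈ fixSet H X) (hba : b ≠ a) (hb'a : b' ≠ a) :
    ∃ k ∈ Subgroup.normalizer (X : Set G), k • a = a ∧ k • b = b' := by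
  set Na := Subgroup.normalizer (X : Set G) ⊓ St a with hNa
  have hXNa : X ≤ Na := le_inf Subgroup.le_normalizer ha
  obtain ⟨S, hS, hXS⟩ := Fusion.exists_sylIn_ge hX hXNa
  obtain ⟨e, hea, heS⟩ := exists_second hse hps hpm hS.isPGroup (hS.le.trans inf_le_right)
  suffices key : ∀ q ∈ fixSet H X, q ≠ a → ∃ k ∈ Na, k • e = q by
    obtain ⟨k₁, hk₁, hk₁b⟩ := key b hb hba
    obtain ⟨k₂, hk₂, hk₂b⟩ := key b' hb' hb'a
    have h : k₂ * k₁⁻¹ ∈ Na := mul_mem hk₂ (inv_mem hk₁)
    exact ⟨k₂ * k₁⁻¹, h.1, h.2, by rw [mul_smul, ← hk₁b, inv_smul_smul, hk₂b]⟩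
  intro q hq hqa
  obtain ⟨P, hXP, hP, hlt, -⟩ := exists_bigger hse hps hpm hX h3 (Ne.symm hqa) (le_inf ha hq)
  set R := P ⊓ Subgroup.normalizer (X : Set G)
  have hRp : IsPGroup p R := hP.isPGroup.to_le inf_le_left
  have hRNa : R ≤ Na := le_inf inf_le_right (inf_le_left.trans (hP.le.trans inf_le_left))
  have hRfix : a ∈ fixSet H R ∧ q ∈ fixSet H R :=
    ⟨inf_le_left.trans (hP.le.trans inf_le_left), inf_le_left.trans (hP.le.trans inf_le_right)⟩
  obtain ⟨d, hd, hdR⟩ := hS.conj_le hRp hRNa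
  have hda : d • a = a := hd.2
  have he' : d⁻¹ • e ∈ fixSet H R := fun x hx => by
    have h := heS (hdR ⟨x, hx, rfl⟩)
    rw [MulAction.mem_stabilizer_iff, MulEquiv.coe_toMonoidHom, MulAut.conj_apply, mul_smul, mul_smul,
      ← eq_inv_smul_iff] at h
    exact h
  have he'a : d⁻¹ • e ≠ a := fun h => hea (by rw [inv_smul_eq_iff, hda] at h; exact h)
  by_cases hR3 : 3 ≤ (fixSet H R).ncard
  · obtain ⟨k, hk, hka, hkq⟩ := rich_transitive hse IH hN (fun h => by rw [h] at hlt; exact not_lt_bot hlt)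
      (hab R hlt hRp hR3) hRfix.1 he' hRfix.2 he'a hqa
    have hkX : k ∈ Na := ⟨Subgroup.centralizer_le_normalizer _
      (Subgroup.centralizer_le hlt.le hk), hka⟩
    exact ⟨k * d⁻¹, mul_mem hkX (inv_mem hd), by rw [mul_smul, hkq]⟩
  · refine ⟨d⁻¹, inv_mem hd, ?_⟩
    by_contra hne
    have hsub : ({a, q, d⁻¹ • e} : Set (G ⧸ H)) ⊆ fixSet H R :=
      Set.insert_subset_iff.2 ⟨hRfix.1, Set.insert_subset_iff.2 ⟨hRfix.2, Set.singleton_subset_iff.2 he'⟩⟩
    have hc := Set.ncard_le_ncard hsub (Set.toFinite _)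
    rw [Set.ncard_eq_three.2 ⟨a, q, d⁻¹ • e, Ne.symm hqa, Ne.symm he'a, Ne.symm hne, rfl⟩] at hc
    exact hR3 hc

/-- The normaliser is transitive on the fixed points. -/
theorem fix_move {a b : G ⧸ H} (ha : a ∈ fixSet H X) (hb : b ∈ fixSet H X) :
    ∃ g ∈ Subgroup.normalizer (X : Set G), g • a = b := by
  by_cases hab' : a = b
  · exact ⟨1, one_mem _, by rw [one_smul, hab']⟩
  obtain ⟨c, hc, hca, hcb⟩ : ∃ c ∈ fixSet H X, c ≠ a ∧ c ≠ b := by
    by_contra hcon
    push Not at hcon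
    have hsub : fixSet H X ⊆ {a, b} := fun x hx => by
      by_cases hxa : x = a
      · exact Or.inl hxa
      · exact Or.inr (hcon x hx hxa)
    have := Set.ncard_le_ncard hsub (Set.toFinite _)
    rw [Set.ncard_pair hab'] at this
    omega
  obtain ⟨k, hk, -, hkb⟩ := fix_transitive hse IH hN hps hpm hX hX0 h3 hab hc ha hb (Ne.symm hca) (Ne.symm hcb)
  exact ⟨k, hk, hkb⟩

/-- Every pair of fixed points is interchanged by an involution of the normaliser. -/
theorem fix_swap {a b : G ⧸ H} (ha : a ∈ fixSet H X) (hb : b ∈ fixSet H X) (hab' : a ≠ b) :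
    ∃ v ∈ Subgroup.normalizer (X : Set G), orderOf v = 2 ∧ v • a = b := by
  obtain ⟨g, hg, hga⟩ := fix_move hse IH hN hps hpm hX hX0 h3 hab ha hb
  have hgb : g • b ≠ b := fun e => hab' (smul_left_cancel g (hga.trans e.symm))
  obtain ⟨k, hk, hkb, hkg⟩ := fix_transitive hse IH hN hps hpm hX hX0 h3 hab hb
    (Bender.smul_mem_fixSet hg hb) ha hgb hab'
  exact exists_invol_of_swap hse hab' (mul_mem hk hg) (by rw [mul_smul, hga, hkb]) (by rw [mul_smul, hkg])

/-- All involutions of the normaliser have their centres among the fixed points. -/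
theorem centre_mem {w : G} (hw : orderOf w = 2) (hwX : w ∈ Subgroup.normalizer (X : Set G))
    {c : G ⧸ H} (hwc : w • c = c) : c ∈ fixSet H X := by
  by_contra hc
  refine Bender.InFam.false_of_swapped hse hpm (Z := X) (w := w) ⟨hX, hw, hwX, fun e he => ?_, h3⟩
    fun a ha b hb hab' => fix_swap hse IH hN hps hpm hX hX0 h3 hab ha hb hab'
  rwa [fixed_unique hse hw he hwc]

/-- An involution of the normaliser at every fixed point. -/
theorem fix_invol {c : G ⧸ H} (hc : c ∈ fixSet H X) :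
    ∃ v ∈ Subgroup.normalizer (X : Set G), orderOf v = 2 ∧ v • c = c := by
  obtain ⟨a, b, -, ha, hb, -, hab', -, -⟩ := (Set.two_lt_ncard_iff (Set.toFinite _)).1 h3
  obtain ⟨v, hv, hv2, -⟩ := fix_swap hse IH hN hps hpm hX hX0 h3 hab ha hb hab'
  obtain ⟨e, hve⟩ := exists_fixed hse hv2
  obtain ⟨g, hg, hge⟩ := fix_move hse IH hN hps hpm hX hX0 h3 hab
    (centre_mem hse IH hN hps hpm hX hX0 h3 hab hv2 hv hve) hc
  exact ⟨g * v * g⁻¹, mul_mem (mul_mem hg hv) (inv_mem hg), conj_involution hv2 g, by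
    rw [← hge, mul_smul, mul_smul, inv_smul_smul, hve]⟩

/-- The normaliser has two commuting involutions at each fixed point. -/
theorem fix_pair {c : G ⧸ H} (hc : c ∈ fixSet H X) : PairAt (Subgroup.normalizer (X : Set G)) c := by
  set N := Subgroup.normalizer (X : Set G) with hNdef
  have hconj : ∀ c' ∈ fixSet H X, PairAt N c' → PairAt N c := fun c' hc' h => by
    obtain ⟨g, hg, rfl⟩ := fix_move hse IH hN hps hpm hX hX0 h3 hab hc' hc
    exact h.conj hg
  by_contra hcon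
  -- no two commuting involutions
  have huniq : ∀ x y, x ∈ N → y ∈ N → orderOf x = 2 → orderOf y = 2 → Commute x y → y = x := by
    intro x y hx hy hx2 hy2 hxy
    by_contra hne
    obtain ⟨e, hxe⟩ := exists_fixed hse hx2
    exact hcon (hconj e (centre_mem hse IH hN hps hpm hX hX0 h3 hab hx2 hx hxe)
      ⟨x, y, hx2, hy2, Ne.symm hne, hxe, smul_of_commute hse hy2 (smul_of_commute hse hx2 hxe hxy) rfl,
        hxy, hx, hy⟩)
  have htwo : ∀ R, X < R → IsPGroup p R → ∀ z ∈ fixSet H R, 3 ≤ (fixSet H R).ncard → False := by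
    intro R hlt hRp z hz hR3
    exact hcon (hconj z (fun x hx => hz (hlt.le hx))
      ((hab R hlt hRp hR3 z hz).mono ((Subgroup.centralizer_le hlt.le).trans
        (Subgroup.centralizer_le_normalizer _))))
  obtain ⟨v, hv, hv2, hvc⟩ := fix_invol hse IH hN hps hpm hX hX0 h3 hab hc
  obtain ⟨a, b, hab', ha, hac⟩ : ∃ a b : G ⧸ H, a ≠ b ∧ a ∈ fixSet H X ∧ a ≠ c := by
    obtain ⟨a, b, -, ha, hb, -, hab', -, -⟩ := (Set.two_lt_ncard_iff (Set.toFinite _)).1 h3
    by_cases h : a = c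
    · exact ⟨b, a, hab'.symm, hb, fun e => hab' (h.trans e.symm)⟩
    · exact ⟨a, b, hab', ha, h⟩
  set O := (oddCore ↥N).map N.subtype with hO
  have hON : O ≤ N := Subgroup.map_subtype_le _
  have hOodd : Odd (Nat.card O) := by
    rw [hO, Subgroup.card_map_of_injective N.subtype_injective]; exact Char.card_oddCore_odd _
  have hNO : N ≤ Subgroup.normalizer (O : Set G) := fun g hg =>
    normalizer_le_pcoreIn (p := 2) N (Subgroup.le_normalizer hg)
  have hiso : Cfsg.IsIsolatedInvolution (⟨v, hv⟩ : N) :=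
    isolated_of_unique (by rw [Subgroup.orderOf_mk]; exact hv2) fun x hx hvx =>
      Subtype.ext (huniq v x hv x.2 hv2 (by rw [Subgroup.orderOf_coe]; exact hx) (congrArg Subtype.val hvx.eq))
  have hcomO : ∀ g ∈ N, v * g * v⁻¹ * g⁻¹ ∈ O := fun g hg =>
    ⟨_, Char.zStar_isolated hiso ⟨g, hg⟩, rfl⟩
  -- a Sylow subgroup of the normaliser fixes `c`
  obtain ⟨S, hS, hXS⟩ := Fusion.exists_sylIn_ge hX (le_inf Subgroup.le_normalizer hc : X ≤ N ⊓ St c)
  have hlt : X < S := by
    obtain ⟨P, hXP, hP, hlt, -⟩ := exists_bigger hse hps hpm hX h3 (Ne.symm hac) (le_inf hc ha)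
    refine lt_of_le_of_ne hXS fun e => ?_
    have h1 := hS.card_le (hP.isPGroup.to_le (inf_le_left : P ⊓ N ≤ P))
      (le_inf inf_le_right (inf_le_left.trans (hP.le.trans inf_le_left)))
    rw [← e] at h1
    exact hlt.ne (Subgroup.eq_of_le_of_card_ge hlt.le h1)
  obtain ⟨e, hec, heS⟩ := exists_second hse hps hpm hS.isPGroup (hS.le.trans inf_le_right)
  have hcS : c ∈ fixSet H S := hS.le.trans inf_le_right
  have hSfix : fixSet H S = {c, e} := by
    refine (Set.eq_of_subset_of_ncard_le (Set.insert_subset_iff.2 ⟨hcS, Set.singleton_subset_iff.2 heS⟩) ?_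
      (Set.toFinite _)).symm
    rw [Set.ncard_pair (Ne.symm hec)]
    by_contra h
    exact htwo S hlt hS.isPGroup c hcS (by omega)
  have hSN : SylIn p S N := by
    obtain ⟨T, hT, hST⟩ := Fusion.exists_sylIn_ge hS.isPGroup (hS.le.trans inf_le_left)
    by_cases hTS : S = T
    · exact hTS ▸ hT
    exfalso
    obtain ⟨x, hx, hxS⟩ := SetLike.exists_of_lt (SylIn.normalizer_growth hST hTS hT.isPGroup)
    have hmem := Bender.smul_mem_fixSet hx.2 hcS
    rw [hSfix] at hmem
    have hxc : x • c = c := by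
      rcases hmem with h | h
      · exact h
      exfalso
      have hmem2 := Bender.smul_mem_fixSet hx.2 heS
      rw [hSfix] at hmem2
      rw [Set.mem_singleton_iff] at h
      rcases hmem2 with h' | h'
      · obtain ⟨j, hj⟩ := IsPGroup.iff_orderOf.1 hT.isPGroup ⟨x, hx.1⟩
        rw [Subgroup.orderOf_mk] at hj
        obtain ⟨i, hi⟩ : Odd (orderOf x) := by
          rw [hj]; exact (hp.out.odd_of_ne_two (Bender.p_ne_two hse hpm)).pow
        have h2 : ∀ n : ℕ, x ^ (2 * n + 1) • c = e := by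
          intro n
          induction n with
          | zero => simpa using h
          | succ n ihn =>
            rw [show 2 * (n + 1) + 1 = 2 * n + 1 + 1 + 1 by ring, pow_succ', pow_succ', mul_smul, mul_smul,
              ihn, h', h]
        have := h2 i
        rw [← hi, pow_orderOf_eq_one, one_smul] at this
        exact hec this.symm
      · exact hec (smul_left_cancel x (h'.trans h.symm))
    have := hS.eq_of_le (hT.isPGroup.to_le (sup_le hST (Subgroup.zpowers_le.2 hx.1))) le_sup_left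
      (sup_le hS.le (Subgroup.zpowers_le.2 ⟨hT.le hx.1, hxc⟩))
    exact hxS (this ▸ Subgroup.mem_sup_right (Subgroup.mem_zpowers x))
  have hS₀ : SylIn p (S ⊓ O) O := hSN.inf_normal hON hNO
  have hvO : v ∈ Subgroup.normalizer (O : Set G) := hNO hv
  have hvSt : v ∈ Subgroup.normalizer (St c : Set G) := Subgroup.le_normalizer hvc
  -- invariant `p`-subgroups of `O` fix `c`
  have hinvc : ∀ R : Subgroup G, R ≤ O → IsPGroup p R → v ∈ Subgroup.normalizer (R : Set G) → R ≤ St c := by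
    intro R hRO hRp hvR
    have hA1 : Subgroup.zpowers v ≤ Subgroup.normalizer ((O ⊓ St c : Subgroup G) : Set G) :=
      Subgroup.zpowers_le.2 (Fusion.mem_normalizer_iff_cj.2 (by
        rw [Fusion.cj_inf, Fusion.cj_eq_self hvO, Fusion.cj_eq_self hvSt]))
    obtain ⟨T, hT, hvT⟩ := Solv.exists_invariant_sylow hA1
      (zpowers_coprime hse hv2 (hOodd.of_dvd_nat (Subgroup.card_dvd_of_le inf_le_left)))
      (Or.inl (Bender.zpowers_solvable v)) p
    have hTO : SylIn p T O := hS₀.of_card_ge hT.isPGroup (hT.1.trans inf_le_left)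
      ((isSylIn_iff.1 hT).card_le hS₀.isPGroup
        (le_inf inf_le_right (inf_le_left.trans (hS.le.trans inf_le_right))))
    obtain ⟨P₂, hP₂, hRP₂, hvP₂⟩ := Solv.exists_invariant_sylow_ge (Subgroup.zpowers_le.2 hvO)
      (zpowers_coprime hse hv2 hOodd) (Or.inl (Bender.zpowers_solvable v)) R hRO hRp
      (Subgroup.zpowers_le.2 hvR)
    obtain ⟨k, hk, hkP⟩ := Solv.invariant_sylow_conj (Subgroup.zpowers_le.2 hvO)
      (zpowers_coprime hse hv2 hOodd) (Or.inl (Bender.zpowers_solvable v)) (isSylIn_iff.2 hTO) hP₂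
      hvT hvP₂
    have hkv : Commute v k := (Subgroup.mem_centralizer_iff.1 hk.2 v (Subgroup.mem_zpowers v))
    have hkc : k • c = c := smul_of_commute hse hv2 hvc hkv
    intro x hx
    have hx' := hRP₂ hx
    rw [← hkP, Solv.mem_conj_smul] at hx'
    have h1 : (k⁻¹ * x * k) • c = c := (hT.1.trans inf_le_right) hx'
    rwa [mul_smul, mul_smul, hkc, inv_smul_eq_iff, hkc] at h1
  -- a Sylow subgroup at a pair swapped by `v` is too big
  have hne : a ≠ v • a := fun e => hac (fixed_unique hse hv2 e.symm hvc)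
  obtain ⟨P, hP, hXP, hvP⟩ := Bender.exists_sylow_ge hse hne hv2 rfl hX
    (le_inf ha (Bender.smul_mem_fixSet hv ha)) hv
  obtain ⟨P', hXP', hP', hlt', -⟩ := exists_bigger hse hps hpm hX h3 hne
    (le_inf ha (Bender.smul_mem_fixSet hv ha))
  have hneP : X ≠ P := fun e => hlt'.ne (le_antisymm hlt'.le (by
    have h1 := (isSylIn_iff.1 hP).card_le hP'.isPGroup hP'.le
    rw [← e] at h1
    exact inf_le_left.trans (Subgroup.eq_of_le_of_card_ge hXP' h1).ge))
  have hRlt : X < P ⊓ N := SylIn.normalizer_growth hXP hneP hP.isPGroup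
  set R := P ⊓ N
  have hvR : v ∈ Subgroup.normalizer (R : Set G) := Fusion.mem_normalizer_iff_cj.2 (by
    rw [Fusion.cj_inf, Fusion.cj_eq_self hvP, Fusion.cj_eq_self (Subgroup.le_normalizer hv)])
  have hRp : IsPGroup p R := hP.isPGroup.to_le inf_le_left
  have hRodd : Odd (Nat.card R) :=
    (St2_odd hse hne).of_dvd_nat (Subgroup.card_dvd_of_le (inf_le_left.trans hP.1))
  have hcm : cm R v ≤ St c := by
    refine hinvc _ (Subgroup.commutator_le.2 fun r hr z hz => ?_)
      (hRp.to_le (Solv.commutator_normal_in (Subgroup.zpowers_le.2 hvR)).1)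
      ((Solv.commutator_normal_in (Subgroup.zpowers_le.2 hvR)).2.2 (Subgroup.mem_zpowers v))
    obtain ⟨i, rfl⟩ := Subgroup.mem_zpowers_iff.1 hz
    have hv' : v ∈ actTriv O r := ⟨hvO, hcomO r (inf_le_right (a := P) hr)⟩
    have := (zpow_mem hv' i).2
    rw [commutatorElement_def, show r * v ^ i * r⁻¹ * (v ^ i)⁻¹ = (v ^ i * r * (v ^ i)⁻¹ * r⁻¹)⁻¹ by group]
    exact inv_mem this
  refine htwo R hRlt hRp a (inf_le_left.trans (hP.1.trans inf_le_left)) ?_
  have hRc : c ∈ fixSet H R := by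
    intro x hx
    obtain ⟨w, hw, hwi, hy⟩ := Lie.exists_decomp (sq_one hv2) (t := v) (fun y hy => by
      have := Solv.conj_mem_of_mem_normalizer hvR hy
      rwa [inv_self hv2] at this) hRodd hx
    have hwc : w • c = c := hcm (inverted_mem_cm hRodd ⟨hw, by show v * w * v⁻¹ = w⁻¹; rw [inv_self hv2]; exact hwi⟩)
    have hyc : (x * w⁻¹) • c = c := smul_of_commute hse hv2 hvc (by
      show v * (x * w⁻¹) = x * w⁻¹ * v
      nth_rewrite 2 [← hy]
      rw [mul_assoc _ v v, sq_one hv2, mul_one])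
    show x • c = c
    rw [show x = x * w⁻¹ * w by group, mul_smul, hwc, hyc]
  have hsub : ({a, v • a, c} : Set (G ⧸ H)) ⊆ fixSet H R :=
    Set.insert_subset_iff.2 ⟨inf_le_left.trans (hP.1.trans inf_le_left), Set.insert_subset_iff.2
      ⟨inf_le_left.trans (hP.1.trans inf_le_right), Set.singleton_subset_iff.2 hRc⟩⟩
  have hc3 := Set.ncard_le_ncard hsub (Set.toFinite _)
  rwa [Set.ncard_eq_three.2 ⟨a, v • a, c, hne, hac, fun e => hac (smul_left_cancel v (e.trans hvc.symm)),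
    rfl⟩] at hc3

end Cfsg.Agent.SEB
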