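import Cfsg.Agent.Lib.Bender.Solvable.GoodTools
import Cfsg.Agent.Lib.Fusion.SL2Sections
import Cfsg.Agent.Lib.Fusion.AB

/-!
# Solvability of a strongly embedded subgroup: local lemmas for the good subgroups

A stabiliser generated by involutions commuting modulo the kernel and an odd group has abelian Sylow
`2`-subgroups, so quadratic elements are confined and `ZJ` factorises it.
-/

set_option autoImplicit false
set_option linter.style.haveILetI false
set_option linter.unusedSectionVars false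

open scoped Pointwise commutatorElement

namespace Cfsg.Agent.SEB

open Cfsg
open Cfsg.Agent.Fusion (SylIn cj)
open Cfsg.Agent.Fusion.SEPairs

universe u

variable {G : Type u} [Group G] [Finite G]

/-- Commutators inside an odd subgroup and odd index make the Sylow `2`-subgroups abelian. -/
theorem sylow_two_comm {L J K : Subgroup G} (hJL : J ≤ L) (hLJ : L ≤ Subgroup.normalizer (J : Set G))
    (hK : Odd (Nat.card K)) (hidx : Odd (J.relIndex L)) (hJ : ∀ x ∈ J, ∀ y ∈ J, ⁅x, y⁆ ∈ K) :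
    ∀ T : Sylow 2 ↥L, IsMulCommutative (T : Subgroup ↥L) := by
  intro T
  haveI : Fact (Nat.Prime 2) := ⟨Nat.prime_two⟩
  haveI hn : (J.subgroupOf L).Normal := Subgroup.normal_subgroupOf_of_le_normalizer hLJ
  have hTJ : ∀ x ∈ (T : Subgroup ↥L), (x : G) ∈ J := by
    intro x hx
    rw [← Subgroup.mem_subgroupOf, ← QuotientGroup.eq_one_iff, ← orderOf_eq_one_iff]
    obtain ⟨k, hk⟩ := T.isPGroup' ⟨x, hx⟩
    refine Nat.eq_one_of_dvd_coprimes ((Nat.coprime_two_left.2 hidx).pow_left k)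
      ((orderOf_map_dvd (QuotientGroup.mk' (J.subgroupOf L)) x).trans
        (orderOf_dvd_of_pow_eq_one (congrArg Subtype.val hk))) ?_
    rw [Subgroup.relIndex, Subgroup.index_eq_card]
    exact orderOf_dvd_natCard _
  refine ⟨⟨fun x y => ?_⟩⟩
  obtain ⟨k, hk⟩ := T.isPGroup' ⁅x, y⁆
  have hm : ⁅((x : ↥L) : G), ((y : ↥L) : G)⁆ ∈ K := hJ _ (hTJ _ x.2) _ (hTJ _ y.2)
  have hpow : ⁅((x : ↥L) : G), ((y : ↥L) : G)⁆ ^ 2 ^ k = 1 := by
    have h := congrArg (fun z : ↥(T : Subgroup ↥L) => (((z : ↥L)) : G)) hk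
    simpa [commutatorElement_def] using h
  have h1 : ⁅((x : ↥L) : G), ((y : ↥L) : G)⁆ = 1 := orderOf_eq_one_iff.1 <| Nat.eq_one_of_dvd_coprimes
    ((Nat.coprime_two_left.2 (Odd.of_dvd_nat hK (Subgroup.orderOf_dvd_natCard _ hm))).pow_left k)
    (orderOf_dvd_of_pow_eq_one hpow) dvd_rfl
  exact Subtype.ext (Subtype.ext (commutatorElement_eq_one_iff_mul_comm.1 h1))

/-- The relative indices in a product with a normal factor. -/
theorem relIndex_sup_normal {J D : Subgroup G} (hD : D ≤ Subgroup.normalizer (J : Set G)) :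
    D.relIndex (J ⊔ D) = (J ⊓ D).relIndex J ∧ J.relIndex (J ⊔ D) = (J ⊓ D).relIndex D := by
  have hmul : ∀ X Y : Subgroup G, X ≤ Y → X.relIndex Y * Nat.card X = Nat.card Y := fun X Y h => by
    rw [mul_comm, ← Nat.card_congr (Subgroup.subgroupOfEquivOfLe h).toEquiv]
    exact (X.subgroupOf Y).card_mul_index
  have h1 := Solv.card_sup_mul_card_inf' J D hD
  have hJ := hmul (J ⊓ D) J inf_le_left
  have hD' := hmul (J ⊓ D) D inf_le_right
  constructor
  · refine Nat.eq_of_mul_eq_mul_right (Nat.mul_pos (Nat.card_pos (α := D)) (Nat.card_pos (α := ↥(J ⊓ D)))) ?_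
    rw [← mul_assoc, hmul D (J ⊔ D) le_sup_right, h1, ← hJ]
    ring
  · refine Nat.eq_of_mul_eq_mul_right (Nat.mul_pos (Nat.card_pos (α := J)) (Nat.card_pos (α := ↥(J ⊓ D)))) ?_
    rw [← mul_assoc, hmul J (J ⊔ D) le_sup_left, h1, ← hD']
    ring

variable {H : Subgroup G}

/-- The involutions of `M` at `c`, with the kernel on the orbit. -/
def involGen (M : Subgroup G) (c : G ⧸ H) : Subgroup G :=
  orbitKer M c ⊔ Subgroup.closure {t | t ∈ M ∧ orderOf t = 2 ∧ t • c = c}

theorem involGen_le (M : Subgroup G) (c : G ⧸ H) : involGen M c ≤ M ⊓ St c :=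
  sup_le (le_inf (orbitKer_le M c) orbitKer_le_St)
    ((Subgroup.closure_le _).2 fun _ ht => ⟨ht.1, ht.2.2⟩)

theorem mem_involGen {M : Subgroup G} {c : G ⧸ H} {t : G} (htM : t ∈ M) (ht : orderOf t = 2)
    (htc : t • c = c) : t ∈ involGen M c :=
  Subgroup.mem_sup_right (Subgroup.subset_closure ⟨htM, ht, htc⟩)

theorem le_normalizer_involGen (M : Subgroup G) (c : G ⧸ H) :
    M ⊓ St c ≤ Subgroup.normalizer (involGen M c : Set G) := fun g hg => by
  refine Fusion.mem_normalizer_of_cj_le ?_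
  rw [involGen, Fusion.cj_sup]
  refine sup_le_sup (le_of_eq (Fusion.cj_eq_self (le_normalizer_orbitKer M c hg.1))) ?_
  show (Subgroup.closure _).map (MulAut.conj g).toMonoidHom ≤ _
  rw [MonoidHom.map_closure, Subgroup.closure_le]
  rintro _ ⟨t, ⟨htM, ht, htc⟩, rfl⟩
  refine Subgroup.subset_closure ⟨mul_mem (mul_mem hg.1 htM) (inv_mem hg.1), conj_involution ht g, ?_⟩
  show (g * t * g⁻¹) • c = c
  rw [mul_smul, mul_smul, inv_smul_eq_iff.2 (show g • c = c from hg.2).symm, htc]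
  exact hg.2

variable {M : Subgroup G} {c : G ⧸ H}
  (hcom : ∀ s t : G, orderOf s = 2 → orderOf t = 2 → s ∈ M → t ∈ M → s • c = c → t • c = c →
    ⁅s, t⁆ ∈ orbitKer M c)
include hcom

theorem involGen_le_actTriv_gen {t : G} (htM : t ∈ M) (ht : orderOf t = 2) (htc : t • c = c) :
    involGen M c ≤ actTriv (orbitKer M c) t := by
  refine sup_le (fun k hk => ⟨Subgroup.le_normalizer hk, ?_⟩) ((Subgroup.closure_le _).2 ?_)
  · rw [show k * t * k⁻¹ * t⁻¹ = k * (t * k⁻¹ * t⁻¹) by group]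
    exact mul_mem hk (Solv.conj_mem_of_mem_normalizer (le_normalizer_orbitKer M c htM) (inv_mem hk))
  · rintro s ⟨hsM, hs, hsc⟩
    refine ⟨le_normalizer_orbitKer M c hsM, ?_⟩
    rw [← commutatorElement_def]
    exact hcom s t hs ht hsM htM hsc htc

theorem involGen_commutator {x y : G} (hx : x ∈ involGen M c) (hy : y ∈ involGen M c) :
    ⁅x, y⁆ ∈ orbitKer M c := by
  have hyN : y ∈ Subgroup.normalizer (orbitKer M c : Set G) :=
    le_normalizer_orbitKer M c (involGen_le M c hy).1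
  have hle : involGen M c ≤ actTriv (orbitKer M c) y := by
    refine sup_le (fun k hk => ⟨Subgroup.le_normalizer hk, ?_⟩) ((Subgroup.closure_le _).2 ?_)
    · rw [show k * y * k⁻¹ * y⁻¹ = k * (y * k⁻¹ * y⁻¹) by group]
      exact mul_mem hk (Solv.conj_mem_of_mem_normalizer hyN (inv_mem hk))
    · rintro s ⟨hsM, hs, hsc⟩
      refine ⟨le_normalizer_orbitKer M c hsM, ?_⟩
      have h := (involGen_le_actTriv_gen hcom hsM hs hsc hy).2
      rw [show s * y * s⁻¹ * y⁻¹ = (y * s * y⁻¹ * s⁻¹)⁻¹ by group]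
      exact inv_mem h
  rw [commutatorElement_def]
  exact (hle hx).2

theorem involGen_sq {x : G} (hx : x ∈ involGen M c) : x * x ∈ orbitKer M c := by
  rw [involGen, ← Subgroup.closure_eq (orbitKer M c), ← Subgroup.closure_union] at hx
  have hle : Subgroup.closure ((orbitKer M c : Set G) ∪ {t | t ∈ M ∧ orderOf t = 2 ∧ t • c = c}) =
      involGen M c := by
    rw [Subgroup.closure_union, Subgroup.closure_eq]; rfl
  induction hx using Subgroup.closure_induction with
  | mem z hz =>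
    rcases hz with hz | ⟨-, hz, -⟩
    · exact mul_mem hz hz
    · rw [sq_one hz]; exact one_mem _
  | one => rw [one_mul]; exact one_mem _
  | mul a b ha hb iha ihb =>
    rw [hle] at ha hb
    have h := involGen_commutator hcom hb ha
    rw [commutatorElement_def] at h
    rw [show a * b * (a * b) = a * (b * a * b⁻¹ * a⁻¹) * a⁻¹ * (a * a) * (b * b) by group]
    exact mul_mem (mul_mem
      (Solv.conj_mem_of_mem_normalizer (le_normalizer_orbitKer M c (involGen_le M c ha).1) h) iha) ihb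
  | inv a _ iha =>
    rw [← mul_inv_rev]; exact inv_mem iha

omit hcom in
theorem isSolvable_inf (hsol : Group.IsSolvable ↥((St c).subgroupOf M)) : Group.IsSolvable ↥(M ⊓ St c) := by
  haveI := hsol
  have e : ↥((St c).subgroupOf M) ≃* ↥(M ⊓ St c) :=
    (((St c).subgroupOf M).equivMapOfInjective M.subtype M.subtype_injective).trans
      (MulEquiv.subgroupCongr (by rw [Subgroup.subgroupOf_map_subtype, inf_comm]))
  exact Group.isSolvable_of_surjective (f := e.toMonoidHom) e.surjective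

/-- The subgroup generated by the involutions at `c` and an odd part. -/
theorem involGen_sup (hsol : Group.IsSolvable ↥((St c).subgroupOf M)) (hKodd : Odd (Nat.card ↥(orbitKer M c)))
    {D : Subgroup G} (hD : D ≤ M ⊓ St c) (hDodd : Odd (Nat.card D)) :
    Group.IsSolvable ↥(involGen M c ⊔ D) ∧
      (∀ T : Sylow 2 ↥(involGen M c ⊔ D), IsMulCommutative (T : Subgroup ↥(involGen M c ⊔ D))) ∧
      ∀ (p : ℕ) [Fact p.Prime], p ≠ 2 → orbitKer M c ≤ D → ∀ R, SylIn p R D →
        SylIn p R (involGen M c ⊔ D) := by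
  have hDn := hD.trans (le_normalizer_involGen M c)
  obtain ⟨hr1, hr2⟩ := relIndex_sup_normal hDn
  refine ⟨Solv.isSolvable_of_le (sup_le (involGen_le M c) hD) (isSolvable_inf hsol), ?_, ?_⟩
  · refine sylow_two_comm le_sup_left (sup_le Subgroup.le_normalizer hDn) hKodd ?_
      fun x hx y hy => involGen_commutator hcom hx hy
    rw [hr2]
    exact hDodd.of_dvd_nat (Subgroup.relIndex_dvd_card _ _)
  · intro p hp hp2 hKD R hR
    refine ⟨hR.le.trans le_sup_right, hR.isPGroup, ?_⟩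
    rw [← Subgroup.relIndex_mul_relIndex R D _ hR.le le_sup_right, hr1]
    intro hd
    refine (hp.out.dvd_mul.1 hd).elim hR.not_dvd fun hd' => ?_
    have hKJ : orbitKer M c ≤ involGen M c := le_sup_left
    have hd'' : p ∣ (orbitKer M c).relIndex (involGen M c) :=
      hd'.trans (Subgroup.relIndex_dvd_of_le_left _ (le_inf hKJ hKD))
    haveI : ((orbitKer M c).subgroupOf (involGen M c)).Normal :=
      Subgroup.normal_subgroupOf_of_le_normalizer
        ((involGen_le M c).trans (inf_le_left.trans (le_normalizer_orbitKer M c)))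
    rw [Subgroup.relIndex, Subgroup.index_eq_card] at hd''
    obtain ⟨q, hq⟩ := exists_prime_orderOf_dvd_card'
      (G := ↥(involGen M c) ⧸ (orbitKer M c).subgroupOf (involGen M c)) p hd''
    obtain ⟨x, rfl⟩ := QuotientGroup.mk'_surjective _ q
    have h2 : (QuotientGroup.mk' ((orbitKer M c).subgroupOf (involGen M c)) x) ^ 2 = 1 := by
      rw [← map_pow, ← MonoidHom.mem_ker, QuotientGroup.ker_mk', Subgroup.mem_subgroupOf,
        Subgroup.coe_pow, pow_two]
      exact involGen_sq hcom x.2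
    have h3 := orderOf_dvd_of_pow_eq_one h2
    rw [hq] at h3
    exact hp2 ((Nat.prime_dvd_prime_iff_eq hp.out Nat.prime_two).1 h3)

end Cfsg.Agent.SEB

namespace Cfsg.Agent.SEB

open Cfsg
open Cfsg.Agent.Fusion (SylIn cj)

universe u

variable {G : Type u} [Group G] [Finite G] {p : ℕ} [Fact p.Prime]

theorem not_involves_of_comm {L : Type u} [Group L] [Finite L] (hp2 : p ≠ 2)
    (hab : ∀ T : Sylow 2 L, IsMulCommutative (T : Subgroup L)) :
    ¬ Cfsg.Involves (Matrix.SpecialLinearGroup (Fin 2) (ZMod p)) L := fun h => by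
  haveI : Fact (Nat.Prime 2) := ⟨Nat.prime_two⟩
  obtain ⟨T⟩ : Nonempty (Sylow 2 L) := inferInstance
  exact Fusion.not_isMulCommutative_of_involves hp2 h T (hab T)

/-- A quadratic element lies in an odd subgroup normalised by the whole group. -/
theorem quadratic_mem {L X : Subgroup G} (hp2 : p ≠ 2)
    (hab : ∀ T : Sylow 2 ↥L, IsMulCommutative (T : Subgroup ↥L)) (hX : IsPGroup p X) (hXL : X ≤ L)
    (hLX : L ≤ Subgroup.normalizer (X : Set G)) {a : G} (ha : a ∈ L)
    (hq : ⁅⁅X, Subgroup.zpowers a⁆, Subgroup.zpowers a⁆ = ⊥)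
    (hC : Odd (Nat.card ↥(L ⊓ Subgroup.centralizer (X : Set G)))) :
    ∃ K : Subgroup G, a ∈ K ∧ Odd (Nat.card K) ∧ L ≤ Subgroup.normalizer (K : Set G) := by
  haveI : (X.subgroupOf L).Normal := Subgroup.normal_subgroupOf_of_le_normalizer hLX
  have hX' : IsPGroup p ↥(X.subgroupOf L) := hX.of_equiv (Subgroup.subgroupOfEquivOfLe hXL).symm
  have hq' : ⁅⁅X.subgroupOf L, Subgroup.zpowers (⟨a, ha⟩ : L)⁆, Subgroup.zpowers (⟨a, ha⟩ : L)⁆ = ⊥ := by
    refine (Subgroup.map_eq_bot_iff_of_injective _ L.subtype_injective).1 ?_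
    rw [Subgroup.map_commutator, Subgroup.map_commutator, Subgroup.map_subgroupOf_eq_of_le hXL,
      MonoidHom.map_zpowers]
    exact hq
  have hmem := Fusion.mk_mem_pCore_of_not_involves hp2 (not_involves_of_comm hp2 hab) hX' _ hq'
  set C := Subgroup.centralizer (X.subgroupOf L : Set ↥L)
  set π := QuotientGroup.mk' C
  set N := (Cfsg.pCore p (↥L ⧸ C)).comap π
  refine ⟨N.map L.subtype, ⟨⟨a, ha⟩, hmem, rfl⟩, ?_, fun g hg => ?_⟩
  · rw [Subgroup.card_map_of_injective L.subtype_injective]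
    have hCodd : Odd (Nat.card C) := by
      refine hC.of_dvd_nat ?_
      rw [← Subgroup.card_map_of_injective (K := C) L.subtype_injective]
      refine Subgroup.card_dvd_of_le ?_
      rintro _ ⟨g, hg, rfl⟩
      refine ⟨g.2, Subgroup.mem_centralizer_iff.2 fun x hx => ?_⟩
      exact congrArg Subtype.val (Subgroup.mem_centralizer_iff.1 hg ⟨x, hXL hx⟩ hx)
    obtain ⟨j, hj⟩ := IsPGroup.iff_card.1 (Fusion.isPGroup_pCore p (↥L ⧸ C))
    have hCN : C ≤ N := fun g hg => by
      show π g ∈ Cfsg.pCore p (↥L ⧸ C)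
      rw [show π g = 1 from (QuotientGroup.eq_one_iff g).2 hg]
      exact one_mem _
    have h1 : Nat.card N = Nat.card C * p ^ j := by
      rw [← hj, ← Subgroup.card_mul_index (C.subgroupOf N),
        Nat.card_congr (Subgroup.subgroupOfEquivOfLe hCN).toEquiv, ← Subgroup.relIndex]
      congr 1
      conv_lhs => rw [show C = π.ker from (QuotientGroup.ker_mk' C).symm]
      rw [Subgroup.relIndex_ker, Subgroup.map_comap_eq_self_of_surjective (QuotientGroup.mk'_surjective C)]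
    rw [h1]
    exact hCodd.mul ((Fact.out : p.Prime).odd_of_ne_two hp2).pow
  · refine Subgroup.le_normalizer_map L.subtype ⟨⟨g, hg⟩, ?_, rfl⟩
    rw [Subgroup.normalizer_eq_top_iff.2 (inferInstance : N.Normal)]
    exact Subgroup.mem_top _

/-- `ZJ` factorises a solvable group with abelian Sylow `2`-subgroups. -/
theorem zj_factor_comm {L : Type u} [Group L] [Finite L] (hs : Group.IsSolvable L) (hp2 : p ≠ 2)
    (hab : ∀ T : Sylow 2 L, IsMulCommutative (T : Subgroup L)) (T : Sylow p L) :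
    pPrimeCore p L ⊔ Subgroup.normalizer (OddLocal.Fact2.zjOf p (T : Subgroup L) : Set L) = ⊤ := by
  haveI := hs
  haveI : Group.IsSolvable (L ⧸ pPrimeCore p L) :=
    Group.isSolvable_of_surjective (QuotientGroup.mk'_surjective _)
  have hq : ¬ Cfsg.Involves (Matrix.SpecialLinearGroup (Fin 2) (ZMod p)) (L ⧸ pPrimeCore p L) := by
    haveI : Fact (Nat.Prime 2) := ⟨Nat.prime_two⟩
    obtain ⟨S⟩ : Nonempty (Sylow 2 L) := inferInstance
    intro h
    refine Fusion.not_isMulCommutative_of_involves hp2 h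
      (S.mapSurjective (QuotientGroup.mk'_surjective (pPrimeCore p L))) ⟨⟨fun x y => ?_⟩⟩
    obtain ⟨a, ha, hax⟩ := x.2
    obtain ⟨b, hb, hby⟩ := y.2
    refine Subtype.ext ?_
    show (x : L ⧸ pPrimeCore p L) * y = y * x
    rw [← hax, ← hby, ← map_mul, ← map_mul,
      show a * b = b * a from congrArg Subtype.val ((hab S).is_comm.comm ⟨a, ha⟩ ⟨b, hb⟩)]
  have h := Fusion.centerThompsonOf_normal hp2
    (Fusion.centralizer_pCore_le_of_solvable inferInstance Fusion.pPrimeCore_quotient_eq_bot)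
    (fun P _ hP => Fusion.mk_mem_pCore_of_not_involves hp2 hq hP)
    (T.mapSurjective (QuotientGroup.mk'_surjective (pPrimeCore p L)))
  refine OddLocal.Fact2.frattini_mod (T.isPGroup'.to_le (OddLocal.Fact2.zjOf_facts T.isPGroup').1) ?_
  rw [OddLocal.Fact2.zjOf_map _ T.isPGroup' (OddLocal.Fact2.injective_comp_of_sylow T)]
  exact h

/-- An element of such a group normalising a `p`-subgroup above `ZJ` of a Sylow subgroup normalises `ZJ`. -/
theorem zj_invariant {L R X : Subgroup G} (hs : Group.IsSolvable ↥L) (hp2 : p ≠ 2)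
    (hab : ∀ T : Sylow 2 ↥L, IsMulCommutative (T : Subgroup ↥L)) (hR : SylIn p R L) (hX : IsPGroup p X)
    (hZX : OddLocal.Fact2.zjOf p R ≤ X) {g : G} (hg : g ∈ L) (hgX : g ∈ Subgroup.normalizer (X : Set G)) :
    g ∈ Subgroup.normalizer (OddLocal.Fact2.zjOf p R : Set G) := by
  obtain ⟨T, hT⟩ := hR.exists_sylow_subgroupOf
  have hmap : (OddLocal.Fact2.zjOf p (T : Subgroup ↥L)).map L.subtype = OddLocal.Fact2.zjOf p R := by
    rw [OddLocal.Fact2.zjOf_map L.subtype T.isPGroup'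
      (L.subtype_injective.comp (T : Subgroup ↥L).subtype_injective), hT,
      Subgroup.map_subgroupOf_eq_of_le hR.le]
  set Z := OddLocal.Fact2.zjOf p (T : Subgroup ↥L) with hZ
  have h1 : (⟨g, hg⟩ : L) ∈ pPrimeCore p ↥L ⊔ Subgroup.normalizer (Z : Set ↥L) :=
    zj_factor_comm hs hp2 hab T ▸ Subgroup.mem_top _
  obtain ⟨o, ho, n, hn, hon⟩ := (Subgroup.mem_sup_of_normal_left.1 h1)
  refine Fusion.mem_normalizer_of_cj_le ?_
  rintro _ ⟨z, hz, rfl⟩
  rw [← hmap] at hz
  obtain ⟨z, hzT, rfl⟩ := hz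
  have hz' : n * z * n⁻¹ ∈ Z := Solv.conj_mem_of_mem_normalizer hn hzT
  set z' := n * z * n⁻¹
  have e : (⟨g, hg⟩ : L) * z * (⟨g, hg⟩ : L)⁻¹ = o * z' * o⁻¹ := by
    rw [← hon]
    show o * n * z * (o * n)⁻¹ = o * (n * z * n⁻¹) * o⁻¹
    group
  have e' : g * (z : G) * g⁻¹ = ((o * z' * o⁻¹ : L) : G) := congrArg Subtype.val e
  have hgz : g * (z : G) * g⁻¹ ∈ X := Solv.conj_mem_of_mem_normalizer hgX (hZX (hmap ▸ ⟨z, hzT, rfl⟩))
  have hk : ((z'⁻¹ * (o * z' * o⁻¹) : L) : G) ∈ X := by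
    rw [Subgroup.coe_mul, ← e', Subgroup.coe_inv]
    exact mul_mem (inv_mem (hZX (hmap ▸ ⟨z', hz', rfl⟩))) hgz
  have hkO : z'⁻¹ * (o * z' * o⁻¹) ∈ pPrimeCore p ↥L := by
    rw [show z'⁻¹ * (o * z' * o⁻¹) = (z'⁻¹ * o * z'⁻¹⁻¹) * o⁻¹ by group]
    exact mul_mem ((inferInstance : (pPrimeCore p ↥L).Normal).conj_mem o ho _) (inv_mem ho)
  obtain ⟨k, hk'⟩ := hX ⟨_, hk⟩
  have h3 : z'⁻¹ * (o * z' * o⁻¹) = 1 := by
    refine orderOf_eq_one_iff.1 (Nat.eq_one_of_dvd_coprimes (((Nat.Prime.coprime_iff_not_dvd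
      (Fact.out : p.Prime)).2 ?_).pow_left k) (orderOf_dvd_of_pow_eq_one (Subtype.ext ?_))
      (Subgroup.orderOf_dvd_natCard _ hkO))
    · exact fun hd => (Fact.out : p.Prime).not_dvd_one
        ((Fusion.card_pPrimeCore_coprime p ↥L) ▸ Nat.dvd_gcd hd dvd_rfl)
    · rw [Subgroup.coe_pow, OneMemClass.coe_one]
      exact congrArg Subtype.val hk'
  rw [inv_mul_eq_one] at h3
  show g * (z : G) * g⁻¹ ∈ _
  rw [e', ← h3, ← hmap]
  exact ⟨z', hz', rfl⟩

/-- A `p'`-subgroup normalised by a self-centralising abelian normal subgroup of a Sylow subgroup. -/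
theorem le_pcoreIn_of_centric {D Q B W : Subgroup G} (hs : Group.IsSolvable ↥D) (hodd : Odd (Nat.card D))
    (hp2 : p ≠ 2) (hQ : SylIn p Q D) (hBQ : B ≤ Q) (hQB : Q ≤ Subgroup.normalizer (B : Set G))
    (hB : IsMulCommutative B) (hc : Q ⊓ Subgroup.centralizer (B : Set G) ≤ B) (hWD : W ≤ D)
    (hW : (Nat.card W).Coprime p) (hBW : B ≤ Subgroup.normalizer (W : Set G)) : W ≤ pcoreIn p D := by
  haveI := hs
  obtain ⟨T, hT⟩ := hQ.exists_sylow_subgroupOf
  set O := pPrimeCore p ↥D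
  set π := QuotientGroup.mk' O with hπ
  haveI : Group.IsSolvable (↥D ⧸ O) := Group.isSolvable_of_surjective (QuotientGroup.mk'_surjective _)
  set B' := (B.subgroupOf D).map π with hB'
  set T' := T.mapSurjective (QuotientGroup.mk'_surjective O)
  set U := pCore p (↥D ⧸ O) with hU
  haveI : U.Normal := Solv.pCore_normal p
  have hcU : Subgroup.centralizer (U : Set (↥D ⧸ O)) ≤ U :=
    Fusion.centralizer_pCore_le_of_solvable inferInstance Fusion.pPrimeCore_quotient_eq_bot
  have hUT : ∀ u ∈ U, ∃ q ∈ Q, ∃ hq : q ∈ D, π ⟨q, hq⟩ = u := fun u hu => by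
    obtain ⟨q, hq, rfl⟩ := Fusion.pCore_le_sylow T' hu
    rw [hT] at hq
    exact ⟨q, hq, q.2, rfl⟩
  have hBD : B ≤ D := hBQ.trans hQ.le
  have hBc : IsMulCommutative B' := ⟨⟨by
    rintro ⟨_, x, hx, rfl⟩ ⟨_, y, hy, rfl⟩
    refine Subtype.ext ?_
    show π x * π y = π y * π x
    rw [← map_mul, ← map_mul,
      show x * y = y * x from Subtype.ext (show (x : G) * y = y * x from
        congrArg Subtype.val (hB.is_comm.comm ⟨(x : G), hx⟩ ⟨(y : G), hy⟩))]⟩⟩
  have hUB : U ≤ Subgroup.normalizer (B' : Set (↥D ⧸ O)) := fun u hu => by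
    obtain ⟨q, hq, hqD, rfl⟩ := hUT u hu
    exact Subgroup.le_normalizer_map π ⟨⟨q, hqD⟩, Fusion.mem_normalizer_of_cj_le (by
      rintro _ ⟨b, hb, rfl⟩
      exact Subgroup.mem_subgroupOf.2 (Solv.conj_mem_of_mem_normalizer (hQB hq) hb)), rfl⟩
  have hB'U : B' ≤ U := OddLocal.Fact2.abelian_le_pCore hcU
    (OddLocal.Fact2.quotient_stable hodd hp2 _ (Fusion.isPGroup_pCore p _)) hBc hUB
  have hBp : IsPGroup p B' := (Fusion.isPGroup_pCore p _).to_le hB'U
  intro w hw
  refine ⟨⟨w, hWD hw⟩, (QuotientGroup.eq_one_iff _).1 ?_, rfl⟩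
  set x := π ⟨w, hWD hw⟩
  show x = 1
  set W' := (W.subgroupOf D).map π
  have hW' : (Nat.card W').Coprime p := hW.coprime_dvd_left
    ((Subgroup.card_map_dvd _ π).trans (Subgroup.card_comap_dvd_of_injective _ _ D.subtype_injective))
  have hxo : (orderOf x).Coprime p :=
    hW'.coprime_dvd_left (Subgroup.orderOf_dvd_natCard W' (Subgroup.mem_map_of_mem π
      (show (⟨w, hWD hw⟩ : D) ∈ W.subgroupOf D from hw)))
  have hxB : ∀ t ∈ B', x * t = t * x := by
    intro t ht
    obtain ⟨b, hb, rfl⟩ := ht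
    refine commutatorElement_eq_one_iff_mul_comm.1 (Subgroup.mem_bot.1 ?_)
    rw [← Fusion.coprime_inf_pGroup hW' (Fusion.isPGroup_pCore p (↥D ⧸ O))]
    refine Subgroup.mem_inf.2 ⟨?_, ?_⟩
    · rw [← map_commutatorElement]
      refine ⟨_, ?_, rfl⟩
      show ⁅w, (b : G)⁆ ∈ W
      rw [show ⁅w, (b : G)⁆ = w * ((b : G) * w⁻¹ * (b : G)⁻¹) by rw [commutatorElement_def]; group]
      exact mul_mem hw (Solv.conj_mem_of_mem_normalizer (hBW hb) (inv_mem hw))
    · rw [commutatorElement_def]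
      have hbU : π b ∈ U := hB'U (Subgroup.mem_map_of_mem π hb)
      exact mul_mem ((inferInstance : U.Normal).conj_mem _ hbU _) (inv_mem hbU)
  have hxU : x ∈ Subgroup.centralizer (U : Set (↥D ⧸ O)) := by
    refine Fusion.mem_centralizer_of_AB (Fusion.isPGroup_pCore p _) hBp
      (by rw [Subgroup.normalizer_eq_top_iff.2 inferInstance]; exact le_top)
      (by rw [Subgroup.normalizer_eq_top_iff.2 inferInstance]; exact Subgroup.mem_top _) hxB hxo ?_
    intro u hu hut
    obtain ⟨q, hq, hqD, rfl⟩ := hUT u hu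
    refine hxB _ ⟨⟨q, hqD⟩, hc ⟨hq, Subgroup.mem_centralizer_iff.2 fun b hb => ?_⟩, rfl⟩
    have h1 := hut _ (Subgroup.mem_map_of_mem π (show (⟨b, hBD hb⟩ : D) ∈ B.subgroupOf D from hb))
    rw [← map_mul, ← map_mul] at h1
    exact (congrArg Subtype.val (Fusion.injOn_mk_of_coprime (Fusion.card_pPrimeCore_coprime p ↥D)
      (S := Q.subgroupOf D) (hQ.isPGroup.of_equiv (Subgroup.subgroupOfEquivOfLe hQ.le).symm)
      (Q.mul_mem hq (hBQ hb)) (Q.mul_mem (hBQ hb) hq) h1)).symm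
  obtain ⟨j, hj⟩ := Fusion.isPGroup_pCore p _ ⟨x, hcU hxU⟩
  exact orderOf_eq_one_iff.1 (Nat.eq_one_of_dvd_coprimes (hxo.pow_right j) dvd_rfl
    (orderOf_dvd_of_pow_eq_one (congrArg Subtype.val hj)))

end Cfsg.Agent.SEB
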