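import Cfsg.Agent.Lib.Bender.Solvable.Defs

/-!
# Solvability of a strongly embedded subgroup: tools for the good subgroups

The kernel of a proper subgroup on an orbit, the normaliser lemma, and some generation facts.
-/

set_option autoImplicit false
set_option linter.style.haveILetI false
set_option linter.unusedSectionVars false

open scoped Pointwise commutatorElement

namespace Cfsg.Agent.SEB

open Cfsg
open Cfsg.Agent.Fusion (cj)
open Cfsg.Agent.Fusion.SEPairs

universe u

variable {G : Type u} [Group G] [Finite G] {H : Subgroup G}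

/-- A subgroup normalised by two commuting involutions is generated by the three centralisers. -/
theorem le_of_four {K S : Subgroup G} (hK : Odd (Nat.card K)) {s v : G} (hs : orderOf s = 2)
    (hv : orderOf v = 2) (hsK : s ∈ Subgroup.normalizer (K : Set G))
    (hvK : v ∈ Subgroup.normalizer (K : Set G)) (hsv : Commute s v)
    (h1 : K ⊓ Subgroup.centralizer {s} ≤ S) (h2 : K ⊓ Subgroup.centralizer {v} ≤ S)
    (h3 : K ⊓ Subgroup.centralizer {s * v} ≤ S) : K ≤ S := by
  intro z hz
  let ψ := Subgroup.normalizerMonoidHom K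
  let β : MulAut K := ψ ⟨s, hsK⟩
  let δ : MulAut K := ψ ⟨v, hvK⟩
  have hβ : β * β = 1 := by
    rw [show β * β = ψ (⟨s, hsK⟩ * ⟨s, hsK⟩) from (map_mul ψ _ _).symm,
      show (⟨s, hsK⟩ : Subgroup.normalizer (K : Set G)) * ⟨s, hsK⟩ = 1 from Subtype.ext (sq_one hs),
      map_one]
  have hδ : δ * δ = 1 := by
    rw [show δ * δ = ψ (⟨v, hvK⟩ * ⟨v, hvK⟩) from (map_mul ψ _ _).symm,
      show (⟨v, hvK⟩ : Subgroup.normalizer (K : Set G)) * ⟨v, hvK⟩ = 1 from Subtype.ext (sq_one hv),
      map_one]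
  have hβδ : Commute β δ :=
    (show Commute (⟨s, hsK⟩ : Subgroup.normalizer (K : Set G)) ⟨v, hvK⟩ from
      Subtype.ext hsv.eq).map ψ
  have hfix : ∀ (e : G), K ⊓ Subgroup.centralizer {e} ≤ S → ∀ x : K, e * (x : G) * e⁻¹ = (x : G) →
      x ∈ S.subgroupOf K := fun e he x hex =>
    Subgroup.mem_subgroupOf.2 (he ⟨x.2, Subgroup.mem_centralizer_singleton_iff.2
      (mul_inv_eq_iff_eq_mul.1 hex).symm⟩)
  have := PGV.four_generation hK β δ hβ hδ hβδ (S.subgroupOf K)
    (fun x h => hfix s h1 x (congrArg Subtype.val h))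
    (fun x h => hfix v h2 x (congrArg Subtype.val h))
    (fun x h => hfix (s * v) h3 x (by
      calc s * v * (x : G) * (s * v)⁻¹ = s * (v * x * v⁻¹) * s⁻¹ := by group
        _ = x := congrArg Subtype.val h)) ⟨z, hz⟩
  exact Subgroup.mem_subgroupOf.1 this

/-- An involution commuting only with itself among the involutions is isolated. -/
theorem isolated_of_unique {z : G} (hz : orderOf z = 2)
    (h : ∀ x : G, orderOf x = 2 → Commute z x → x = z) : Cfsg.IsIsolatedInvolution z :=
  ⟨hz, fun _ hg => h _ (conj_involution hz _) hg⟩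

/-- `G = O(G) C(z)` for an isolated involution. -/
theorem isolated_decomp {z : G} (hiso : Cfsg.IsIsolatedInvolution z) (g : G) :
    ∃ s ∈ oddCore G, Commute z (s * g) := by
  obtain ⟨s, hs, hconj⟩ := Fusion.isolated_exists_zpowers hiso g
  refine ⟨s, (Subgroup.zpowers_le.2 ?_) hs, ?_⟩
  · rw [show z * (g * z * g⁻¹) = z * g * z⁻¹ * g⁻¹ by rw [inv_self hiso.1]; group]
    exact Char.zStar_isolated hiso g
  · show z * (s * g) = s * g * z
    nth_rewrite 1 [← hconj]
    group

variable (hse : Cfsg.IsStronglyEmbedded H)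
include hse

theorem smul_of_commute {t g : G} (ht : orderOf t = 2) {c : G ⧸ H} (htc : t • c = c) (h : Commute t g) :
    g • c = c :=
  fixed_unique hse ht (by rw [smul_smul, h.eq, ← smul_smul, htc]) htc

/-- If the involutions of a point are seen in the swappers of a pair, all those of the other are. -/
theorem invols_of_swappers {M : Subgroup G} {e : G} (he : orderOf e = 2) {b c : G ⧸ H} (hbc : b ≠ c)
    (heb : e • b = b) (heM : e ∈ M) (hsw : ∀ i, orderOf i = 2 → i • b = c → i ∈ M) {s : G}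
    (hs : orderOf s = 2) (hsc : s • c = c) : s ∈ M := by
  obtain ⟨i, hi, hie, -⟩ := exists_middle he hs
    (odd_of_fixed_ne hse he hs heb fun h => hbc (fixed_unique hse hs h hsc))
  have hib : i • b = c := fixed_unique hse hs (by rw [← hie, mul_smul, mul_smul, inv_smul_smul, heb]) hsc
  rw [← hie]
  exact mul_mem (mul_mem (hsw i hi hib) heM) (inv_mem (hsw i hi hib))

omit hse in
/-- The kernel of `M` on the orbit of `c`. -/
def orbitKer (M : Subgroup G) (c : G ⧸ H) : Subgroup G :=
  (((St c).subgroupOf M).normalCore).map M.subtype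

omit hse in
theorem orbitKer_le (M : Subgroup G) (c : G ⧸ H) : orbitKer M c ≤ M := Subgroup.map_subtype_le _

omit hse in
theorem le_normalizer_orbitKer (M : Subgroup G) (c : G ⧸ H) :
    M ≤ Subgroup.normalizer (orbitKer M c : Set G) := fun g hg => by
  refine Fusion.mem_normalizer_of_cj_le ?_
  rintro _ ⟨_, ⟨x, hx, rfl⟩, rfl⟩
  exact ⟨⟨g, hg⟩ * x * ⟨g, hg⟩⁻¹,
    (Subgroup.normalCore_normal ((St c).subgroupOf M)).conj_mem x hx _, rfl⟩

omit hse in
theorem orbitKer_fix {M : Subgroup G} {c : G ⧸ H} {k : G} (hk : k ∈ orbitKer M c) {g : G} (hg : g ∈ M) :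
    k • g • c = g • c := by
  have h1 : g⁻¹ * k * g⁻¹⁻¹ ∈ orbitKer M c :=
    Solv.conj_mem_of_mem_normalizer (inv_mem (le_normalizer_orbitKer M c hg)) hk
  obtain ⟨x, hx, e⟩ := h1
  have h2 : (g⁻¹ * k * g⁻¹⁻¹) • c = c := e ▸ Subgroup.normalCore_le _ hx
  rwa [inv_inv, mul_smul, mul_smul, inv_smul_eq_iff] at h2

omit hse in
theorem orbitKer_le_St {M : Subgroup G} {c : G ⧸ H} : orbitKer M c ≤ St c := fun k hk => by
  have h := orbitKer_fix hk (one_mem M)
  rwa [one_smul] at h

theorem orbitKer_odd {M : Subgroup G} {c : G ⧸ H} (hmove : ∃ g ∈ M, g • c ≠ c) :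
    Odd (Nat.card ↥(orbitKer M c)) := by
  obtain ⟨g, hg, hgc⟩ := hmove
  refine (St2_odd hse (Ne.symm hgc)).of_dvd_nat (Subgroup.card_dvd_of_le ?_)
  exact le_inf orbitKer_le_St fun k hk => orbitKer_fix hk hg

omit hse in
/-- The commutator of two involutions of a solvable strongly embedded subgroup lies in its core. -/
theorem invol_commutator_core {G : Type u} [Group G] [Finite G] {H : Subgroup G}
    (hse : Cfsg.IsStronglyEmbedded H) (hsol : Group.IsSolvable H) (hm : mbar ↥H ≠ 1) {s t : G}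
    (hs : orderOf s = 2) (ht : orderOf t = 2) (hsH : s ∈ H) (htH : t ∈ H) : ⁅s, t⁆ ∈ H.normalCore := by
  set N := H.normalCore
  set π := QuotientGroup.mk' N with hπ
  set H' := H.map π with hH'
  have hNodd : Odd (Nat.card N) := normalCore_odd hse
  have hker : π.ker = N := QuotientGroup.ker_mk' N
  have hcomap : H'.comap π = H := by
    rw [hH', Subgroup.comap_map_eq, hker, sup_eq_left.2 H.normalCore_le]
  have hse' := se_map_odd hse N H.normalCore_le hNodd
  have hsol' : Group.IsSolvable ↥H' := by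
    haveI := hsol
    exact Group.isSolvable_of_surjective (f := π.subgroupMap H) (π.subgroupMap_surjective H)
  have hm' : mbar ↥H' ≠ 1 := by
    refine fun h => hm (Eq.trans (mbar_of_surjective (π.subgroupMap H) (π.subgroupMap_surjective H) ?_) h)
    refine hNodd.of_dvd_nat ?_
    rw [← Nat.card_congr ((π.subgroupMap H).ker.equivMapOfInjective H.subtype H.subtype_injective).symm.toEquiv]
    refine Subgroup.card_dvd_of_le ?_
    rintro _ ⟨x, hx, rfl⟩
    rw [← hker]
    exact congrArg Subtype.val (MonoidHom.mem_ker.1 hx)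
  have hN' : H'.normalCore = ⊥ := by
    have h1 : (H'.normalCore).comap π ≤ N := by
      haveI : ((H'.normalCore).comap π).Normal := (Subgroup.normalCore_normal H').comap π
      exact Subgroup.normal_le_normalCore.2
        ((Subgroup.comap_mono H'.normalCore_le).trans (le_of_eq hcomap))
    refine eq_bot_iff.2 fun q hq => ?_
    obtain ⟨g, rfl⟩ := QuotientGroup.mk'_surjective N q
    rw [Subgroup.mem_bot, ← MonoidHom.mem_ker, hker]
    exact h1 hq
  obtain ⟨a, ha⟩ := exists_ne hse' (QuotientGroup.mk 1 : (G ⧸ N) ⧸ H')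
  obtain ⟨t₀, Q, hc, -⟩ := ctx_of_solvable hse' hsol' hm' hN' ha
  have hz : ∀ x ∈ H, orderOf x = 2 → π x ∈ Lie.R1C.zg (G ⧸ N) (QuotientGroup.mk 1 : (G ⧸ N) ⧸ H') :=
    fun x hx hx2 => hc.mem_zg_of_sq
      (smul_mk_eq_iff.2 (by rw [inv_one, one_mul, mul_one]; exact Subgroup.mem_map_of_mem π hx))
      (by rw [← map_mul, sq_one hx2, map_one])
  have h := hc.zg_central (hz s hsH hs) (hc.zg_le_Q (hz t htH ht))
  rw [← hker, MonoidHom.mem_ker, map_commutatorElement, commutatorElement_eq_one_iff_mul_comm]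
  exact h

/-- A rank two subgroup moving `c` has a solvable stabiliser with more than one class of involutions. -/
theorem sub_solvable_of_pair (IH : ∀ M : Subgroup G, M ≠ ⊤ → Sol ↥M) {M : Subgroup G} (hM : M ≠ ⊤)
    {c : G ⧸ H} (hmove : ∃ g ∈ M, g • c ≠ c) {x y : G} (hx : orderOf x = 2) (hy : orderOf y = 2)
    (hxy : x ≠ y) (hcomm : Commute x y) (hxM : x ∈ M) (hyM : y ∈ M) (hxc : x • c = c) :
    Cfsg.IsStronglyEmbedded ((St c).subgroupOf M) ∧ Group.IsSolvable ↥((St c).subgroupOf M) ∧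
      mbar ↥((St c).subgroupOf M) ≠ 1 := by
  have hseM := se_sub hse hx hxc hxM hmove
  have hm : mbar ↥((St c).subgroupOf M) ≠ 1 := fun h => hxy (congrArg Subtype.val
    (Bender.commute_eq hseM (oneClass_of_mbar_eq_one h) (s := (⟨x, hxM⟩ : M)) (t := ⟨y, hyM⟩)
      (by rw [Subgroup.orderOf_mk]; exact hx) (by rw [Subgroup.orderOf_mk]; exact hy)
      (Subtype.ext hcomm.eq)))
  exact ⟨hseM, IH M hM _ hseM hm, hm⟩

/-- In a rank two subgroup the involutions at a point commute modulo the kernel on the orbit. -/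
theorem commutator_mem_orbitKer (IH : ∀ M : Subgroup G, M ≠ ⊤ → Sol ↥M) {M : Subgroup G} (hM : M ≠ ⊤)
    {c : G ⧸ H} (hmove : ∃ g ∈ M, g • c ≠ c) {x y : G} (hx : orderOf x = 2) (hy : orderOf y = 2)
    (hxy : x ≠ y) (hcomm : Commute x y) (hxM : x ∈ M) (hyM : y ∈ M) (hxc : x • c = c)
    {s t : G} (hs : orderOf s = 2) (ht : orderOf t = 2) (hsM : s ∈ M) (htM : t ∈ M) (hsc : s • c = c)
    (htc : t • c = c) : ⁅s, t⁆ ∈ orbitKer M c := by
  obtain ⟨h1, h2, h3⟩ := sub_solvable_of_pair hse IH hM hmove hx hy hxy hcomm hxM hyM hxc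
  refine ⟨_, invol_commutator_core h1 h2 h3 (s := ⟨s, hsM⟩) (t := ⟨t, htM⟩)
    (by rw [Subgroup.orderOf_mk]; exact hs) (by rw [Subgroup.orderOf_mk]; exact ht) hsc htc, ?_⟩
  rw [map_commutatorElement]
  rfl

/-- The normaliser lemma: an involution normalising a proper subgroup and commuting with one of its
involutions lies in it, unless the subgroup fixes the centre. -/
theorem norm_le (IH : ∀ M : Subgroup G, M ≠ ⊤ → Sol ↥M) {M : Subgroup G} (hM : M ≠ ⊤) {c : G ⧸ H}
    {v s : G} (hv : orderOf v = 2) (hvM : v ∈ Subgroup.normalizer (M : Set G))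
    (hs : orderOf s = 2) (hsc : s • c = c) (hsM : s ∈ M) (hsv : Commute s v) :
    M ≤ St c ∨ v ∈ M := by
  by_cases hmove : ∃ g ∈ M, g • c ≠ c
  swap
  · push Not at hmove
    exact Or.inl fun g hg => hmove g hg
  have hvc : v • c = c := smul_of_commute hse hs hsc hsv
  by_cases hpair : ∃ x ∈ M, orderOf x = 2 ∧ Commute s x ∧ x ≠ s
  · obtain ⟨x, hxM, hx, hsx, hxs⟩ := hpair
    obtain ⟨-, -, hm⟩ := sub_solvable_of_pair hse IH hM hmove hs hx (Ne.symm hxs) hsx hsM hxM hsc
    obtain ⟨g, hg, hgc⟩ := hmove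
    have hg' : v * g * v⁻¹ ∈ M := Solv.conj_mem_of_mem_normalizer hvM hg
    have hve : (v * g * v⁻¹) • c = v • g • c := by
      rw [mul_smul, mul_smul, inv_smul_eq_iff.2 hvc.symm]
    have hvne : (v * g * v⁻¹) • c ≠ c := by
      rw [hve]
      intro h
      nth_rewrite 2 [← hvc] at h
      exact hgc (smul_left_cancel v h)
    obtain ⟨⟨k, hk, hkg⟩, -⟩ := sub_orbit hse hs hsc hsM ⟨g, hg, hgc⟩ hm hg hg' hgc hvne
    rw [hve] at hkg
    have hd : k⁻¹ * v ∈ St2 c (g • c) := by
      refine ⟨?_, ?_⟩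
      · show (k⁻¹ * v) • c = c
        rw [mul_smul, hvc, inv_smul_eq_iff]
        exact (show k • c = c from hk.2).symm
      · show (k⁻¹ * v) • g • c = g • c
        rw [mul_smul, ← hkg, inv_smul_smul]
    obtain ⟨j, hj⟩ : Odd (orderOf (k⁻¹ * v)) :=
      (St2_odd hse (Ne.symm hgc)).of_dvd_nat (Subgroup.orderOf_dvd_natCard _ hd)
    have hsq : (k⁻¹ * v) * (k⁻¹ * v) ∈ M := by
      rw [show k⁻¹ * v * (k⁻¹ * v) = k⁻¹ * (v * k⁻¹ * v⁻¹) * (v * v) by group, sq_one hv, mul_one]
      exact mul_mem (inv_mem hk.1) (Solv.conj_mem_of_mem_normalizer hvM (inv_mem hk.1))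
    have hmem := pow_mem hsq (j + 1)
    rw [← pow_two, ← pow_mul, show 2 * (j + 1) = (2 * j + 1) + 1 by omega, pow_succ, ← hj,
      pow_orderOf_eq_one, one_mul] at hmem
    refine Or.inr ?_
    have := mul_mem hk.1 hmem
    rwa [mul_inv_cancel_left] at this
  push Not at hpair
  by_cases hsv' : s = v
  · exact Or.inr (hsv' ▸ hsM)
  refine Or.inl fun g hg => ?_
  set z : M := ⟨s, hsM⟩
  have hz : orderOf z = 2 := by rw [Subgroup.orderOf_mk]; exact hs
  have hiso : Cfsg.IsIsolatedInvolution z := isolated_of_unique hz fun x hx hzx =>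
    Subtype.ext (hpair x x.2 (by rw [Subgroup.orderOf_coe]; exact hx) (congrArg Subtype.val hzx.eq))
  set K := (oddCore M).map M.subtype with hK
  have hKodd : Odd (Nat.card K) := by
    rw [hK, Subgroup.card_map_of_injective M.subtype_injective]
    exact Char.card_oddCore_odd _
  have hKn : ∀ w, w ∈ Subgroup.normalizer (M : Set G) → w ∈ Subgroup.normalizer (K : Set G) := fun w hw =>
    normalizer_le_pcoreIn (p := 2) M hw
  have hw : orderOf (s * v) = 2 := by
    refine orderOf_eq_prime ?_ fun e => hsv' ?_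
    · rw [hsv.mul_pow, pow_two, pow_two, sq_one hs, sq_one hv, one_mul]
    · exact (eq_inv_of_mul_eq_one_left e).trans (inv_self hv)
  have hfix : ∀ w, orderOf w = 2 → w • c = c → K ⊓ Subgroup.centralizer {w} ≤ St c := fun w hw hwc x hx =>
    smul_of_commute hse hw hwc (Subgroup.mem_centralizer_singleton_iff.1 hx.2).symm
  have hKc : K ≤ St c := le_of_four hKodd hs hv (hKn s (Subgroup.le_normalizer hsM)) (hKn v hvM) hsv
    (hfix s hs hsc) (hfix v hv hvc) (hfix _ hw (by rw [mul_smul, hvc, hsc]))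
  obtain ⟨σ, hσ, hσg⟩ := isolated_decomp hiso ⟨g, hg⟩
  have h1 : ((σ : G) * g) • c = c := smul_of_commute hse hs hsc (congrArg Subtype.val hσg.eq)
  rw [mul_smul, smul_eq_iff_eq_inv_smul] at h1
  have h2 : (σ : G) • c = c := hKc ⟨σ, hσ, rfl⟩
  show g • c = c
  rw [h1, inv_smul_eq_iff, h2]

end Cfsg.Agent.SEB
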