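import Cfsg.Agent.Lib.Bender.Solvable.Good
import Cfsg.Agent.Lib.Bender.Solvable.Assembly
import Cfsg.Agent.Lib.Bender.Solvable.CaseFree
import Cfsg.Agent.Lib.Bender.Solvable.CaseFix
import Cfsg.Agent.Lib.Bender.Solvable.Elementary

/-!
# Solvability of a strongly embedded subgroup: the minimal configuration

When the involutions at a point commute, the pair stabiliser is semilinear on them; the elementary case
then shows that `T0` centralises them, which is impossible. So the pair stabiliser in `T0` is trivial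
and the point stabiliser is solvable.
-/

set_option autoImplicit false
set_option linter.style.haveILetI false
set_option linter.unusedSectionVars false

open scoped Pointwise

namespace Cfsg.Agent.SEB

open Cfsg
open Cfsg.Agent.Fusion (SylIn cj)
open Cfsg.Agent.Fusion.SEPairs

universe u

variable {G : Type u} [Group G] [Finite G] {H : Subgroup G} {c a : G ⧸ H} {t : G}

/-- The involutions at the point do not commute unless the pair stabiliser in `T0` is trivial. -/
theorem Min.false_of_commAt (hM : Min H) (hIF : InvertFree H) (hFR : FixRich H) (hca : a ≠ c)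
    (hne : D1 c a ≠ ⊥) (ht : orderOf t = 2) (htc : t • c = c)
    (hcomm : ∀ s s' : G, orderOf s = 2 → orderOf s' = 2 → s • c = c → s' • c = c → Commute s s') :
    False := by
  classical
  set E := EX (⊥ : Subgroup G) c with hE
  have hinE : ∀ {s : G}, orderOf s = 2 → s • c = c → s ∈ E := fun hs hsc =>
    invol_mem_EX hs hsc (Subgroup.mem_centralizer_iff.2 fun y hy => by
      rw [Subgroup.mem_bot.1 hy, one_mul, mul_one])
  have hEmem : ∀ {g : G}, g ∈ E → g • c = c ∧ g * g = 1 := fun hg => by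
    obtain ⟨h1, -, h2⟩ := mem_EX_iff (fun s s' hs hs' hsc hs'c _ _ => hcomm s s' hs hs' hsc hs'c) hg
    exact ⟨h1, h2⟩
  have hinv : ∀ {g : G}, g ∈ E → g ≠ 1 → orderOf g = 2 ∧ g • c = c := fun hg hg1 =>
    ⟨orderOf_eq_prime (by rw [pow_two]; exact (hEmem hg).2) hg1, (hEmem hg).1⟩
  have hEc : ∀ u ∈ E, ∀ v ∈ E, Commute u v := fun u hu v hv => by
    by_cases hu1 : u = 1
    · rw [hu1]; exact Commute.one_left v
    by_cases hv1 : v = 1
    · rw [hv1]; exact Commute.one_right u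
    exact hcomm u v (hinv hu hu1).1 (hinv hv hv1).1 (hinv hu hu1).2 (hinv hv hv1).2
  have hEn : St c ≤ Subgroup.normalizer (E : Set G) := fun g hg =>
    EX_normalizer hg (by rw [Subgroup.normalizer_eq_top]; exact Subgroup.mem_top g)
  set D := St2 c a with hD
  have hDc : D ≤ St c := inf_le_left
  have htE : t ∈ E := hinE ht htc
  have ht1 : t ≠ 1 := ne_one_of_invol ht
  -- nothing centralises the involutions in the pair stabiliser
  have hK : ∀ g ∈ D, (∀ s ∈ E, Commute g s) → g = 1 := by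
    set K := D ⊓ Subgroup.centralizer (E : Set G)
    have hKn : D ≤ Subgroup.normalizer (K : Set G) := fun g hg => by
      refine Fusion.mem_normalizer_of_cj_le (le_of_eq ?_)
      rw [Fusion.cj_inf, Fusion.cj_centralizer, Fusion.cj_eq_self (hEn (hDc hg)),
        Fusion.cj_eq_self_of_mem hg]
    suffices hK1 : K = ⊥ by
      intro g hg hgE
      have h : g ∈ K := ⟨hg, Subgroup.mem_centralizer_iff.2 fun s hs => (hgE s hs).eq.symm⟩
      rwa [hK1, Subgroup.mem_bot] at h
    by_contra hK1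
    -- it meets the Fitting subgroup
    have hKF : K ⊓ FD c a ≠ ⊥ := fun h0 => by
      refine hK1 ((Subgroup.eq_bot_iff_forall _).2 fun g hg => ?_)
      have hc : ∀ f ∈ FD c a, Commute g f := fun f hf => by
        have h1 : g * f * g⁻¹ * f⁻¹ ∈ K ⊓ FD c a := by
          refine ⟨?_, (FD c a).mul_mem (Solv.conj_mem_of_mem_normalizer (FD_normalizer c a hg.1) hf) ((FD c a).inv_mem hf)⟩
          rw [show g * f * g⁻¹ * f⁻¹ = g * (f * g⁻¹ * f⁻¹) by group]
          exact K.mul_mem hg (Solv.conj_mem_of_mem_normalizer (hKn (FD_le c a hf)) (K.inv_mem hg))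
        rw [h0, Subgroup.mem_bot, mul_inv_eq_one, mul_inv_eq_iff_eq_mul] at h1
        exact h1
      have hgF : g ∈ FD c a := by
        have hsol : Group.IsSolvable ↥D := S0205.result (St2_odd hM.hse hca.symm)
        refine ⟨⟨g, hg.1⟩, Solv.centralizer_fitting_le hsol
          (Subgroup.mem_centralizer_iff.2 fun y hy => Subtype.ext ?_), rfl⟩
        exact (hc (y : G) ⟨y, hy, rfl⟩).eq.symm
      have h1 : g ∈ K ⊓ FD c a := ⟨hg, hgF⟩
      rwa [h0, Subgroup.mem_bot] at h1
    obtain ⟨⟨z, hzK, hzF⟩, hz1⟩ := Subgroup.ne_bot_iff_exists_ne_one.1 hKF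
    have hz1' : z ≠ 1 := fun e => hz1 (Subtype.ext e)
    obtain ⟨p, hp, hpd⟩ := Nat.exists_prime_and_dvd (n := orderOf z) (fun e => hz1' (orderOf_eq_one_iff.1 e))
    haveI := Fact.mk hp
    have hyo : orderOf (z ^ (orderOf z / p)) = p := orderOf_pow_orderOf_div (orderOf_pos z).ne' hpd
    obtain ⟨hyP, -⟩ := hM.prime_of_mem_FD hIF hFR hca hne ht htc (pow_mem hzF _) hyo
    refine hM.no_normal_D hIF hFR hca hne ht htc (X := K ⊓ FQ p c a)
      ((FQ_isPGroup p c a).to_le inf_le_right) (fun h0 => ?_) (inf_le_left.trans inf_le_left)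
      (fun g hg => Fusion.mem_normalizer_of_cj_le (le_of_eq ?_))
      (Subgroup.mem_centralizer_iff.2 fun g hg =>
        (Subgroup.mem_centralizer_iff.1 hg.1.2 t htE).symm)
    · have h1 : z ^ (orderOf z / p) ∈ K ⊓ FQ p c a := ⟨pow_mem hzK _, hyP⟩
      rw [h0, Subgroup.mem_bot] at h1
      rw [h1, orderOf_one] at hyo
      exact hp.ne_one hyo.symm
    · rw [Fusion.cj_inf, Fusion.cj_eq_self (hKn hg), Fusion.cj_eq_self (FQ_normalizer p c a hg)]
  -- the semilinear structure
  obtain ⟨x, r, R, C⟩ := hM.exists_core hIF hFR hca hne ht htc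
  have hodd : Odd (Nat.card ↥D) := St2_odd hM.hse hca.symm
  have htr : ∀ u ∈ E, u ≠ 1 → ∀ v ∈ E, v ≠ 1 → ∃ g ∈ D, g * u * g⁻¹ = v := fun u hu hu1 v hv hv1 => by
    obtain ⟨d, hdc, hda, hd⟩ := pair_transitive hM.hse hca (hinv hu hu1).1 (hinv hu hu1).2 (hinv hv hv1).1
      (hinv hv hv1).2
    exact ⟨d, ⟨hdc, hda⟩, hd⟩
  have hxs : ∀ s : G, orderOf s = 2 → s • c = c → (Commute x s ↔ s = t) := fun s hs hsc =>
    ⟨C.unique hM hIF hFR hca ht htc hs hsc, fun e => e ▸ C.comm⟩
  obtain ⟨s₀, hs₀, hs₀c, hs₀t⟩ := hM.exists_invol_ne ht htc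
  have hG : Gal E D t x r := gal_of_fix hodd hEc (fun u hu => (hEmem hu).2) (hDc.trans hEn) htr htE ht1
    C.mem_D C.prime C.ord C.comm
    (fun s hs hxs' => by
      by_cases hs1 : s = 1
      · exact Or.inl hs1
      · exact Or.inr ((hxs s (hinv hs hs1).1 (hinv hs hs1).2).1 hxs'))
    ⟨s₀, hinE hs₀ hs₀c, ne_one_of_invol hs₀, hs₀t⟩
  obtain ⟨Γ, hΓD, hΓn, hDΓ, -, hsemi, hexp, -, hcyc⟩ := hG.scal
  haveI hΓcyc : IsCyclic ↥Γ := hcyc Γ le_rfl fun g hg h => hK g (hΓD hg) h
  have hfree : ∀ γ ∈ Γ, γ ≠ 1 → ∀ s : G, orderOf s = 2 → s • c = c → ¬ Commute γ s :=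
    fun γ hγ hγ1 s hs hsc h => hγ1 (hK γ (hΓD hγ) (hsemi γ hγ s (hinE hs hsc) (ne_one_of_invol hs) h))
  have hnum : Bender.numInv H = 2 ^ r - 1 := by
    haveI := Fintype.ofFinite ↥E
    have e : {s : G // orderOf s = 2 ∧ s • c = c} ≃ {s : ↥E // s ≠ 1} :=
      { toFun := fun s => ⟨⟨s.1, hinE s.2.1 s.2.2⟩, fun h => ne_one_of_invol s.2.1 (congrArg Subtype.val h)⟩
        invFun := fun s => ⟨(s.1 : G), hinv s.1.2 fun h => s.2 (Subtype.ext h)⟩
        left_inv := fun s => rfl
        right_inv := fun s => rfl }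
    rw [← Bender.card_fixing c, Nat.card_congr e, Nat.card_eq_fintype_card, Fintype.card_subtype_compl,
      Fintype.card_subtype_eq, ← Nat.card_eq_fintype_card, hG.card]
  have hcard : Nat.card ↥Γ = 2 ^ r - 1 := by
    refine le_antisymm ?_ ?_
    · obtain ⟨g, hg⟩ := IsCyclic.exists_generator (α := ↥Γ)
      rw [← orderOf_eq_card_of_forall_mem_zpowers hg]
      refine Nat.le_of_dvd ?_ (orderOf_dvd_of_pow_eq_one (Subtype.ext ?_))
      · have := Nat.one_lt_two_pow C.prime.ne_zero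
        omega
      · exact hK _ (hΓD (pow_mem g.2 _)) fun s hs => hexp g g.2 s hs
    · rw [← hnum, ← Bender.card_fixing c]
      refine Nat.card_le_card_of_surjective (fun γ : Γ => (⟨(γ : G) * t * (γ : G)⁻¹,
        smul_involSet (hDc (hΓD γ.2)) ⟨ht, htc⟩⟩ : {s : G // orderOf s = 2 ∧ s • c = c})) ?_
      rintro ⟨s, hs, hsc⟩
      obtain ⟨d, hd, hdt⟩ := htr t htE ht1 s (hinE hs hsc) (ne_one_of_invol hs)
      have hd' : d ∈ ((Γ ⊔ Subgroup.zpowers x : Subgroup G) : Set G) := hDΓ ▸ hd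
      rw [Subgroup.coe_mul_of_right_le_normalizer_left Γ (Subgroup.zpowers x)
        ((Subgroup.zpowers_le.2 C.mem_D).trans hΓn)] at hd'
      obtain ⟨γ, hγ, z, hz, rfl⟩ := hd'
      obtain ⟨i, rfl⟩ := Subgroup.mem_zpowers_iff.1 hz
      refine ⟨⟨γ, hγ⟩, Subtype.ext ?_⟩
      show γ * t * γ⁻¹ = s
      rw [← hdt, show γ * x ^ i * t * (γ * x ^ i)⁻¹ = γ * (x ^ i * t * (x ^ i)⁻¹) * γ⁻¹ by group,
        (C.comm.zpow_left i).eq, mul_inv_cancel_right]
  have hfix : ∀ γ ∈ Γ, γ ≠ 1 → {e : G ⧸ H | γ • e = e} = {c, a} := fun γ hγ hγ1 => by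
    ext e
    refine ⟨fun he => ?_, ?_⟩
    · by_contra hne'
      simp only [Set.mem_insert_iff, Set.mem_singleton_iff, not_or] at hne'
      obtain ⟨p, hp, hpd⟩ := Nat.exists_prime_and_dvd (n := orderOf γ) (fun h => hγ1 (orderOf_eq_one_iff.1 h))
      haveI := Fact.mk hp
      set y := γ ^ (orderOf γ / p)
      have hyo : orderOf y = p := orderOf_pow_orderOf_div (orderOf_pos γ).ne' hpd
      have hy1 : y ≠ 1 := fun h => hp.ne_one (by rw [← hyo, h, orderOf_one])
      have hpm : p ∣ Bender.numInv H := by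
        rw [hnum, ← hcard]
        exact hpd.trans (Subgroup.orderOf_dvd_natCard _ hγ)
      have hf : ∀ w : G ⧸ H, γ • w = w → w ∈ Bender.fixSet H (Subgroup.zpowers y) := fun w hw =>
        Subgroup.zpowers_le.2 (Subgroup.pow_mem _ (show γ ∈ St w from hw) _)
      obtain ⟨s, -, hs, -, -, hsc, -, -, hsX, -⟩ := hFR p _ hp hpm
        (IsPGroup.of_card (n := 1) (by rw [Nat.card_zpowers, hyo, pow_one])) (Subgroup.zpowers_ne_bot.2 hy1)
        (Set.two_lt_ncard_iff (Set.toFinite _) |>.2 ⟨c, a, e, hf c (hΓD hγ).1, hf a (hΓD hγ).2, hf e he,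
          hca.symm, fun h => hne'.1 h.symm, fun h => hne'.2 h.symm⟩) c (hf c (hΓD hγ).1)
      exact hfree y (pow_mem hγ _) hy1 s hs hsc (Subgroup.mem_centralizer_iff.1 hsX y (Subgroup.mem_zpowers y))
    · rintro (rfl | rfl)
      · exact (hΓD hγ).1
      · exact (hΓD hγ).2
  have hel := elementary G H hM hIF c a Γ x t r hca C.prime
    (C.prime.odd_of_ne_two (C.r_ne_two hM hIF hFR hca ht htc)) C.ord ht htc hnum hcard hΓcyc hDΓ hΓn hcomm
    hxs hfix hfree
  -- `T0` centralises the involutions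
  refine hM.not_central hIF hFR hca hne ht htc fun g hg => ?_
  set S := St c
  set Z := (Subgroup.centralizer (E : Set G)).subgroupOf S with hZ
  haveI : Z.Normal := ⟨fun y hy s => by
    refine Subgroup.mem_subgroupOf.2 ?_
    have h1 := Fusion.conj_mem_cj (g := (s : G)) (Subgroup.mem_subgroupOf.1 hy)
    rwa [Fusion.cj_centralizer, Fusion.cj_eq_self (hEn s.2)] at h1⟩
  set π := QuotientGroup.mk' Z
  have hTC : T0 c ≤ Subgroup.centralizer (E : Set G) := by
    refine (Subgroup.closure_le _).2 ?_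
    rintro w ⟨-, hwc, j, hj⟩
    obtain ⟨d, hd, hdw⟩ := hel w hwc
    have hdS : d ∈ S := hd.1
    have heq : π ⟨w, hwc⟩ = π ⟨d, hdS⟩ := by
      rw [show (⟨w, hwc⟩ : S) = ⟨d, hdS⟩ * ⟨d⁻¹ * w, mul_mem (inv_mem hdS) hwc⟩ from
        Subtype.ext (mul_inv_cancel_left d w).symm, map_mul]
      refine mul_eq_left.2 ((QuotientGroup.eq_one_iff _).2 (Subgroup.mem_subgroupOf.2
        (Subgroup.mem_centralizer_iff.2 fun s hs => ?_)))
      by_cases hs1 : s = 1
      · rw [hs1, one_mul, mul_one]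
      · exact (hdw s (hinv hs hs1).1 (hinv hs hs1).2).eq.symm
    have h1 : orderOf (π ⟨w, hwc⟩) ∣ 2 ^ j := orderOf_dvd_of_pow_eq_one (by
      rw [← map_pow, show (⟨w, hwc⟩ : S) ^ 2 ^ j = 1 from Subtype.ext hj, map_one])
    have h2 : orderOf (π ⟨w, hwc⟩) ∣ Nat.card ↥D := by
      rw [heq]
      exact (orderOf_map_dvd π _).trans
        ((dvd_of_eq (Subgroup.orderOf_mk d hdS)).trans (Subgroup.orderOf_dvd_natCard _ hd))
    have h3 := Nat.eq_one_of_dvd_coprimes (Nat.Coprime.pow_left j (Nat.coprime_two_left.2 hodd)) h1 h2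
    exact Subgroup.mem_subgroupOf.1 ((QuotientGroup.eq_one_iff _).1 (orderOf_eq_one_iff.1 h3))
  rw [← Subgroup.mem_centralizer_iff.1 (hTC hg) t htE, mul_inv_cancel_right]

/-- **The point stabiliser of a minimal configuration is solvable.** -/
theorem min_solvable (G : Type u) [Group G] [Finite G] (H : Subgroup G) (hM : Min H) :
    Group.IsSolvable H := by
  obtain ⟨hIF, hFR⟩ := good_all G H hM
  obtain ⟨a, hca⟩ := hM.exists_ne' (QuotientGroup.mk 1 : G ⧸ H)
  set c := (QuotientGroup.mk 1 : G ⧸ H)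
  suffices hsol : Group.IsSolvable ↥(St c) by
    rwa [show St c = H from St_base] at hsol
  by_cases hne : D1 c a = ⊥
  · exact hM.solvable_of_D1_bot hIF hFR hca hne
  exfalso
  obtain ⟨t, ht, htc⟩ := exists_invol hM.hse c
  refine hM.false_of_commAt hIF hFR hca hne ht htc fun s s' hs hs' hsc hs'c => ?_
  by_cases hU : ∀ f ∈ FD c a, Commute f t → f = 1
  · exact commAt_of_free hM hIF hFR hca hne ht htc hU s s' hs hs' hsc hs'c
  · push Not at hU
    obtain ⟨f, hf, hft, hf1⟩ := hU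
    exact commAt_of_fixed hM hIF hFR hca hne ht htc hf hf1 hft s s' hs hs' hsc hs'c

/-- A strongly embedded subgroup with several classes of involutions is solvable. -/
theorem sol_all : ∀ (G : Type u) [Group G] [Finite G], Sol G := sol_all_of min_solvable

end Cfsg.Agent.SEB
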