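import Cfsg.Agent.Lib.Bender.Solvable.Centr

/-!
# Solvability of a strongly embedded subgroup: the regular `2`-group of a centraliser

A proper subgroup with two commuting involutions at `c` has a normal regular `2`-group in its
stabiliser of `c`, in whose centre these involutions lie.
-/

set_option autoImplicit false
set_option linter.style.haveILetI false
set_option linter.unusedSectionVars false

open scoped Pointwise

namespace Cfsg.Agent.SEB

open Cfsg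
open Cfsg.Agent.Fusion (SylIn cj)
open Cfsg.Agent.Fusion.SEPairs

universe u

variable {G : Type u} [Group G] [Finite G] {H : Subgroup G}

theorem odd_two_pow {X : Type*} [Group X] {x : X} (hodd : Odd (orderOf x)) {j : ℕ} (hj : x ^ 2 ^ j = 1) :
    orderOf x = 1 :=
  Nat.dvd_one.1 ((Nat.Coprime.pow_left j (Nat.coprime_two_left.2 hodd)) ▸
    Nat.dvd_gcd (orderOf_dvd_of_pow_eq_one hj) dvd_rfl)

/-- The subgroup generated by the `2`-elements of `M` fixing `c`. -/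
def TwoGen (M : Subgroup G) (c : G ⧸ H) : Subgroup G :=
  Subgroup.closure {g : G | g ∈ M ∧ g • c = c ∧ ∃ j : ℕ, g ^ 2 ^ j = 1}

theorem TwoGen_le (M : Subgroup G) (c : G ⧸ H) : TwoGen M c ≤ M ⊓ St c :=
  (Subgroup.closure_le _).2 fun _ hg => ⟨hg.1, hg.2.1⟩

theorem mem_TwoGen {M : Subgroup G} {c : G ⧸ H} {g : G} (hg : g ∈ M) (hgc : g • c = c) {j : ℕ}
    (hj : g ^ 2 ^ j = 1) : g ∈ TwoGen M c :=
  Subgroup.subset_closure ⟨hg, hgc, j, hj⟩

theorem invol_mem_TwoGen {M : Subgroup G} {c : G ⧸ H} {g : G} (hg : g ∈ M) (hgc : g • c = c)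
    (h2 : orderOf g = 2) : g ∈ TwoGen M c :=
  mem_TwoGen hg hgc (j := 1) (by rw [pow_one, pow_two]; exact sq_one h2)

theorem TwoGen_normalizer {M : Subgroup G} {c : G ⧸ H} {g : G}
    (hg : g ∈ Subgroup.normalizer (M : Set G)) (hgc : g • c = c) :
    g ∈ Subgroup.normalizer (TwoGen M c : Set G) := by
  refine Fusion.mem_normalizer_of_cj_le ?_
  rw [TwoGen, Fusion.cj, MonoidHom.map_closure, Subgroup.closure_le]
  rintro _ ⟨x, ⟨hxM, hxc, j, hj⟩, rfl⟩
  refine Subgroup.subset_closure ⟨Solv.conj_mem_of_mem_normalizer hg hxM, ?_, j, ?_⟩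
  · show (g * x * g⁻¹) • c = c
    rw [mul_smul, mul_smul, inv_smul_eq_iff.2 hgc.symm, hxc, hgc]
  · show (g * x * g⁻¹) ^ 2 ^ j = 1
    rw [conj_pow, hj, mul_one, mul_inv_cancel]

theorem TwoGen_mono {M N : Subgroup G} (h : M ≤ N) (c : G ⧸ H) : TwoGen M c ≤ TwoGen N c :=
  Subgroup.closure_mono fun _ hg => ⟨h hg.1, hg.2.1, hg.2.2⟩

/-- The stabiliser of `c` in `M` has a `2`-group transitive on the other points of `S`, and the
involutions of `M` at `c` are central in it. -/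
structure SplitOn (M : Subgroup G) (c : G ⧸ H) (S : Set (G ⧸ H)) : Prop where
  two : IsPGroup 2 ↥(TwoGen M c)
  trans : ∀ e ∈ S, ∀ e' ∈ S, e ≠ c → e' ≠ c → ∃ q ∈ TwoGen M c, q • e = e'
  central : ∀ s ∈ M, orderOf s = 2 → s • c = c → ∀ q ∈ TwoGen M c, Commute s q

/-- The centraliser of `X` splits at `c`. -/
abbrev Split (X : Subgroup G) (c : G ⧸ H) : Prop :=
  SplitOn (Subgroup.centralizer (X : Set G)) c (Bender.fixSet H X)

theorem SplitOn.eq_one (hse : Cfsg.IsStronglyEmbedded H) {M : Subgroup G} {c : G ⧸ H}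
    {S : Set (G ⧸ H)} (h : SplitOn M c S) {q : G} (hq : q ∈ TwoGen M c) {e : G ⧸ H} (hec : e ≠ c)
    (hqe : q • e = e) : q = 1 := by
  obtain ⟨j, hj⟩ := h.two ⟨q, hq⟩
  exact orderOf_eq_one_iff.1 (odd_two_pow ((St2_odd hse hec.symm).of_dvd_nat
    (Subgroup.orderOf_dvd_natCard _ (⟨(TwoGen_le M c hq).2, hqe⟩ : q ∈ St2 c e))) (congrArg Subtype.val hj))

theorem SplitOn.eq_of_smul (hse : Cfsg.IsStronglyEmbedded H) {M : Subgroup G} {c : G ⧸ H}
    {S : Set (G ⧸ H)} (h : SplitOn M c S) {q q' : G} (hq : q ∈ TwoGen M c) (hq' : q' ∈ TwoGen M c)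
    {e : G ⧸ H} (hec : e ≠ c) (hqe : q • e = q' • e) : q = q' :=
  inv_mul_eq_one.1 (h.eq_one hse (mul_mem (inv_mem hq) hq') hec
    (by rw [mul_smul, ← hqe, inv_smul_smul]))

/-- A `2`-element fixing the point of a rank one setup lies in the regular subgroup. -/
theorem two_mem_regular {X Ω : Type*} [Group X] [Finite X] [MulAction X Ω] {a : Ω} {t : X} {Q : Subgroup X}
    (hS : Cfsg.IsRankOneSetup X Ω a t Q) {x : X} (hx : x • a = a) {j : ℕ} (hj : x ^ 2 ^ j = 1) : x ∈ Q := by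
  set D' := MulAction.stabilizer X a ⊓ MulAction.stabilizer X (t • a) with hD'
  set A := MulAction.stabilizer X a
  have hQn : A ≤ Subgroup.normalizer (Q : Set X) := fun h hh => Fusion.mem_normalizer_of_cj_le (by
    rintro _ ⟨y, hy, rfl⟩
    exact hS.conj_mem h hh y hy)
  haveI hn : (Q.subgroupOf A).Normal := Subgroup.normal_subgroupOf_of_le_normalizer hQn
  have hmul := Solv.card_sup_mul_card_inf' Q D' (inf_le_left.trans hQn)
  have hsup : Q ⊔ D' = A := hS.sup_eq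
  have hinf : Nat.card ↥(Q ⊓ D') = 1 := by
    rw [Subgroup.card_eq_one, eq_bot_iff]
    intro y hy
    have := hS.inf_eq_bot.le (show y ∈ Q ⊓ MulAction.stabilizer X (t • a) from ⟨hy.1, hy.2.2⟩)
    exact this
  rw [hsup, hinf, mul_one] at hmul
  have hidx : (Q.subgroupOf A).index = Nat.card D' := by
    have h1 := (Q.subgroupOf A).card_mul_index
    rw [Solv.card_subgroupOf hS.le, hmul] at h1
    exact Nat.eq_of_mul_eq_mul_left Nat.card_pos h1
  obtain ⟨k, hk⟩ := hS.odd_card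
  have hpow : (⟨x, hx⟩ : A) ^ (2 * k + 1) ∈ Q.subgroupOf A := by
    rw [← QuotientGroup.eq_one_iff, QuotientGroup.mk_pow, ← hk]
    refine orderOf_dvd_iff_pow_eq_one.1 ((orderOf_dvd_natCard _).trans ?_)
    rw [← Subgroup.index_eq_card, hidx]
  obtain ⟨m, hm⟩ := exists_pow_eq_self_of_coprime (x := x)
    (show (2 * k + 1).Coprime (orderOf x) from Nat.Coprime.coprime_dvd_right
      (orderOf_dvd_of_pow_eq_one hj) (Nat.Coprime.pow_right _ (Nat.coprime_two_left.2 ⟨k, rfl⟩).symm))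
  rw [← hm]
  exact pow_mem (by simpa [Subgroup.mem_subgroupOf] using hpow) m

/-- Generators of `2`-power order with a central odd kernel generate a `2`-group. -/
theorem two_group_of_central {M : Subgroup G} {c : G ⧸ H} {K0 : Subgroup G} (hodd : Odd (Nat.card K0))
    (hpow : ∀ g ∈ TwoGen M c, ∃ l : ℕ, g ^ 2 ^ l ∈ K0)
    (hTC : TwoGen M c ≤ Subgroup.centralizer (K0 : Set G)) : IsPGroup 2 ↥(TwoGen M c) := by
  haveI : Fact (Nat.Prime 2) := ⟨Nat.prime_two⟩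
  set T := TwoGen M c with hTdef
  have hq : IsPGroup 2 (↥T ⧸ Subgroup.center ↥T) := by
    intro y
    obtain ⟨⟨g, hg⟩, rfl⟩ := QuotientGroup.mk_surjective y
    obtain ⟨l, hl⟩ := hpow g hg
    refine ⟨l, ?_⟩
    rw [← QuotientGroup.mk_pow, QuotientGroup.eq_one_iff, Subgroup.mem_center_iff]
    exact fun z => Subtype.ext (Subgroup.mem_centralizer_iff.1 (hTC z.2) _ hl).symm
  obtain ⟨k, hk⟩ := IsPGroup.iff_card.1 hq
  rw [← Subgroup.index_eq_card] at hk
  let P : Subgroup ↥(Subgroup.center ↥T) :=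
    { carrier := {z | ∃ l : ℕ, z ^ 2 ^ l = 1}
      one_mem' := ⟨0, by simp⟩
      mul_mem' := by
        rintro a b ⟨l, hl⟩ ⟨l', hl'⟩
        have hab : Commute a b := Subtype.ext (Subgroup.mem_center_iff.1 b.2 a)
        exact ⟨l + l', by rw [hab.mul_pow, pow_add, pow_mul, hl, one_pow, one_mul,
          mul_comm (2 ^ l) (2 ^ l'), pow_mul, hl', one_pow]⟩
      inv_mem' := by
        rintro a ⟨l, hl⟩
        exact ⟨l, by rw [inv_pow, hl, inv_one]⟩ }
  have hφ : ∀ x : ↥T, ((MonoidHom.transferCenterPow ↥T x : ↥T) : G) = (x : G) ^ 2 ^ k := fun x => by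
    rw [MonoidHom.transferCenterPow_apply, hk]; rfl
  have hall : (⊤ : Subgroup ↥T) ≤ P.comap (MonoidHom.transferCenterPow ↥T) := by
    rintro ⟨x, hx⟩ -
    induction hx using Subgroup.closure_induction with
    | mem y hy =>
      obtain ⟨-, -, j, hj⟩ := hy
      refine ⟨j, Subtype.ext (Subtype.ext ?_)⟩
      rw [Subgroup.coe_pow, Subgroup.coe_pow, hφ, ← pow_mul, mul_comm, pow_mul, hj, one_pow]
      rfl
    | one => exact Subgroup.one_mem (Subgroup.comap _ P)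
    | mul y z hy hz iy iz => exact Subgroup.mul_mem (Subgroup.comap _ P) iy iz
    | inv y hy iy => exact Subgroup.inv_mem (Subgroup.comap _ P) iy
  rintro ⟨g, hg⟩
  obtain ⟨l, hl⟩ := hall (Subgroup.mem_top ⟨g, hg⟩)
  have h2 := congrArg (fun z : ↥(Subgroup.center ↥T) => ((z : ↥T) : G)) hl
  simp only [Subgroup.coe_pow, hφ, OneMemClass.coe_one] at h2
  exact ⟨k + l, Subtype.ext (show g ^ 2 ^ (k + l) = 1 by rw [pow_add, pow_mul, h2])⟩

namespace Min

variable (hM : Min H) (hIF : InvertFree H)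
include hM hIF

set_option maxHeartbeats 1000000 in
/-- The data of the faithful action of a proper subgroup with two commuting involutions. -/
theorem sub_kernel {M : Subgroup G} (hMt : M ≠ ⊤) {c : G ⧸ H} (h2 : Two M c)
    (hmove : ∃ g ∈ M, g • c ≠ c) :
    ∃ K0 : Subgroup G, Odd (Nat.card K0) ∧ (∀ s ∈ M, orderOf s = 2 → ∀ k ∈ K0, Commute s k) ∧
      (∀ g ∈ M, ∀ q ∈ M, g • c = c → q • c = c → (∃ j : ℕ, g ^ 2 ^ j = 1) → (∃ i : ℕ, q ^ 2 ^ i = 1) →
        ∀ e ∈ MulAction.orbit M c, e ≠ c → q • e = g • e → g * q⁻¹ ∈ K0) ∧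
      (∀ g ∈ TwoGen M c, ∃ l : ℕ, g ^ 2 ^ l ∈ K0) ∧
      ∀ s ∈ M, orderOf s = 2 → s • c = c → ∀ g ∈ TwoGen M c, s * g * s⁻¹ * g⁻¹ ∈ K0 := by
  classical
  haveI : Fact (Nat.Prime 2) := ⟨Nat.prime_two⟩
  have hse := hM.hse
  obtain ⟨u, -, hu, -, -, huc, -, -, huM, -⟩ := id h2
  set HM := (St c).subgroupOf M with hHM
  have hseM : Cfsg.IsStronglyEmbedded HM := hM.sub_se hMt h2 hmove
  have hsolM : Group.IsSolvable ↥HM := hM.sub_solvable hMt h2 hmove
  have hmM : mbar ↥HM ≠ 1 := mbar_ne_one_of_two hse h2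
  set N := HM.normalCore with hN
  set π := QuotientGroup.mk' N with hπ
  set H' := HM.map π with hH'
  have hNodd : Odd (Nat.card N) := normalCore_odd hseM
  have hker : π.ker = N := QuotientGroup.ker_mk' N
  have hcomap : H'.comap π = HM := by
    rw [hH', Subgroup.comap_map_eq, hker, sup_eq_left.2 HM.normalCore_le]
  have hse' := se_map_odd hseM N HM.normalCore_le hNodd
  have hsol' : Group.IsSolvable ↥H' := by
    haveI := hsolM
    exact Group.isSolvable_of_surjective (f := π.subgroupMap HM) (π.subgroupMap_surjective HM)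
  have hm' : mbar ↥H' ≠ 1 := by
    refine fun h => hmM (Eq.trans (mbar_of_surjective (π.subgroupMap HM) (π.subgroupMap_surjective HM) ?_) h)
    refine hNodd.of_dvd_nat ?_
    rw [← Nat.card_congr ((π.subgroupMap HM).ker.equivMapOfInjective HM.subtype HM.subtype_injective).symm.toEquiv]
    refine Subgroup.card_dvd_of_le ?_
    rintro _ ⟨x, hx, rfl⟩
    rw [← hker]
    exact congrArg Subtype.val (MonoidHom.mem_ker.1 hx)
  have hN' : H'.normalCore = ⊥ := by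
    rw [eq_bot_iff]
    intro y hy
    obtain ⟨x, rfl⟩ := QuotientGroup.mk'_surjective N y
    haveI : (H'.normalCore.comap π).Normal := Subgroup.Normal.comap inferInstance π
    have hx : x ∈ N := Subgroup.normal_le_normalCore.2
      ((Subgroup.comap_mono H'.normalCore_le).trans hcomap.le) (Subgroup.mem_comap.2 hy)
    rw [Subgroup.mem_bot]
    exact (QuotientGroup.eq_one_iff x).2 hx
  obtain ⟨a', ha'⟩ := exists_ne hse' (QuotientGroup.mk 1 : (↥M ⧸ N) ⧸ H')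
  obtain ⟨τ, Q, hc, hQ2⟩ := ctx_of_solvable hse' hsol' hm' hN' (c := QuotientGroup.mk 1) ha'
  -- images of elements of the stabiliser
  have hfixc : ∀ g : ↥M, (g : G) • c = c → π g • (QuotientGroup.mk 1 : (↥M ⧸ N) ⧸ H') = QuotientGroup.mk 1 :=
    fun g hg => smul_mk_eq_iff.2 (by rw [inv_one, one_mul, mul_one]; exact ⟨g, hg, rfl⟩)
  -- `2`-elements land in `Q`
  have htwoQ : ∀ g : ↥M, (g : G) • c = c → ∀ j : ℕ, (g : G) ^ 2 ^ j = 1 → π g ∈ Q := fun g hg j hj =>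
    two_mem_regular hc.hS (hfixc g hg) (j := j) (by
      rw [← map_pow, show g ^ 2 ^ j = 1 from Subtype.ext ((Subgroup.coe_pow M g (2 ^ j)).trans hj),
        map_one])
  -- the kernel, centralised by the involutions
  set K0 := N.map M.subtype with hK0
  have hK0c : ∀ k ∈ K0, ∀ m ∈ M, k • m • c = m • c := by
    rintro _ ⟨k, hk, rfl⟩ m hm
    have hm' := HM.normalCore_le ((inferInstance : N.Normal).conj_mem k hk (⟨m, hm⟩⁻¹))
    rw [inv_inv] at hm'
    have h3 : ((m⁻¹ : G) * k * m) • c = c := hm'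
    rwa [mul_smul, mul_smul, inv_smul_eq_iff] at h3
  have hK0odd : Odd (Nat.card K0) := by
    rw [hK0, Subgroup.card_map_of_injective M.subtype_injective]; exact hNodd
  obtain ⟨g₀, hg₀, hg₀c⟩ := hmove
  have hcent : ∀ s ∈ M, orderOf s = 2 → ∀ k ∈ K0, Commute s k := by
    intro s hsM hs k hk
    obtain ⟨e, hse'⟩ := exists_fixed hse hs
    obtain ⟨g, hg, hgc, -⟩ := centre_in_orbit hse hu huc huM ⟨g₀, hg₀, hg₀c⟩ hs hse' hsM
    have hsn : s ∈ Subgroup.normalizer (K0 : Set G) := Fusion.mem_normalizer_of_cj_le (by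
      rintro _ ⟨_, ⟨x, hx, rfl⟩, rfl⟩
      exact ⟨⟨s, hsM⟩ * x * ⟨s, hsM⟩⁻¹, (inferInstance : N.Normal).conj_mem x hx _, rfl⟩)
    obtain ⟨w, hw, hwi, hwc⟩ := Lie.exists_decomp (X := K0) (sq_one hs)
      (fun x hx => by
        have := Solv.conj_mem_of_mem_normalizer hsn hx
        rwa [inv_self hs] at this) hK0odd hk
    obtain ⟨a, hae, haM⟩ : ∃ a, a ≠ e ∧ a ∈ MulAction.orbit M c := by
      by_cases hce : e = c
      · exact ⟨g₀ • c, hce ▸ hg₀c, ⟨g₀, hg₀⟩, rfl⟩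
      · exact ⟨c, fun h => hce h.symm, MulAction.mem_orbit_self c⟩
    obtain ⟨⟨ga, hga⟩, rfl⟩ := haM
    have hw1 : w = 1 := hIF e (ga • c) s w hs hse'
      (by rw [inv_self hs]; exact hwi)
      (hK0odd.of_dvd_nat (Subgroup.orderOf_dvd_natCard _ hw)) hae
      (by rw [← hgc]; exact hK0c w hw g hg) (hK0c w hw ga hga)
    subst hw1
    rw [inv_one, mul_one] at hwc
    show s * k = k * s
    calc s * k = s * k * (s * s) := by rw [sq_one hs, mul_one]
      _ = s * k * s * s := by group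
      _ = _ := by rw [hwc]
  have hT : ∀ (g : G) (hg : g ∈ TwoGen M c), π ⟨g, (TwoGen_le M c hg).1⟩ ∈ Q := by
    intro g hg
    have h : TwoGen M c ≤ (Q.comap π).map M.subtype :=
      (Subgroup.closure_le _).2 fun x ⟨hxM, hxc, j, hj⟩ => ⟨⟨x, hxM⟩, htwoQ ⟨x, hxM⟩ hxc j hj, rfl⟩
    obtain ⟨z, hz, hze⟩ := h hg
    have e : (⟨g, (TwoGen_le M c hg).1⟩ : ↥M) = z := Subtype.ext hze.symm
    rw [e]; exact hz
  refine ⟨K0, hK0odd, hcent, ?_, fun g hg => ?_, fun s hsM hs hsc g hg => ?_⟩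
  · rintro g hgM q hqM hgc hqc ⟨j, hj⟩ ⟨i, hi⟩ _ ⟨⟨ge, hge⟩, rfl⟩ hec hqe
    set g' : ↥M := ⟨g, hgM⟩ with hg'
    set q' : ↥M := ⟨q, hqM⟩ with hq'
    have hmem : (π q')⁻¹ * π g' ∈ Q := mul_mem (inv_mem (htwoQ q' hqc i hi)) (htwoQ g' hgc j hj)
    set e' : (↥M ⧸ N) ⧸ H' := QuotientGroup.mk (π ⟨ge, hge⟩) with he'
    have he'c : e' ≠ QuotientGroup.mk 1 := fun h => by
      rw [he', QuotientGroup.eq, mul_one, ← map_inv, ← Subgroup.mem_comap, hcomap] at h
      exact hec (inv_smul_eq_iff.1 (h : (ge⁻¹ : G) • c = c)).symm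
    have hfix' : ((π q')⁻¹ * π g') • e' = e' := by
      rw [he', ← map_inv, ← map_mul, smul_mk_eq_iff, ← map_inv, ← map_mul, ← map_mul,
        ← Subgroup.mem_comap, hcomap]
      show ((ge⁻¹ : G) * (q⁻¹ * g) * ge) • c = c
      rw [mul_smul, mul_smul, mul_smul]
      change ge⁻¹ • q⁻¹ • g • ge • c = c
      have hqe' : q • ge • c = g • ge • c := hqe
      rw [← hqe', inv_smul_smul, inv_smul_smul]
    have hone : π q' = π g' := by
      refine inv_mul_eq_one.1 (orderOf_eq_one_iff.1 ?_)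
      obtain ⟨i', hi'⟩ := hQ2 ⟨_, hmem⟩
      have hodd := (St2_odd hse' he'c.symm).of_dvd_nat
        (Subgroup.orderOf_dvd_natCard _ (show (π q')⁻¹ * π g' ∈ St2 (QuotientGroup.mk 1) e' from
          ⟨hc.hS.le hmem, hfix'⟩))
      exact odd_two_pow hodd (congrArg Subtype.val hi')
    refine ⟨g' * q'⁻¹, ?_, rfl⟩
    show _ ∈ N
    rw [← hker, MonoidHom.mem_ker, map_mul, map_inv, hone, mul_inv_cancel]
  · obtain ⟨l, hl⟩ := hQ2 ⟨_, hT g hg⟩
    refine ⟨l, ⟨⟨g, (TwoGen_le M c hg).1⟩ ^ 2 ^ l, ?_, rfl⟩⟩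
    show _ ∈ N
    rw [← hker, MonoidHom.mem_ker, map_pow]
    exact congrArg Subtype.val hl
  · set g' : ↥M := ⟨g, (TwoGen_le M c hg).1⟩ with hg'
    set s' : ↥M := ⟨s, hsM⟩ with hs'
    have h := hc.zg_central (hc.mem_zg_of_sq (hfixc s' hsc) (by
      rw [← map_mul, show s' * s' = 1 from Subtype.ext (sq_one hs), map_one])) (hT g hg)
    refine ⟨s' * g' * s'⁻¹ * g'⁻¹, ?_, rfl⟩
    show _ ∈ N
    rw [← hker, MonoidHom.mem_ker, map_mul, map_mul, map_mul, map_inv, map_inv, h, mul_inv_cancel_right,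
      mul_inv_cancel]

/-- The structure of the stabiliser in a proper subgroup with two commuting involutions at the point. -/
theorem sub_split {M : Subgroup G} (hMt : M ≠ ⊤) {c : G ⧸ H} (h2 : Two M c)
    (hmove : ∃ g ∈ M, g • c ≠ c) : SplitOn M c (MulAction.orbit M c) := by
  classical
  haveI : Fact (Nat.Prime 2) := ⟨Nat.prime_two⟩
  have hse := hM.hse
  obtain ⟨K0, hK0odd, hcent, hcongr, hpow, hcomm⟩ := hM.sub_kernel hIF hMt h2 hmove
  obtain ⟨u, u', hu, hu', huu', huc, hu'c, hcomu, huM, hu'M⟩ := id h2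
  obtain ⟨g₀, hg₀, hg₀c⟩ := hmove
  -- the part centralising the kernel is still transitive
  set M₁ := M ⊓ Subgroup.centralizer (K0 : Set G) with hM₁
  have hmemM₁ : ∀ s ∈ M, orderOf s = 2 → s ∈ M₁ := fun s hsM hs =>
    ⟨hsM, Subgroup.mem_centralizer_iff.2 fun k hk => (hcent s hsM hs k hk).eq.symm⟩
  have hinvAt : ∀ m ∈ M, ∃ w ∈ M₁, orderOf w = 2 ∧ w • m • c = m • c := fun m hm =>
    ⟨m * u * m⁻¹, hmemM₁ _ (mul_mem (mul_mem hm huM) (inv_mem hm)) (conj_involution hu m),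
      conj_involution hu m, by rw [mul_smul, mul_smul, inv_smul_smul, huc]⟩
  have h2₁ : Two M₁ c := ⟨u, u', hu, hu', huu', huc, hu'c, hcomu, hmemM₁ u huM hu, hmemM₁ u' hu'M hu'⟩
  have hmove₁ : ∃ g ∈ M₁, g • c ≠ c := by
    obtain ⟨w, hwM, hw, hwc⟩ := hinvAt g₀ hg₀
    exact ⟨w, hwM, fun h => hg₀c (fixed_unique hse hw hwc h)⟩
  have hM₁t : M₁ ≠ ⊤ := fun h => hMt (top_le_iff.1 (h ▸ inf_le_left))
  have horb₁ : ∀ e ∈ MulAction.orbit M c, e ∈ MulAction.orbit M₁ c := by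
    rintro _ ⟨⟨m, hm⟩, rfl⟩
    obtain ⟨w, hwM, hw, hwc⟩ := hinvAt m hm
    obtain ⟨g, hg, hgc, -⟩ := centre_in_orbit hse hu huc (hmemM₁ u huM hu) hmove₁ hw hwc hwM
    exact ⟨⟨g, hg⟩, hgc⟩
  have htrans : ∀ e ∈ MulAction.orbit M c, ∀ e' ∈ MulAction.orbit M c, e ≠ c → e' ≠ c →
      ∃ q, q ∈ M₁ ∧ q • c = c ∧ (∃ j : ℕ, q ^ 2 ^ j = 1) ∧ q • e = e' := fun e he e' he' hec he'c =>
    hM.sub_two_transitive hM₁t h2₁ hmove₁ hec (horb₁ e he) he'c (horb₁ e' he')
  have heO : g₀ • c ∈ MulAction.orbit M c := ⟨⟨g₀, hg₀⟩, rfl⟩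
  -- `2`-elements of the stabiliser centralise the kernel
  have htwoC : ∀ g ∈ M, g • c = c → ∀ j : ℕ, g ^ 2 ^ j = 1 → g ∈ Subgroup.centralizer (K0 : Set G) := by
    intro g hgM hgc j hj
    set e := g₀ • c with he
    have hgeO : g • e ∈ MulAction.orbit M c := ⟨⟨g * g₀, mul_mem hgM hg₀⟩, mul_smul g g₀ c⟩
    have hgec : g • e ≠ c := fun h => hg₀c (smul_left_cancel g (h.trans hgc.symm))
    obtain ⟨q, hqM, hqc, ⟨i, hi⟩, hqe⟩ := htrans e heO _ hgeO hg₀c hgec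
    have hk : g * q⁻¹ ∈ K0 := hcongr g hgM q hqM.1 hgc hqc ⟨j, hj⟩ ⟨i, hi⟩ e heO hg₀c hqe
    obtain ⟨k, hk', hgk⟩ : ∃ k ∈ K0, g = k * q := ⟨_, hk, by group⟩
    have hqC : q ∈ Subgroup.centralizer (K0 : Set G) := hqM.2
    have hcq : Commute k q := Subgroup.mem_centralizer_iff.1 hqC k hk'
    have hk1 : k ^ 2 ^ j ∈ Subgroup.centralizer (K0 : Set G) := by
      rw [hgk, hcq.mul_pow] at hj
      rw [eq_inv_of_mul_eq_one_left hj]
      exact inv_mem (pow_mem hqC _)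
    obtain ⟨l, hl⟩ := (hK0odd.of_dvd_nat (Subgroup.orderOf_dvd_natCard _ hk'))
    obtain ⟨m, hm⟩ := exists_pow_eq_self_of_coprime
      (show (2 ^ j).Coprime (orderOf k) from Nat.Coprime.pow_left _ (Nat.coprime_two_left.2 ⟨l, hl⟩))
    rw [hgk]
    exact mul_mem (hm ▸ pow_mem hk1 m) hqC
  have hTC : TwoGen M c ≤ Subgroup.centralizer (K0 : Set G) :=
    (Subgroup.closure_le _).2 fun g ⟨hgM, hgc, j, hj⟩ => htwoC g hgM hgc j hj
  -- so they generate a `2`-group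
  have h2T : IsPGroup 2 ↥(TwoGen M c) := two_group_of_central hK0odd hpow hTC
  refine ⟨h2T, fun e he e' he' hec he'c => ?_, fun s hsM hs hsc q hq => ?_⟩
  · obtain ⟨q, hqM, hqc, ⟨j, hj⟩, hqe⟩ := htrans e he e' he' hec he'c
    exact ⟨q, mem_TwoGen hqM.1 hqc hj, hqe⟩
  · have hsT := invol_mem_TwoGen hsM hsc hs
    have hk := hcomm s hsM hs hsc q hq
    have hmem : s * q * s⁻¹ * q⁻¹ ∈ TwoGen M c :=
      mul_mem (mul_mem (mul_mem hsT hq) (inv_mem hsT)) (inv_mem hq)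
    obtain ⟨i, hi⟩ := h2T ⟨_, hmem⟩
    have h1 := odd_two_pow (hK0odd.of_dvd_nat (Subgroup.orderOf_dvd_natCard _ hk)) (congrArg Subtype.val hi)
    rw [orderOf_eq_one_iff, mul_inv_eq_one, mul_inv_eq_iff_eq_mul] at h1
    exact h1

end Min

end Cfsg.Agent.SEB
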