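import Cfsg.Agent.Lib.Bender.Solvable.Pre
import Cfsg.Agent.Lib.Char.ZStar
import Cfsg.Agent.Lib.Fusion.IsolatedInvolution

/-!
# Solvability of a strongly embedded subgroup: subgroups moving the centre of an involution

Such a subgroup with two commuting involutions at a point has solvable point stabilisers, transitive
on the other points of the orbit by a `2`-group; one without is an odd normal subgroup times the
centraliser of an involution.
-/

set_option autoImplicit false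
set_option linter.style.haveILetI false
set_option linter.unusedSectionVars false

open scoped Pointwise

namespace Cfsg.Agent.SEB

open Cfsg
open Cfsg.Agent.Fusion (SylIn cj)
open Cfsg.Agent.Fusion.SEPairs

universe u

variable {G : Type u} [Group G] [Finite G] {H : Subgroup G}

/-- `M` contains two commuting involutions fixing `c`. -/
def Two (M : Subgroup G) (c : G ⧸ H) : Prop :=
  ∃ s t : G, orderOf s = 2 ∧ orderOf t = 2 ∧ s ≠ t ∧ s • c = c ∧ t • c = c ∧ Commute s t ∧ s ∈ M ∧ t ∈ M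

omit [Finite G] in
theorem Two.mono {M N : Subgroup G} {c : G ⧸ H} (h : Two M c) (hle : M ≤ N) : Two N c := by
  obtain ⟨s, t, hs, ht, hne, hsc, htc, hst, hsM, htM⟩ := h
  exact ⟨s, t, hs, ht, hne, hsc, htc, hst, hle hsM, hle htM⟩

omit [Finite G] in
theorem Two.smul {M : Subgroup G} {c : G ⧸ H} (h : Two M c) {g : G} (hg : g ∈ M) : Two M (g • c) := by
  obtain ⟨s, t, hs, ht, hne, hsc, htc, hst, hsM, htM⟩ := h
  refine ⟨g * s * g⁻¹, g * t * g⁻¹, conj_involution hs g, conj_involution ht g, fun e => hne ?_,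
    by rw [mul_smul, mul_smul, inv_smul_smul, hsc], by rw [mul_smul, mul_smul, inv_smul_smul, htc],
    (Commute.conj_iff g).2 hst, mul_mem (mul_mem hg hsM) (inv_mem hg),
    mul_mem (mul_mem hg htM) (inv_mem hg)⟩
  exact mul_left_cancel (mul_right_cancel e)

/-- The largest odd normal subgroup of `M`, inside `G`. -/
def OO (M : Subgroup G) : Subgroup G := (oddCore ↥M).map M.subtype

theorem OO_le (M : Subgroup G) : OO M ≤ M := Subgroup.map_subtype_le _

theorem OO_odd (M : Subgroup G) : Odd (Nat.card ↥(OO M)) := by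
  rw [OO, Subgroup.card_map_of_injective M.subtype_injective]
  exact Char.card_oddCore_odd _

theorem OO_normalizer {M : Subgroup G} {g : G} (hg : g ∈ Subgroup.normalizer (M : Set G)) :
    g ∈ Subgroup.normalizer (OO M : Set G) := by
  refine Fusion.mem_normalizer_of_cj_le ?_
  rintro _ ⟨_, ⟨y, hy, rfl⟩, rfl⟩
  let σ : MulAut ↥M := Subgroup.normalizerMonoidHom M ⟨g, hg⟩
  haveI : (oddCore ↥M).Characteristic := Fusion.pPrimeCore_characteristic
  refine ⟨σ y, ?_, rfl⟩
  rw [← (inferInstance : (oddCore ↥M).Characteristic).fixed σ] at hy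
  exact hy

variable (hse : Cfsg.IsStronglyEmbedded H)
include hse

theorem mbar_ne_one_of_two {M : Subgroup G} {c : G ⧸ H} (h : Two M c) :
    mbar ↥((St c).subgroupOf M) ≠ 1 := by
  obtain ⟨s, t, hs, ht, hne, hsc, htc, hst, hsM, htM⟩ := h
  intro h1
  let s' : ↥((St c).subgroupOf M) := ⟨⟨s, hsM⟩, hsc⟩
  let t' : ↥((St c).subgroupOf M) := ⟨⟨t, htM⟩, htc⟩
  have hs' : orderOf s' = 2 := by rw [← Subgroup.orderOf_coe, ← Subgroup.orderOf_coe]; exact hs
  have ht' : orderOf t' = 2 := by rw [← Subgroup.orderOf_coe, ← Subgroup.orderOf_coe]; exact ht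
  have hcls : cls (X := ↥((St c).subgroupOf M)) ⟨s', hs'⟩ = cls ⟨t', ht'⟩ := by
    haveI := (Nat.card_eq_one_iff_unique.1 h1).1
    exact congrArg Subtype.val (Subsingleton.elim (α := Set.range (cls (X := ↥((St c).subgroupOf M))))
      ⟨_, ⟨s', hs'⟩, rfl⟩ ⟨_, ⟨t', ht'⟩, rfl⟩)
  have hmem := (cls_eq_iff _ _).1 hcls
  have hord : orderOf (s' * t') = 2 := by
    rw [← Subgroup.orderOf_coe, ← Subgroup.orderOf_coe]
    show orderOf (s * t) = 2
    refine orderOf_eq_prime (by rw [hst.mul_pow, pow_two, pow_two, sq_one hs, sq_one ht, one_mul]) fun e => hne ?_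
    exact (eq_inv_of_mul_eq_one_left e).trans (inv_self ht)
  exact even_of_invol_mem hord hmem (card_oddCore_odd' _)

/-- An involution of `M` has its centre in the orbit of that of another. -/
theorem centre_in_orbit {M : Subgroup G} {c e : G ⧸ H} {u w : G} (hu : orderOf u = 2) (huc : u • c = c)
    (huM : u ∈ M) (hmove : ∃ g ∈ M, g • c ≠ c) (hw : orderOf w = 2) (hwe : w • e = e) (hwM : w ∈ M) :
    ∃ g ∈ M, g • c = e ∧ g * u * g⁻¹ = w := by
  obtain ⟨g, hg, hgw⟩ := conj_in hse hu huc huM hmove hw hwM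
  refine ⟨g, hg, fixed_unique hse hw ?_ hwe, hgw⟩
  rw [← hgw, mul_smul, mul_smul, inv_smul_smul, huc]

omit hse

namespace Min

variable (hM : Min H) {M : Subgroup G} (hMt : M ≠ ⊤) {c : G ⧸ H} (h2 : Two M c)
  (hmove : ∃ g ∈ M, g • c ≠ c)
include hM hMt h2 hmove

theorem sub_se : Cfsg.IsStronglyEmbedded ((St c).subgroupOf M) := by
  obtain ⟨s, -, hs, -, -, hsc, -, -, hsM, -⟩ := h2
  exact se_sub hM.hse hs hsc hsM hmove

/-- The point stabiliser in such a subgroup is solvable. -/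
theorem sub_solvable : Group.IsSolvable ↥((St c).subgroupOf M) :=
  hM.IH M hMt _ (hM.sub_se hMt h2 hmove) (mbar_ne_one_of_two hM.hse h2)

theorem inf_St_solvable : Group.IsSolvable ↥(M ⊓ St c) := by
  haveI := hM.sub_solvable hMt h2 hmove
  let f : ↥(M ⊓ St c) →* ↥((St c).subgroupOf M) :=
    { toFun := fun x => ⟨⟨x, x.2.1⟩, x.2.2⟩
      map_one' := rfl
      map_mul' := fun _ _ => rfl }
  exact Group.isSolvable_of_isSolvable_injective (f := f) fun x y h =>
    Subtype.ext (congrArg (fun z : ↥((St c).subgroupOf M) => ((z : ↥M) : G)) h)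

/-- The orbit has `2 ^ f + 1` points. -/
theorem sub_card_orbit : ∃ f : ℕ, (MulAction.orbit M c).ncard = 2 ^ f + 1 := by
  obtain ⟨f, hf⟩ := hM.idx c M hMt (hM.sub_se hMt h2 hmove) (mbar_ne_one_of_two hM.hse h2)
  refine ⟨f, ?_⟩
  rw [ncard_orbit_sub, Subgroup.inf_relIndex_left]
  exact hf

/-- A `2`-subgroup of the stabiliser is transitive on the other points of the orbit. -/
theorem sub_two_transitive {a e : G ⧸ H} (hca : a ≠ c) (ha : a ∈ MulAction.orbit M c) (hce : e ≠ c)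
    (he : e ∈ MulAction.orbit M c) :
    ∃ s ∈ M, s • c = c ∧ (∃ j : ℕ, s ^ 2 ^ j = 1) ∧ s • a = e := by
  classical
  obtain ⟨u, -, hu, -, -, huc, -, -, huM, -⟩ := id h2
  have hmb := mbar_ne_one_of_two hM.hse h2
  obtain ⟨f, hf⟩ := hM.sub_card_orbit hMt h2 hmove
  obtain ⟨⟨g₁, hg₁⟩, hg₁a⟩ := ha
  obtain ⟨⟨g₂, hg₂⟩, hg₂e⟩ := he
  change g₁ • c = a at hg₁a
  change g₂ • c = e at hg₂e
  have hg₁c : g₁ • c ≠ c := by rw [hg₁a]; exact hca
  have hg₂c : g₂ • c ≠ c := by rw [hg₂e]; exact hce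
  set A := M ⊓ St c with hA
  set B := M ⊓ St2 c a with hB
  have hBA : B ≤ A := inf_le_inf_left _ inf_le_left
  have hrel : B.relIndex A = 2 ^ f := by
    have h := (sub_orbit hM.hse hu huc huM hmove hmb hg₁ hg₁ hg₁c hg₁c).2
    rw [hg₁a] at h
    rw [ncard_orbit_sub, Subgroup.inf_relIndex_left] at hf
    exact Nat.succ_injective (h.trans hf)
  obtain ⟨S₀⟩ : Nonempty (Sylow 2 ↥A) := inferInstance
  set S : Subgroup G := (S₀ : Subgroup ↥A).map A.subtype with hS
  have hSA : S ≤ A := Subgroup.map_subtype_le _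
  have hSodd : ¬ 2 ∣ S.relIndex A := by
    haveI : Fact (Nat.Prime 2) := ⟨Nat.prime_two⟩
    rw [Subgroup.relIndex, hS, Subgroup.subgroupOf,
      Subgroup.comap_map_eq_self_of_injective A.subtype_injective]
    exact S₀.not_dvd_index
  have hdvd : 2 ^ f ∣ (B ⊓ S).relIndex S := by
    have h1 := Subgroup.relIndex_mul_relIndex (B ⊓ S) S A inf_le_right hSA
    have h3 := Subgroup.relIndex_mul_relIndex (B ⊓ S) B A inf_le_left hBA
    refine (Nat.Coprime.pow_left f ((Nat.Prime.coprime_iff_not_dvd Nat.prime_two).2 hSodd)).dvd_of_dvd_mul_right ?_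
    rw [h1, ← h3, hrel]
    exact Dvd.intro_left _ rfl
  have hBS : B ⊓ S = S ⊓ St a := by
    ext g
    refine ⟨fun h => ⟨h.2, h.1.2.2⟩, fun h => ⟨⟨(hSA h.1).1, (hSA h.1).2, h.2⟩, h.1⟩⟩
  have hsub : MulAction.orbit S a ⊆ MulAction.orbit A a := by
    rintro _ ⟨s, rfl⟩
    exact ⟨⟨s, hSA s.2⟩, rfl⟩
  have hAB : A ⊓ St a = B := by
    ext g
    exact ⟨fun h => ⟨h.1.1, h.1.2, h.2⟩, fun h => ⟨⟨h.1, h.2.1⟩, h.2.2⟩⟩
  have heq : MulAction.orbit S a = MulAction.orbit A a := by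
    refine Set.eq_of_subset_of_ncard_le hsub ?_ (Set.toFinite _)
    rw [ncard_orbit_sub, ncard_orbit_sub, hAB, hrel, ← hBS]
    refine Nat.le_of_dvd (Nat.pos_of_ne_zero fun h => ?_) hdvd
    exact Subgroup.index_ne_zero_of_finite h
  obtain ⟨k, hk, hka⟩ := (sub_orbit hM.hse hu huc huM hmove hmb hg₁ hg₂ hg₁c hg₂c).1
  rw [hg₁a, hg₂e] at hka
  obtain ⟨⟨s, hs⟩, hsa⟩ : e ∈ MulAction.orbit S a := heq ▸ ⟨⟨k, hk⟩, hka⟩
  obtain ⟨j, hj⟩ := S₀.isPGroup'.map A.subtype ⟨s, hs⟩
  exact ⟨s, (hSA hs).1, (hSA hs).2, ⟨j, congrArg Subtype.val hj⟩, hsa⟩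

end Min

/-- An involution normalising `M` and transitivity of a point stabiliser: it lies in `M`. -/
theorem mem_of_normalize_fix (hse : Cfsg.IsStronglyEmbedded H) {M : Subgroup G} {c a e : G ⧸ H} {v k : G}
    (hv : orderOf v = 2) (hvc : v • c = c) (hvM : v ∈ Subgroup.normalizer (M : Set G)) (hk : k ∈ M)
    (hkc : k • c = c) (hca : a ≠ c) (hka : k • a = e) (hve : v • a = e) : v ∈ M := by
  have hg : k⁻¹ * v ∈ St2 c a :=
    ⟨by show (k⁻¹ * v) • c = c; rw [mul_smul, hvc, inv_smul_eq_iff, hkc],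
      by show (k⁻¹ * v) • a = a; rw [mul_smul, hve, inv_smul_eq_iff, hka]⟩
  set g := k⁻¹ * v with hgdef
  have hodd : Odd (orderOf g) :=
    (St2_odd hse hca.symm).of_dvd_nat (Subgroup.orderOf_dvd_natCard _ hg)
  have hg2 : g ^ 2 ∈ M := by
    rw [pow_two, show g * g = k⁻¹ * (v * k⁻¹ * v⁻¹) * (v * v) by rw [hgdef]; group, sq_one hv, mul_one]
    exact mul_mem (inv_mem hk) (Solv.conj_mem_of_mem_normalizer hvM (inv_mem hk))
  obtain ⟨j, hj⟩ := hodd
  have hgM : g ∈ M := by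
    have h1 : g = (g ^ 2) ^ (j + 1) := by
      rw [← pow_mul, show 2 * (j + 1) = (2 * j + 1) + 1 by omega, pow_succ, ← hj, pow_orderOf_eq_one,
        one_mul]
    rw [h1]
    exact pow_mem hg2 _
  have := mul_mem hk hgM
  rwa [hgdef, mul_inv_cancel_left] at this

section rankOne

variable (hse : Cfsg.IsStronglyEmbedded H) {M : Subgroup G} {c : G ⧸ H} {u : G} (hu : orderOf u = 2)
  (huc : u • c = c) (huM : u ∈ M) (hmove : ∃ g ∈ M, g • c ≠ c) (h1 : ¬ Two M c)
include hse hu huc huM hmove h1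

/-- Without two commuting involutions at the centre there are none at all. -/
theorem eq_of_commute_rankOne {s t : G} (hs : orderOf s = 2) (ht : orderOf t = 2) (hsM : s ∈ M)
    (htM : t ∈ M) (hst : Commute s t) : s = t := by
  by_contra hne
  obtain ⟨e, hse'⟩ := exists_fixed hse hs
  have hte : t • e = e :=
    fixed_unique hse hs (by rw [smul_smul, hst.eq, ← smul_smul, hse']) hse'
  obtain ⟨g, hg, hgc, -⟩ := centre_in_orbit hse hu huc huM hmove hs hse' hsM
  have h2 : Two M e := ⟨s, t, hs, ht, hne, hse', hte, hst, hsM, htM⟩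
  have h3 := h2.smul (inv_mem hg)
  rw [← hgc, inv_smul_smul] at h3
  exact h1 h3

theorem isolated_rankOne {s : G} (hs : orderOf s = 2) (hsM : s ∈ M) :
    Cfsg.IsIsolatedInvolution (⟨s, hsM⟩ : M) := by
  refine ⟨by rw [Subgroup.orderOf_mk, hs], fun g hg => Subtype.ext ?_⟩
  exact eq_of_commute_rankOne hse hu huc huM hmove h1 (conj_involution hs _) hs
    (mul_mem (mul_mem g.2 hsM) (inv_mem g.2)) hsM (congrArg Subtype.val hg.eq).symm

/-- Conjugation by an element of `M` differs by one of the odd core from the identity on `u`. -/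
theorem conj_mem_OO {s : G} (hs : orderOf s = 2) (hsM : s ∈ M) {g : G} (hg : g ∈ M) :
    s * g * s⁻¹ * g⁻¹ ∈ OO M :=
  ⟨_, Char.zStar_isolated (isolated_rankOne hse hu huc huM hmove h1 hs hsM) ⟨g, hg⟩, rfl⟩

/-- `M` is its odd core times the centraliser of `u`. -/
theorem exists_mul_centralizer {g : G} (hg : g ∈ M) :
    ∃ k ∈ OO M, Commute (k⁻¹ * g) u := by
  set z : M := ⟨u, huM⟩
  have hiso := isolated_rankOne hse hu huc huM hmove h1 hu huM
  obtain ⟨s, hs, hsc⟩ := Fusion.isolated_exists_zpowers hiso (⟨g, hg⟩ : M)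
  have hsO : s ∈ oddCore ↥M := by
    refine (Subgroup.zpowers_le.2 ?_) hs
    rw [show z * (⟨g, hg⟩ * z * (⟨g, hg⟩ : M)⁻¹) = z * ⟨g, hg⟩ * z⁻¹ * (⟨g, hg⟩ : M)⁻¹ by
      rw [show z⁻¹ = z from inv_eq_of_mul_eq_one_right (Subtype.ext (sq_one hu))]; group]
    exact Char.zStar_isolated hiso _
  refine ⟨((s⁻¹ : M) : G), ⟨_, inv_mem hsO, rfl⟩, ?_⟩
  have h2 : (s : G) * (g * u * g⁻¹) * (s : G)⁻¹ = u := congrArg Subtype.val hsc
  rw [Subgroup.coe_inv, inv_inv]
  show (s : G) * g * u = u * ((s : G) * g)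
  nth_rewrite 2 [← h2]
  group

/-- The odd core is transitive on the orbit of the centre. -/
theorem exists_OO_smul {e : G ⧸ H} (he : e ∈ MulAction.orbit M c) : ∃ k ∈ OO M, k • c = e := by
  obtain ⟨⟨g, hg⟩, rfl⟩ := he
  obtain ⟨k, hk, hc⟩ := exists_mul_centralizer hse hu huc huM hmove h1 hg
  refine ⟨k, hk, ?_⟩
  have h2 : (k⁻¹ * g) • c = c :=
    fixed_unique hse hu (by rw [smul_smul, ← hc.eq, ← smul_smul, huc]) huc
  rw [mul_smul, inv_smul_eq_iff] at h2
  exact h2.symm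

/-- Some conjugate of `u` under the odd core moves `c` to a given point of the orbit. -/
theorem exists_OO_swapper {e : G ⧸ H} (he : e ∈ MulAction.orbit M c) :
    ∃ j ∈ OO M, u * j * u⁻¹ = j⁻¹ ∧ (j * u * j⁻¹) • c = e := by
  obtain ⟨k, hk, hke⟩ := exists_OO_smul hse hu huc huM hmove h1 he
  have hun : u ∈ Subgroup.normalizer (OO M : Set G) := OO_normalizer (Subgroup.le_normalizer huM)
  have hodd := OO_odd M
  obtain ⟨z, hz, hzi, hzc⟩ := Lie.exists_decomp (X := OO M) (sq_one hu)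
    (fun x hx => by
      have := Solv.conj_mem_of_mem_normalizer hun hx
      rwa [inv_self hu] at this) hodd (inv_mem hk)
  obtain ⟨j, hj, hjk⟩ := Lie.exists_sqrt hodd (inv_mem hz)
  refine ⟨z⁻¹ ^ j, hjk, ?_, ?_⟩
  · rw [← conj_pow, show u * z⁻¹ * u⁻¹ = (u * z * u⁻¹)⁻¹ by group, inv_self hu, hzi]
    rw [inv_inv, ← inv_pow, inv_inv]
  · have hzi' : u * z⁻¹ ^ j * u = (z⁻¹ ^ j)⁻¹ := by
      have := conj_pow (i := j) (a := u) (b := z⁻¹)
      rw [inv_self hu] at this
      rw [← this, show u * z⁻¹ * u = (u * z * u)⁻¹ by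
        rw [mul_inv_rev, mul_inv_rev, inv_self hu, mul_assoc], hzi, inv_inv, ← inv_pow, inv_inv]
    have he' : z⁻¹ ^ j * u * (z⁻¹ ^ j)⁻¹ = z⁻¹ * u := by
      rw [← hzi']
      calc z⁻¹ ^ j * u * (u * z⁻¹ ^ j * u) = z⁻¹ ^ j * (u * u) * z⁻¹ ^ j * u := by group
        _ = _ := by rw [sq_one hu, mul_one, hj]
    rw [he', mul_smul, huc]
    have hyc : (k⁻¹ * z⁻¹) • c = c := by
      refine fixed_unique hse hu ?_ huc
      rw [smul_smul]
      have h4 : u * (k⁻¹ * z⁻¹) = k⁻¹ * z⁻¹ * u := by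
        calc u * (k⁻¹ * z⁻¹) = u * (k⁻¹ * z⁻¹) * (u * u) := by rw [sq_one hu, mul_one]
          _ = u * (k⁻¹ * z⁻¹) * u * u := by group
          _ = _ := by rw [hzc]
      rw [h4, mul_smul, huc]
    rw [mul_smul, inv_smul_eq_iff, hke] at hyc
    exact hyc

omit huc huM hmove h1 in
/-- An invariant subgroup of a prime power order inside an odd group transitive on a set of size prime
to it fixes the centre. -/
theorem fix_centre_of_invariant {p : ℕ} [Fact p.Prime] (O : Subgroup G) (hO : Odd (Nat.card O))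
    (huO : u ∈ Subgroup.normalizer (O : Set G)) (huc' : u • c = c)
    (hdvd : ¬ p ∣ (MulAction.orbit O c).ncard) {R : Subgroup G} (hR : IsPGroup p R) (hRO : R ≤ O)
    (huR : u ∈ Subgroup.normalizer (R : Set G)) : R ≤ St c := by
  have hA : Subgroup.zpowers u ≤ Subgroup.normalizer (O : Set G) := Subgroup.zpowers_le.2 huO
  have hco := zpowers_coprime hse hu hO
  have hsol : Group.IsSolvable (Subgroup.zpowers u) ∨ Group.IsSolvable O := Or.inr (odd_solvable hO)
  obtain ⟨P, hP, hRP, huP⟩ := Solv.exists_invariant_sylow_ge hA hco hsol R hRO hR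
    (Subgroup.zpowers_le.2 huR)
  have hucn : u ∈ Subgroup.normalizer ((O ⊓ St c : Subgroup G) : Set G) :=
    Fusion.mem_normalizer_of_cj_le (by
      rintro _ ⟨x, hx, rfl⟩
      exact ⟨Solv.conj_mem_of_mem_normalizer huO hx.1, (St c).mul_mem ((St c).mul_mem huc' hx.2)
        ((St c).inv_mem huc')⟩)
  have hoddc : Odd (Nat.card ↥(O ⊓ St c)) := hO.of_dvd_nat (Subgroup.card_dvd_of_le inf_le_left)
  obtain ⟨T, hT, huT⟩ := Solv.exists_invariant_sylow (A := Subgroup.zpowers u) (K := O ⊓ St c)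
    (Subgroup.zpowers_le.2 hucn) (zpowers_coprime hse hu hoddc) (Or.inr (odd_solvable hoddc)) p
  have hTO : Solv.IsSylIn p T O := by
    refine ⟨hT.1.trans inf_le_left, ?_⟩
    have hmul : (O ⊓ St c).relIndex O * Nat.card ↥(O ⊓ St c) = Nat.card O := by
      rw [mul_comm, ← Nat.card_congr (Subgroup.subgroupOfEquivOfLe (inf_le_left : O ⊓ St c ≤ O)).toEquiv]
      exact ((O ⊓ St c).subgroupOf O).card_mul_index
    rw [hT.2, ← hmul, Nat.factorization_mul, Finsupp.add_apply,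
      Nat.factorization_eq_zero_of_not_dvd (n := (O ⊓ St c).relIndex O), zero_add]
    · rwa [← ncard_orbit_sub]
    · exact fun h => Subgroup.index_ne_zero_of_finite h
    · exact Nat.card_pos.ne'
  obtain ⟨k, hk, hkP⟩ := Solv.invariant_sylow_conj hA hco hsol hTO hP huT huP
  have hkc : k • c = c := fixed_unique hse hu (by
    rw [smul_smul, Subgroup.mem_centralizer_iff.1 hk.2 u (Subgroup.mem_zpowers u), ← smul_smul, huc']) huc'
  intro x hx
  have hx' : x ∈ P := hRP hx
  rw [← hkP, Solv.mem_conj_smul] at hx'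
  have h2 : (k⁻¹ * x * k) • c = c := (hT.1 hx').2
  show x • c = c
  rwa [mul_smul, mul_smul, hkc, inv_smul_eq_iff, hkc] at h2

end rankOne

/-- **A proper subgroup normalised by an involution and containing one commuting with it and with the
same centre lies in the point stabiliser, or contains that involution.** -/
theorem Min.le_St_or_mem (hM : Min H) {M : Subgroup G} (hMt : M ≠ ⊤) {c : G ⧸ H} {v s : G}
    (hv : orderOf v = 2) (hvc : v • c = c) (hvM : v ∈ Subgroup.normalizer (M : Set G))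
    (hs : orderOf s = 2) (hsM : s ∈ M) (hvs : Commute v s) : M ≤ St c ∨ v ∈ M := by
  by_cases hle : M ≤ St c
  · exact Or.inl hle
  have hsc : s • c = c :=
    fixed_unique hM.hse hv (by rw [smul_smul, hvs.eq, ← smul_smul, hvc]) hvc
  have hmove : ∃ g ∈ M, g • c ≠ c := by
    obtain ⟨g, hg, hgc⟩ := SetLike.not_le_iff_exists.1 hle
    exact ⟨g, hg, hgc⟩
  by_cases h2 : Two M c
  · right
    obtain ⟨g, hg, hgc⟩ := hmove
    have ha : g • c ∈ MulAction.orbit M c := ⟨⟨g, hg⟩, rfl⟩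
    have he : v • g • c ∈ MulAction.orbit M c := by
      refine ⟨⟨v * g * v⁻¹, Solv.conj_mem_of_mem_normalizer hvM hg⟩, ?_⟩
      show (v * g * v⁻¹) • c = _
      rw [mul_smul, mul_smul, inv_smul_eq_iff.2 hvc.symm]
    have hne : v • g • c ≠ c := fun e => hgc (smul_left_cancel v (e.trans hvc.symm))
    obtain ⟨k, hk, hkc, -, hka⟩ := hM.sub_two_transitive hMt h2 ⟨g, hg, hgc⟩ hgc ha hne he
    exact mem_of_normalize_fix hM.hse hv hvc hvM hk hkc hgc hka rfl
  by_cases hvM' : v ∈ M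
  · exact Or.inr hvM'
  exfalso
  have hne : v ≠ s := fun e => hvM' (e ▸ hsM)
  have hfix : ∀ x : G, orderOf x = 2 → x • c = c → ∀ k : G, x * k * x⁻¹ = k → k • c = c :=
    fun x hx hxc k hk => fixed_unique hM.hse hx
      (by rw [smul_smul, mul_inv_eq_iff_eq_mul.1 hk, ← smul_smul, hxc]) hxc
  have hvs2 : orderOf (v * s) = 2 := by
    refine orderOf_eq_prime (by rw [hvs.mul_pow, pow_two, pow_two, sq_one hv, sq_one hs, one_mul])
      fun e => hne ((eq_inv_of_mul_eq_one_left e).trans (inv_self hs))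
  have hvsc : (v * s) • c = c := by rw [mul_smul, hsc, hvc]
  set O := OO M
  let ψ := Subgroup.normalizerMonoidHom O
  let nv : Subgroup.normalizer (O : Set G) := ⟨v, OO_normalizer hvM⟩
  let ns : Subgroup.normalizer (O : Set G) := ⟨s, OO_normalizer (Subgroup.le_normalizer hsM)⟩
  have hβ : ψ nv * ψ nv = 1 := by
    rw [← map_mul, show nv * nv = 1 from Subtype.ext (sq_one hv), map_one]
  have hδ : ψ ns * ψ ns = 1 := by
    rw [← map_mul, show ns * ns = 1 from Subtype.ext (sq_one hs), map_one]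
  have hcom : Commute (ψ nv) (ψ ns) :=
    (show Commute nv ns from Subtype.ext hvs.eq).map ψ
  refine hle fun g hg => ?_
  obtain ⟨k, hk, hkc⟩ := exists_mul_centralizer hM.hse hs hsc hsM hmove h2 hg
  have hOc : k • c = c := Subgroup.mem_subgroupOf.1 (PGV.four_generation (OO_odd M) (ψ nv) (ψ ns) hβ hδ
    hcom ((St c).subgroupOf O)
    (fun x h => Subgroup.mem_subgroupOf.2 (hfix v hv hvc x (congrArg Subtype.val h)))
    (fun x h => Subgroup.mem_subgroupOf.2 (hfix s hs hsc x (congrArg Subtype.val h)))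
    (fun x h => Subgroup.mem_subgroupOf.2 (hfix (v * s) hvs2 hvsc x (by
      calc v * s * (x : G) * (v * s)⁻¹ = v * (s * x * s⁻¹) * v⁻¹ := by group
        _ = x := congrArg Subtype.val h))) ⟨k, hk⟩)
  have h3 : (k⁻¹ * g) • c = c :=
    fixed_unique hM.hse hs (by rw [smul_smul, ← hkc.eq, ← smul_smul, hsc]) hsc
  rw [mul_smul, inv_smul_eq_iff, hOc] at h3
  exact h3

end Cfsg.Agent.SEB
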